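import Cfsg.Agent.H6.M11.Base
import Cfsg.Agent.S2034

/-!
# Cores isomorphic to the Mathieu group of degree 11, dimension at most 12, characteristic not 3 (helper6)
-/

set_option autoImplicit false
set_option linter.unusedSectionVars false
set_option linter.unusedVariables false
set_option maxRecDepth 100000

namespace Cfsg.Agent.H6.M11

open Matrix Module Cfsg Cfsg.Geo Cfsg.Agent.H915.LD

universe u

section tools

variable {ι : Type} [Fintype ι] [DecidableEq ι] {F : Type u} [Field F] {P : Subgroup (GL ι F)}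

/-- the trace of a `p`-element -/
theorem tr_of_pow [Finite F] (p : ℕ) [Fact p.Prime] [CharP F p] {g : GL ι F} {j : ℕ} (hg : g ^ p ^ j = 1) :
    tr g = (Fintype.card ι : F) := by
  have h1 := tr_pow_char p g j
  rw [hg] at h1
  have h2 : tr (1 : GL ι F) = (Fintype.card ι : F) := by
    unfold tr
    rw [Units.val_one, Matrix.trace_one]
  have h3 := tr_pow_char p (1 : GL ι F) j
  rw [one_pow, h2] at h3
  rw [h2] at h1
  have h4 : (tr g) ^ p ^ j = (Fintype.card ι : F) ^ p ^ j := by rw [← h1, ← h3]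
  exact iterateFrobenius_inj F p j (by rw [iterateFrobenius_def, iterateFrobenius_def]; exact h4)

theorem exists_root (k : Type*) [Field k] [IsAlgClosed k] (m : ℕ) (hm : (m : k) ≠ 0) : ∃ ζ : k, IsPrimitiveRoot ζ m := by
  have : NeZero (m : k) := ⟨hm⟩
  have h : HasEnoughRootsOfUnity k m := inferInstance
  exact HasEnoughRootsOfUnity.exists_primitiveRoot k m

theorem cast_ne {p : ℕ} (k : Type*) [Field k] [CharP k p] (hp : p.Prime) {q : ℕ} (hq : q.Prime) (h : p ≠ q) :
    (q : k) ≠ 0 := by
  intro h0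
  rw [CharP.cast_eq_zero_iff k p] at h0
  exact h ((Nat.prime_dvd_prime_iff_eq hp hq).1 h0)

end tools

section letters

variable {ι : Type} [Fintype ι] [DecidableEq ι] {F : Type u} [Field F] {P : Subgroup (GL ι F)}

theorem tw_rep (k : Type*) [Field k] [Algebra F k] (v : ℕ → P) (w : List ℕ) :
    tw v (rep P k) w = algebraMap F k (tr ((ev v w : P) : GL ι F)) := by
  rw [tw, op, trace_rep]

theorem tr_eq_of_tw (k : Type*) [Field k] [Algebra F k] (v : ℕ → P) {w w' : List ℕ}
    (h : tw v (rep P k) w = tw v (rep P k) w') : tr ((ev v w : P) : GL ι F) = tr ((ev v w' : P) : GL ι F) := by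
  rw [tw_rep, tw_rep] at h
  exact (algebraMap F k).injective h

/-- the trace of the elements of order 11 is real (dimension at most 12, `p ≠ 3`) -/
theorem real_eleven [Finite F] (p : ℕ) [hp : Fact p.Prime] [CharP F p] (hp3 : p ≠ 3) {v : ℕ → P} (hv : Sat v)
    (hv0 : v 0 ≠ 1) (hn : Fintype.card ι ≤ 12) :
    tr (((ev v [5] : P)⁻¹ : P) : GL ι F) = tr ((ev v [5] : P) : GL ι F) := by
  have h10 : (ev v [5])⁻¹ = ev v [5, 5, 5, 5, 5, 5, 5, 5, 5, 5] := by
    rw [inv_eq_iff_mul_eq_one, ← ev_append, ← ev_nil v]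
    exact hv.base (by decide +kernel)
  by_cases h11 : p = 11
  · subst h11
    have e1 : (ev v [5]) ^ 11 ^ 1 = 1 := by
      rw [pow_one, ev_pow, ← ev_nil v]
      exact hv.base (by decide +kernel)
    have e2 : ((ev v [5] : P) : GL ι F) ^ 11 ^ 1 = 1 := by exact_mod_cast congrArg Subtype.val e1
    have e3 : (((ev v [5] : P)⁻¹ : P) : GL ι F) ^ 11 ^ 1 = 1 := by
      rw [Subgroup.coe_inv, inv_pow, e2, inv_one]
    rw [tr_of_pow 11 e2, tr_of_pow 11 e3]
  · rw [h10]
    have hck : CharP (AlgebraicClosure F) p := charP_of_injective_algebraMap (algebraMap F _).injective p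
    obtain ⟨ω, hω⟩ := exists_root (AlgebraicClosure F) 3 (cast_ne _ hp.out Nat.prime_three hp3)
    obtain ⟨ζ, hζ⟩ := exists_root (AlgebraicClosure F) 11 (cast_ne _ hp.out (by norm_num) h11)
    refine tr_eq_of_tw (AlgebraicClosure F) v (hv.eleven_real hω hζ ?_ ?_)
    · intro h
      have h1 := rep_eq_one _ h
      rw [ev_cons, ev_nil, mul_one] at h1
      exact hv0 h1
    · rw [Module.finrank_fintype_fun_eq_card]
      exact hn

/-- the inverse of `y` -/
theorem Sat.y_inv {G : Type*} [Group G] {v : ℕ → G} (hv : Sat v) :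
    (ev v [2])⁻¹ = ev v [2, 2, 2, 2, 2, 2, 2] := by
  rw [inv_eq_iff_mul_eq_one, ← ev_append, ← ev_nil v]
  exact hv.base (by decide +kernel)

/-- if the trace of `y` is not real then there is an invariant line or the dimension is 10 -/
theorem line_of [Finite F] (p : ℕ) [hp : Fact p.Prime] [CharP F p] (hp3 : p ≠ 3) (hp2 : p ≠ 2) {v : ℕ → P} (hv : Sat v)
    (hv0 : v 0 ≠ 1) (hn : Fintype.card ι ≤ 12)
    (hy : tr (((ev v [2] : P)⁻¹ : P) : GL ι F) ≠ tr ((ev v [2] : P) : GL ι F)) :
    Fintype.card ι = 10 ∨ (tr ((ev v [2, 2] : P) : GL ι F) ≠ 0 ∧ ∃ u : ι → AlgebraicClosure F, u ≠ 0 ∧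
      ∃ c : AlgebraicClosure F, rep P _ (v 0) u = u ∧ rep P _ (v 1) u = u ∧ rep P _ (v 4) u = u ∧
        rep P _ (v 2) u = c • u ∧ rep P _ (v 3) u = c • u) := by
  by_cases h10 : Fintype.card ι = 10
  · exact Or.inl h10
  right
  have hck : CharP (AlgebraicClosure F) p := charP_of_injective_algebraMap (algebraMap F _).injective p
  obtain ⟨ω, hω⟩ := exists_root (AlgebraicClosure F) 3 (cast_ne _ hp.out Nat.prime_three hp3)
  have h2 : (2 : AlgebraicClosure F) ≠ 0 := cast_ne _ hp.out Nat.prime_two hp2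
  obtain ⟨h4, u, hu, c, h5⟩ := hv.line (R := rep P (AlgebraicClosure F)) hω h2 (by
    intro h
    have h1 := rep_eq_one _ h
    rw [ev_cons, ev_nil, mul_one] at h1
    exact hv0 h1) (by rw [Module.finrank_fintype_fun_eq_card]; exact hn)
    (by rw [Module.finrank_fintype_fun_eq_card]; exact h10) (by
    intro h
    apply hy
    rw [hv.y_inv]
    exact tr_eq_of_tw _ v h)
  have e : ∀ i, op v (rep P (AlgebraicClosure F)) [i] = rep P (AlgebraicClosure F) (v i) := by
    intro i
    rw [op, ev_cons, ev_nil, mul_one]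
  rw [e, e, e, e, e] at h5
  refine ⟨?_, u, hu, c, h5⟩
  intro h6
  apply h4
  rw [tw_rep, h6, map_zero]

/-- the dimension is at least 9 -/
theorem nine_le_of [Finite F] (p : ℕ) [hp : Fact p.Prime] [CharP F p] (hp3 : p ≠ 3) (hp2 : p ≠ 2) {v : ℕ → P}
    (hv : Sat v) (hv0 : v 0 ≠ 1) (hn : Fintype.card ι ≤ 12) : 9 ≤ Fintype.card ι := by
  have hck : CharP (AlgebraicClosure F) p := charP_of_injective_algebraMap (algebraMap F _).injective p
  obtain ⟨ω, hω⟩ := exists_root (AlgebraicClosure F) 3 (cast_ne _ hp.out Nat.prime_three hp3)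
  have h2 : (2 : AlgebraicClosure F) ≠ 0 := cast_ne _ hp.out Nat.prime_two hp2
  have h := hv.nine_le (R := rep P (AlgebraicClosure F)) hω h2 (by
    intro h
    have h1 := rep_eq_one _ h
    rw [ev_cons, ev_nil, mul_one] at h1
    exact hv0 h1) (by rw [Module.finrank_fintype_fun_eq_card]; exact hn)
  rwa [Module.finrank_fintype_fun_eq_card] at h

end letters

section main

variable {ι : Type} [Fintype ι] [DecidableEq ι] {F : Type u} [Field F] [Finite F] {P : Subgroup (GL ι F)}

theorem tr_isConj {a b : P} (h : IsConj a b) : tr (a : GL ι F) = tr (b : GL ι F) := tr_of_isConj h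

/-- the letters in a core isomorphic to the group of degree 11 -/
theorem exists_letters (hC : Core P) (h : Spor.IsoM11 (Soc P)) :
    ∃ e : P ≃* Spor.M11, True := by
  obtain ⟨e⟩ := h
  obtain ⟨e', -⟩ := hC.equiv_of_coprime e S2034.result (by
    rw [Nat.card_eq_fintype_card, Fintype.card_multiplicative, ZMod.card]
    exact Nat.coprime_one_left _)
  exact ⟨e', trivial⟩

/-- **Stage 1 for the Mathieu group of degree 11, characteristic not 3.** -/
theorem m11_ne_three (hC : Core P) (p : ℕ) [hp : Fact p.Prime] [CharP F p] (hp3 : p ≠ 3)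
    (h : Spor.IsoM11 (Soc P)) (hn : Fintype.card ι ≤ 12) :
    SD P ∨ (Fintype.card ι = 10 ∧ (((p % 8 = 1 ∨ p % 8 = 3) ∧ Fr P p) ∨ ((p % 8 = 5 ∨ p % 8 = 7) ∧ Cj P p))) := by
  obtain ⟨e, -⟩ := exists_letters hC h
  have hP : Spor.IsoM11 P := ⟨e⟩
  let v : ℕ → P := fun i => e.symm (v11 i)
  have hv : Sat v := sat_11.map e.symm.toMonoidHom
  have hv0 : v 0 ≠ 1 := by
    intro h0
    apply v11_zero_ne
    have := congrArg e h0
    rwa [MulEquiv.apply_symm_apply, map_one] at this
  have hev : ∀ w, ev v w = e.symm (ev v11 w) := fun w => (map_ev v11 e.symm.toMonoidHom w).symm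
  have ho : ∀ w, orderOf (ev v w) = orderOf (ev v11 w) := by
    intro w
    rw [hev]
    exact MulEquiv.orderOf_eq _ _
  have o6 : orderOf (ev v [3, 0]) = 6 := (ho _).trans orders_11.1
  have o8 : orderOf (ev v [2]) = 8 := (ho _).trans orders_11.2.1
  have o5 : orderOf (ev v [6]) = 5 := (ho _).trans orders_11.2.2.1
  have o11 : orderOf (ev v [5]) = 11 := (ho _).trans orders_11.2.2.2
  let χ : P → F := fun g => tr (g : GL ι F)
  have hχ : ∀ a b, IsConj a b → χ a = χ b := fun a b hab => tr_isConj hab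
  have r11 : χ (ev v [5])⁻¹ = χ (ev v [5]) := real_eleven p hp3 hv hv0 hn
  by_cases r8 : χ (ev v [2])⁻¹ = χ (ev v [2])
  · left
    intro g hg
    exact eq_of_order hP o6 o8 o5 o11 χ hχ r8 r11 (a := ⟨g, hg⟩⁻¹) (b := ⟨g, hg⟩) (orderOf_inv _)
  · -- the trace of `y` is not real
    have hp2 : p ≠ 2 := by
      rintro rfl
      apply r8
      have e1 : (ev v [2]) ^ 2 ^ 3 = 1 := by
        rw [show 2 ^ 3 = 8 by norm_num, ← o8]
        exact pow_orderOf_eq_one _
      have e2 : ((ev v [2] : P) : GL ι F) ^ 2 ^ 3 = 1 := by exact_mod_cast congrArg Subtype.val e1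
      have e3 : (((ev v [2] : P)⁻¹ : P) : GL ι F) ^ 2 ^ 3 = 1 := by
        rw [Subgroup.coe_inv, inv_pow, e2, inv_one]
      exact (tr_of_pow 2 e3).trans (tr_of_pow 2 e2).symm
    rcases line_of p hp3 hp2 hv hv0 hn r8 with h10 | ⟨-, u, hu, c, hu0, hu1, hu4, hu2, hu3⟩
    · -- dimension 10
      right
      refine ⟨h10, ?_⟩
      have hpodd : p % 2 = 1 := by
        rcases hp.out.eq_two_or_odd with h0 | h0
        · exact absurd h0 hp2
        · exact h0
      have hne8 : ∀ g : P, ¬ p ∣ orderOf g → orderOf g ≠ 8 → χ (g ^ p) = χ g ∧ χ g⁻¹ = χ g := by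
        intro g hg hg8
        have h1 : orderOf (g ^ p) = orderOf g := by
          rw [orderOf_pow, (Nat.Coprime.symm ((Nat.Prime.coprime_iff_not_dvd hp.out).2 hg)).gcd_eq_one, Nat.div_one]
        exact ⟨eq_of_order' hP o6 o8 o5 o11 χ hχ r11 h1 (by rw [h1]; exact hg8),
          eq_of_order' hP o6 o8 o5 o11 χ hχ r11 (orderOf_inv g) (by rw [orderOf_inv]; exact hg8)⟩
      have hpow : ∀ g : P, tr (g : GL ι F) ^ p = χ (g ^ p) := by
        intro g
        have := tr_pow_char p (g : GL ι F) 1
        rw [pow_one] at this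
        exact this.symm
      have h8 : ∀ g : P, orderOf g = 8 → g ^ p = g ^ (p % 8) := by
        intro g hg
        rw [← hg, pow_mod_orderOf]
      have hc8 : ∀ g : P, orderOf g = 8 → χ (g ^ 3) = χ g := fun g hg =>
        (hχ _ _ (H180.KM11.cube_order_eight hP hg)).symm
      have hcase : p % 8 = 1 ∨ p % 8 = 3 ∨ p % 8 = 5 ∨ p % 8 = 7 := by omega
      rcases hcase with hm | hm | hm | hm
      · refine Or.inl ⟨Or.inl hm, Fr.of_reg' p ?_⟩
        intro g hg hreg
        have hreg' : ¬ p ∣ orderOf (⟨g, hg⟩ : P) := by rwa [Subgroup.orderOf_mk]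
        rw [hpow ⟨g, hg⟩]
        by_cases h0 : orderOf (⟨g, hg⟩ : P) = 8
        · rw [h8 _ h0, hm, pow_one]
        · exact (hne8 _ hreg' h0).1
      · refine Or.inl ⟨Or.inr hm, Fr.of_reg' p ?_⟩
        intro g hg hreg
        have hreg' : ¬ p ∣ orderOf (⟨g, hg⟩ : P) := by rwa [Subgroup.orderOf_mk]
        rw [hpow ⟨g, hg⟩]
        by_cases h0 : orderOf (⟨g, hg⟩ : P) = 8
        · rw [h8 _ h0, hm]
          exact hc8 _ h0
        · exact (hne8 _ hreg' h0).1
      · refine Or.inr ⟨Or.inl hm, Cj.of_reg' p ?_⟩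
        intro g hg hreg
        have hreg' : ¬ p ∣ orderOf (⟨g, hg⟩ : P) := by rwa [Subgroup.orderOf_mk]
        rw [hpow ⟨g, hg⟩]
        by_cases h0 : orderOf (⟨g, hg⟩ : P) = 8
        · rw [h8 _ h0, hm]
          have h1 : (⟨g, hg⟩ : P) ^ 5 = ((⟨g, hg⟩ : P)⁻¹) ^ 3 := by
            have h2 : (⟨g, hg⟩ : P) ^ 8 = 1 := by rw [← h0]; exact pow_orderOf_eq_one _
            rw [inv_pow]
            apply eq_inv_of_mul_eq_one_left
            rw [← pow_add]
            exact h2
          rw [h1]
          exact hc8 _ (by rw [orderOf_inv]; exact h0)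
        · exact (hne8 _ hreg' h0).1.trans (hne8 _ hreg' h0).2.symm
      · refine Or.inr ⟨Or.inr hm, Cj.of_reg' p ?_⟩
        intro g hg hreg
        have hreg' : ¬ p ∣ orderOf (⟨g, hg⟩ : P) := by rwa [Subgroup.orderOf_mk]
        rw [hpow ⟨g, hg⟩]
        by_cases h0 : orderOf (⟨g, hg⟩ : P) = 8
        · rw [h8 _ h0, hm]
          have h1 : (⟨g, hg⟩ : P) ^ 7 = (⟨g, hg⟩ : P)⁻¹ := by
            have h2 : (⟨g, hg⟩ : P) ^ 8 = 1 := by rw [← h0]; exact pow_orderOf_eq_one _
            apply eq_inv_of_mul_eq_one_left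
            rw [← pow_succ]
            exact h2
          rw [h1]
          rfl
        · exact (hne8 _ hreg' h0).1.trans (hne8 _ hreg' h0).2.symm
    · -- an invariant line : impossible
      exfalso
      let S : Submodule (AlgebraicClosure F) (ι → AlgebraicClosure F) := Submodule.span _ {u}
      -- the stabilizer of the line
      let K : Subgroup P :=
        { carrier := {g | ∃ c : (AlgebraicClosure F), c ≠ 0 ∧ rep P _ g u = c • u}
          one_mem' := ⟨1, one_ne_zero, by rw [map_one, one_smul]; rfl⟩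
          mul_mem' := by
            rintro a b ⟨c1, h1, h1'⟩ ⟨c2, h2, h2'⟩
            exact ⟨c2 * c1, mul_ne_zero h2 h1, by rw [map_mul, Module.End.mul_apply, h2', map_smul, h1', smul_smul]⟩
          inv_mem' := by
            rintro a ⟨c1, h1, h1'⟩
            refine ⟨c1⁻¹, inv_ne_zero h1, ?_⟩
            have h3 : rep P (AlgebraicClosure F) a⁻¹ (rep P _ a u) = u := by
              rw [← Module.End.mul_apply, ← map_mul, inv_mul_cancel, map_one]; rfl
            rw [h1', map_smul] at h3
            rw [eq_inv_smul_iff₀ h1]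
            exact h3 }
      have hcne : c ≠ 0 := by
        rintro rfl
        rw [zero_smul] at hu2
        have h3 : rep P (AlgebraicClosure F) (v 2)⁻¹ (rep P _ (v 2) u) = u := by
          rw [← Module.End.mul_apply, ← map_mul, inv_mul_cancel, map_one]; rfl
        rw [hu2, map_zero] at h3
        exact hu h3.symm
      have m0 : v 0 ∈ K := ⟨1, one_ne_zero, by rw [hu0, one_smul]⟩
      have m1 : v 1 ∈ K := ⟨1, one_ne_zero, by rw [hu1, one_smul]⟩
      have m4 : v 4 ∈ K := ⟨1, one_ne_zero, by rw [hu4, one_smul]⟩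
      have m2 : v 2 ∈ K := ⟨c, hcne, hu2⟩
      have m3 : v 3 ∈ K := ⟨c, hcne, hu3⟩
      have hw : ∀ w : List ℕ, (∀ i ∈ w, i ≤ 4) → ev v w ∈ K := by
        intro w
        induction w with
        | nil => intro _; rw [ev_nil]; exact one_mem _
        | cons i w ih =>
          intro hi
          rw [ev_cons]
          refine mul_mem ?_ (ih fun j hj => hi j (List.mem_cons_of_mem _ hj))
          have h4 : i ≤ 4 := hi i List.mem_cons_self
          interval_cases i
          · exact m0
          · exact m1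
          · exact m2
          · exact m3
          · exact m4
      have m5 : v 5 ∈ K := by
        have h1 : ev v [5] = ev v [2, 0, 2, 3, 4, 0, 4] := hv.base (by decide +kernel)
        rw [ev_cons, ev_nil, mul_one] at h1
        rw [h1]
        exact hw _ (by decide)
      have m8 : v 8 ∈ K := by
        have h1 : ev v [8] = ev v [2, 3, 2, 0] := hv.base (by decide +kernel)
        rw [ev_cons, ev_nil, mul_one] at h1
        rw [h1]
        exact hw _ (by decide)
      have htop : K = ⊤ := by
        rw [eq_top_iff]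
        have h1 : Subgroup.closure ({v 5, v 8} : Set P) = ⊤ := by
          have h2 := congrArg (Subgroup.map e.symm.toMonoidHom) closure_11
          rw [MonoidHom.map_closure, Set.image_pair, Subgroup.map_top_of_surjective _ e.symm.surjective] at h2
          exact h2
        rw [← h1, Subgroup.closure_le]
        rintro g (rfl | hg)
        · exact m5
        · rw [Set.mem_singleton_iff.1 hg]
          exact m8
      have hinv := invariant (AlgebraicClosure F) hC S (by
        intro g x hx
        have hgK : g ∈ K := by rw [htop]; trivial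
        obtain ⟨c1, -, h1⟩ := hgK
        rw [Submodule.mem_span_singleton] at hx ⊢
        obtain ⟨a, rfl⟩ := hx
        exact ⟨a * c1, by rw [map_smul, h1, smul_smul]⟩)
      have hS1 : finrank (AlgebraicClosure F) S = 1 := finrank_span_singleton hu
      rcases hinv with h1 | h1
      · rw [h1, finrank_bot] at hS1
        exact absurd hS1 (by norm_num)
      · rw [h1, finrank_top, Module.finrank_fintype_fun_eq_card] at hS1
        have := hC.two_le
        omega

end main

end Cfsg.Agent.H6.M11
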