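import Cfsg.Agent.H6.M11.Real12
import Cfsg.Agent.H6.M11.Stage11
import Cfsg.Agent.S2035

/-!
# Cores isomorphic to the Mathieu group of degree 12, dimension at most 12, characteristic not 3 (helper6)
-/

set_option autoImplicit false
set_option linter.unusedSectionVars false
set_option linter.unusedVariables false
set_option maxRecDepth 100000

namespace Cfsg.Agent.H6.M11

open Matrix Module Cfsg Cfsg.Geo Cfsg.Agent.H915.LD

universe u

variable {ι : Type} [Fintype ι] [DecidableEq ι] {F : Type u} [Field F] [Finite F] {P : Subgroup (GL ι F)}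

/-- the letters in a group isomorphic to the group of degree 12 -/
theorem letters_12 (e : P ≃* Spor.M12) : Sat (fun i => e.symm (vH i)) ∧ e.symm (vH 0) ≠ 1 := by
  refine ⟨sat_H.map e.symm.toMonoidHom, ?_⟩
  intro h
  have h1 : vH 0 = 1 := by
    have := congrArg e h
    rwa [MulEquiv.apply_symm_apply, map_one] at this
  apply v11_zero_ne
  apply Subtype.ext
  show ((vH 0 : Spor.M12) : Equiv.Perm GolayPt) = 1
  rw [h1]
  rfl

/-- the group of degree 12: real traces -/
theorem sd_of_equiv (p : ℕ) [hp : Fact p.Prime] [CharP F p] (hp3 : p ≠ 3) (e : P ≃* Spor.M12)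
    (hn : Fintype.card ι ≤ 12) : SD P := by
  obtain ⟨hv, hv0⟩ := letters_12 e
  have h1 := real_eleven p hp3 hv hv0 hn
  have hev : ∀ w, ev (fun i => e.symm (vH i)) w = e.symm (ev vH w) := fun w => (map_ev vH e.symm.toMonoidHom w).symm
  rw [hev, ← map_inv] at h1
  let χ : Spor.M12 → F := fun g => tr ((e.symm g : P) : GL ι F)
  have hχ : ∀ g m : Spor.M12, χ (m * g * m⁻¹) = χ g := by
    intro g m
    have h2 : IsConj (e.symm g) (e.symm (m * g * m⁻¹)) := by
      rw [isConj_iff]
      exact ⟨e.symm m, by rw [map_mul, map_mul, map_inv]⟩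
    exact (tr_isConj h2).symm
  intro g hg
  have h3 := real_fun χ hχ h1 (e ⟨g, hg⟩)
  have h4 : χ (e ⟨g, hg⟩)⁻¹ = tr g⁻¹ := by
    show tr ((e.symm (e ⟨g, hg⟩)⁻¹ : P) : GL ι F) = _
    rw [map_inv, MulEquiv.symm_apply_apply]
    rfl
  have h5 : χ (e ⟨g, hg⟩) = tr g := by
    show tr ((e.symm (e ⟨g, hg⟩) : P) : GL ι F) = _
    rw [MulEquiv.symm_apply_apply]
  rw [← h4, ← h5]
  exact h3

/-- the two cases for the core -/
theorem m12_cases (hC : Core P) (h : Spor.IsoM12 (Soc P)) :
    Nonempty (P ≃* Spor.M12) ∨ (Nat.card ((scalars ι F).subgroupOf P) = 2 ∧ Even (Fintype.card ι) ∧ (2 : F) ≠ 0 ∧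
      ∃ z : P, ((z : GL ι F) : Matrix ι ι F) = -1) := by
  obtain ⟨e⟩ := h
  have h1 := hC.card_scalars_dvd e S2035.result
  rw [Nat.card_eq_fintype_card (α := Multiplicative (ZMod 2)), Fintype.card_multiplicative, ZMod.card] at h1
  rcases (Nat.dvd_prime Nat.prime_two).1 h1 with h2 | h2
  · left
    have h3 : (scalars ι F).subgroupOf P = ⊥ := Subgroup.card_eq_one.1 h2
    have h4 : Function.Injective (e.toMonoidHom.comp (toSoc P)) := by
      rw [← MonoidHom.ker_eq_bot_iff]
      exact (ker_comp e).trans h3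
    exact ⟨MulEquiv.ofBijective _ ⟨h4, e.surjective.comp (toSoc_surjective P)⟩⟩
  · right
    have hnt : Nontrivial ((scalars ι F).subgroupOf P) := by
      rw [← Finite.one_lt_card_iff_nontrivial, h2]
      norm_num
    obtain ⟨⟨z, hz⟩, hz1⟩ := exists_ne (1 : (scalars ι F).subgroupOf P)
    have hz1' : z ≠ 1 := fun h => hz1 (Subtype.ext h)
    have hz2 : z ^ 2 = 1 := by
      have h3 : (⟨z, hz⟩ : (scalars ι F).subgroupOf P) ^ 2 = 1 := by rw [← h2]; exact pow_card_eq_one'
      exact congrArg Subtype.val h3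
    obtain ⟨c', hc⟩ := (mem_scalars_iff _).1 (Subgroup.mem_subgroupOf.1 hz)
    generalize (c' : F) = c at hc
    have hne := hC.nonempty
    have hone : (1 : Matrix ι ι F) ≠ 0 := one_ne_zero
    have hc2 : c ^ 2 = 1 := by
      have h3 : (((z ^ 2 : P) : GL ι F) : Matrix ι ι F) = 1 := by rw [hz2]; rfl
      rw [Subgroup.coe_pow, Units.val_pow_eq_pow_val, hc, smul_pow, one_pow] at h3
      obtain ⟨i⟩ := hne
      have h4 := congrFun (congrFun h3 i) i
      simpa using h4
    have hc1 : c ≠ 1 := by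
      rintro rfl
      apply hz1'
      apply Subtype.ext
      apply Units.ext
      rw [hc, one_smul]
      rfl
    have hcm : c = -1 := by
      have h3 : (c - 1) * (c + 1) = 0 := by linear_combination hc2
      rcases mul_eq_zero.1 h3 with h4 | h4
      · exact absurd (sub_eq_zero.1 h4) hc1
      · linear_combination h4
    subst hcm
    have h2F : (2 : F) ≠ 0 := by
      intro h3
      apply hc1
      linear_combination -h3
    refine ⟨h2, ?_, h2F, z, by rw [hc, neg_one_smul]⟩
    have h3 := hC.scalar_pow z.2 hc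
    by_contra hodd
    rw [Nat.not_even_iff_odd] at hodd
    rw [hodd.neg_one_pow] at h3
    exact hc1 h3

/-- **Stage 1 for the Mathieu group of degree 12, characteristic not 3**: the traces are real or the core is a
double cover. -/
theorem m12_ne_three (hC : Core P) (p : ℕ) [hp : Fact p.Prime] [CharP F p] (hp3 : p ≠ 3)
    (h : Spor.IsoM12 (Soc P)) (hn : Fintype.card ι ≤ 12) :
    SD P ∨ (Nat.card ((scalars ι F).subgroupOf P) = 2 ∧ Even (Fintype.card ι) ∧ (2 : F) ≠ 0 ∧
      ∃ z : P, ((z : GL ι F) : Matrix ι ι F) = -1) := by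
  rcases m12_cases hC h with ⟨⟨e⟩⟩ | h1
  · exact Or.inl (sd_of_equiv p hp3 e hn)
  · exact Or.inr h1

/-- odd dimension or characteristic 2 -/
theorem m12_odd (hC : Core P) (p : ℕ) [hp : Fact p.Prime] [CharP F p] (hp3 : p ≠ 3)
    (h : Spor.IsoM12 (Soc P)) (hn : Fintype.card ι ≤ 12) (h2 : Odd (Fintype.card ι) ∨ p = 2) : SD P := by
  rcases m12_ne_three hC p hp3 h hn with h1 | ⟨-, h3, h4, -⟩
  · exact h1
  · exfalso
    rcases h2 with h2 | rfl
    · exact (Nat.not_even_iff_odd.2 h2) h3
    · apply h4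
      have := CharP.cast_eq_zero F 2
      exact_mod_cast this

end Cfsg.Agent.H6.M11
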