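import Cfsg.Agent.H6.M11.Cover20
import Cfsg.Agent.H6.M11.Stage12

/-!
# Cores with socle the Mathieu group of degree 12, dimension at most 11, characteristic at least 5 (helper6)
-/

set_option autoImplicit false
set_option linter.unusedSectionVars false
set_option linter.unusedVariables false
set_option maxRecDepth 100000

namespace Cfsg.Agent.H6.M11

open Matrix hiding neg
open Module Cfsg Cfsg.Geo Cfsg.Agent.H915.LD Cfsg.Agent.H932.Mt

universe u

variable {ι : Type} [Fintype ι] [DecidableEq ι] {F : Type u} [Field F] [Finite F] {P : Subgroup (GL ι F)}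

/-- a double cover is `Γ` -/
theorem exists_equiv (hC : Core P) (e : Soc P ≃* Spor.M12) (h2 : (2 : F) ≠ 0) (z : P)
    (hz : ((z : GL ι F) : Matrix ι ι F) = -1) :
    ∃ φ : Γ →* P, Function.Surjective φ ∧ Function.Injective φ ∧ φ neg = z := by
  obtain ⟨φ, hφ, hφe⟩ := exists_cover hC e
  have hne := hC.nonempty
  have hz1 : z ≠ 1 := by
    rintro rfl
    obtain ⟨i⟩ := hne
    have h3 := congrFun (congrFun hz i) i
    simp only [Subgroup.coe_one, Units.val_one, Matrix.one_apply_eq, Matrix.neg_apply] at h3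
    apply h2
    linear_combination h3
  have hφn : φ neg = z := by
    obtain ⟨x, hx⟩ := hφ z
    have h3 : toSoc P z = 1 := by
      have h6 : z ∈ (scalars ι F).subgroupOf P := by
        rw [Subgroup.mem_subgroupOf, mem_scalars_iff]
        exact ⟨-1, by rw [hz]; simp⟩
      exact (QuotientGroup.eq_one_iff z).2 h6
    have h4 := hφe x
    rw [hx, h3, map_one] at h4
    rcases eq_of_sig h4.symm with h5 | h5
    · rw [h5, map_one] at hx
      exact absurd hx.symm hz1
    · rw [← h5]; exact hx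
  refine ⟨φ, hφ, ?_, hφn⟩
  rw [injective_iff_map_eq_one]
  intro a ha
  have h4 := hφe a
  rw [ha, map_one, map_one] at h4
  rcases eq_of_sig h4.symm with h5 | h5
  · exact h5
  · rw [h5, hφn] at ha
    exact absurd ha hz1

/-- **double cover, `p ≥ 5`, dimension at most 11** -/
theorem cover_five (hC : Core P) (p : ℕ) [hp : Fact p.Prime] [CharP F p] (hp5 : 5 ≤ p) (e : Soc P ≃* Spor.M12)
    (hn : Fintype.card ι ≤ 11) (heven : Even (Fintype.card ι)) (z : P)
    (hz : ((z : GL ι F) : Matrix ι ι F) = -1) :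
    Fintype.card ι = 10 ∧ (((p % 8 = 1 ∨ p % 8 = 3) ∧ Fr P p) ∨ ((p % 8 = 5 ∨ p % 8 = 7) ∧ Cj P p)) := by
  have hp2 : p ≠ 2 := by omega
  have hp3 : p ≠ 3 := by omega
  have h2 : (2 : F) ≠ 0 := cast_ne F hp.out Nat.prime_two hp2
  obtain ⟨φ, hφ, hinj, hφn⟩ := exists_equiv hC e h2 z hz
  let v : ℕ → P := fun i => φ (vG i)
  have hv : Sat v := sat_G.map φ
  have hv0 : v 0 ≠ 1 := by
    intro h0
    apply vG_zero_ne
    exact hinj (by rw [map_one]; exact h0)
  have hev : ∀ w, ev v w = φ (ev vG w) := fun w => (map_ev vG φ w).symm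
  have h9 := nine_le_of p hp3 hp2 hv hv0 (by omega)
  have h10 : Fintype.card ι = 10 := by
    obtain ⟨m, hm⟩ := heven
    omega
  refine ⟨h10, ?_⟩
  let χ : Γ → F := fun g => tr ((φ g : P) : GL ι F)
  have hχ : ∀ a b, IsConj a b → χ a = χ b := fun a b hab => tr_isConj (φ.map_isConj hab)
  have hnχ : ∀ g, χ (neg * g) = - χ g := by
    intro g
    show tr ((φ (neg * g) : P) : GL ι F) = - tr ((φ g : P) : GL ι F)
    rw [map_mul, hφn]
    unfold tr
    rw [Subgroup.coe_mul, Units.val_mul, hz, neg_one_mul, Matrix.trace_neg]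
  have hx : χ (ev vG [5])⁻¹ = χ (ev vG [5]) := by
    have h1 := real_eleven p hp3 hv hv0 (by omega)
    rw [hev, ← map_inv] at h1
    exact h1
  have h20 : p ≠ 5 → χ g20 = 0 := by
    intro hp5'
    have hck : CharP (AlgebraicClosure F) p := charP_of_injective_algebraMap (algebraMap F _).injective p
    obtain ⟨ω, hω⟩ := exists_root (AlgebraicClosure F) 3 (cast_ne _ hp.out Nat.prime_three hp3)
    obtain ⟨η, hη⟩ := exists_root (AlgebraicClosure F) 5 (cast_ne _ hp.out Nat.prime_five hp5')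
    have h2k : (2 : AlgebraicClosure F) ≠ 0 := cast_ne _ hp.out Nat.prime_two hp2
    obtain ⟨i, hi⟩ := IsAlgClosed.exists_pow_nat_eq (-1 : AlgebraicClosure F) (n := 2) (by norm_num)
    have hneg : ((rep P (AlgebraicClosure F)).comp φ) neg = -1 := by
      rw [MonoidHom.comp_apply, hφn, rep_apply, hz]
      have h8 : (-1 : Matrix ι ι F).map (algebraMap F (AlgebraicClosure F)) = -1 := by
        rw [Matrix.map_neg _ (map_neg (algebraMap F (AlgebraicClosure F))), Matrix.map_one _ (map_zero _) (map_one _)]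
      rw [h8, map_neg, Matrix.toLin'_one]
      rfl
    have h7 := trace_g20 (R := (rep P (AlgebraicClosure F)).comp φ) (i := i) hneg hω hη h2k (by rw [← hi]; ring)
      (by rw [Module.finrank_fintype_fun_eq_card]; exact h10) (by
        intro h
        have h8 : rep P (AlgebraicClosure F) (φ (ev vG [0])) = 1 := h
        have h1 := rep_eq_one _ h8
        rw [ev_cons, ev_nil, mul_one] at h1
        exact hv0 h1)
    have h8 : algebraMap F (AlgebraicClosure F) (χ g20) = 0 := by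
      rw [← h7]
      show _ = LinearMap.trace _ _ (rep P (AlgebraicClosure F) (φ (GW w20)))
      rw [trace_rep]
      rfl
    exact (map_eq_zero _).1 h8
  have hpow : ∀ g : Γ, tr ((φ g : P) : GL ι F) ^ p = χ (g ^ p) := by
    intro g
    have h1 := tr_pow_char p ((φ g : P) : GL ι F) 1
    rw [pow_one] at h1
    rw [← h1]
    show _ = tr ((φ (g ^ p) : P) : GL ι F)
    rw [map_pow, Subgroup.coe_pow]
  have hlift : ∀ g ∈ P, ¬ p ∣ orderOf g → ∃ x : Γ, ((φ x : P) : GL ι F) = g ∧ ¬ p ∣ orderOf x := by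
    intro g hg hr
    obtain ⟨x, hx⟩ := hφ ⟨g, hg⟩
    refine ⟨x, by rw [hx], ?_⟩
    rw [← orderOf_injective φ hinj x, hx, Subgroup.orderOf_mk]
    exact hr
  have hodd : p % 2 = 1 := by
    rcases hp.out.eq_two_or_odd with h0 | h0
    · omega
    · exact h0
  have hcase : (p % 8 = 1 ∨ p % 8 = 3) ∨ (p % 8 = 5 ∨ p % 8 = 7) := by omega
  rcases hcase with hm | hm
  · refine Or.inl ⟨hm, Fr.of_reg' p ?_⟩
    intro g hg hr
    obtain ⟨x, rfl, hr'⟩ := hlift g hg hr
    rw [hpow]
    exact fun_types (θ := χ) hp.out hp5 hχ hnχ h2 hx h20 (Or.inl ⟨hm, rfl⟩) x hr'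
  · refine Or.inr ⟨hm, Cj.of_reg' p ?_⟩
    intro g hg hr
    obtain ⟨x, rfl, hr'⟩ := hlift g hg hr
    rw [hpow]
    refine (fun_types (θ := fun g => χ g⁻¹) hp.out hp5 hχ hnχ h2 hx h20 (Or.inr ⟨hm, rfl⟩) x hr').trans ?_
    show tr ((φ x⁻¹ : P) : GL ι F) = _
    rw [map_inv, Subgroup.coe_inv]

/-- **Stage 1 for the Mathieu group of degree 12, `p ≥ 5`, dimension at most 11.** -/
theorem m12_five (hC : Core P) (p : ℕ) [hp : Fact p.Prime] [CharP F p] (hp5 : 5 ≤ p)
    (h : Spor.IsoM12 (Soc P)) (hn : Fintype.card ι ≤ 11) :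
    SD P ∨ (Fintype.card ι = 10 ∧ (((p % 8 = 1 ∨ p % 8 = 3) ∧ Fr P p) ∨ ((p % 8 = 5 ∨ p % 8 = 7) ∧ Cj P p))) := by
  rcases m12_ne_three hC p (by omega) h (by omega) with h1 | ⟨-, h3, h4, z, hz⟩
  · exact Or.inl h1
  · obtain ⟨e⟩ := h
    exact Or.inr (cover_five hC p hp5 e hn h3 z hz)

/-- **characteristic not 3, dimension at most 11** -/
theorem m12_small (hC : Core P) (p : ℕ) [hp : Fact p.Prime] [CharP F p] (hp3 : p ≠ 3)
    (h : Spor.IsoM12 (Soc P)) (hn : Fintype.card ι ≤ 11) :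
    SD P ∨ (Fintype.card ι = 10 ∧ (((p % 8 = 1 ∨ p % 8 = 3) ∧ Fr P p) ∨ ((p % 8 = 5 ∨ p % 8 = 7) ∧ Cj P p))) := by
  by_cases hp2 : p = 2
  · exact Or.inl (m12_odd hC p hp3 h (by omega) (Or.inr hp2))
  · refine m12_five hC p ?_ h hn
    have h2 := hp.out.two_le
    by_contra hc
    have : p = 4 := by omega
    rw [this] at hp
    exact absurd hp.out (by norm_num)

end Cfsg.Agent.H6.M11
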