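import Cfsg.Agent.H6.M11.Main3
import Cfsg.Agent.H6.M11.Stage11

/-!
# Cores isomorphic to the Mathieu group of degree 11, dimension at most 12 (helper6)
-/

set_option autoImplicit false
set_option linter.unusedSectionVars false
set_option linter.unusedVariables false
set_option maxRecDepth 100000

namespace Cfsg.Agent.H6.M11

open Matrix Module Cfsg Cfsg.Geo Cfsg.Agent.H915.LD

universe u

variable {ι : Type} [Fintype ι] [DecidableEq ι] {F : Type u} [Field F] [Finite F] {P : Subgroup (GL ι F)}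

theorem irr_rep (hC : Core P) {v : ℕ → P} (hv : Sat v) (hcl : Subgroup.closure ({v 5, v 8} : Set P) = ⊤) (k : Type*)
    [Field k] [Algebra F k] : Irr v (rep P k) := by
  intro S h5 h8
  have e5 : (ev v [5]) ^ (10 + 1) = 1 := hv.toL.ev_pow.1
  have e8 : (ev v [8]) ^ (1 + 1) = 1 := by
    have h1 : ev v [8, 8] = ev v [] := hv.base (by decide +kernel)
    rw [ev_nil] at h1
    rw [← h1]
    simp only [ev_cons, ev_nil, mul_one]
    simp only [pow_succ, pow_zero, one_mul]
  have h1 : stabS (rep P k) S = ⊤ := by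
    rw [eq_top_iff, ← hcl, Subgroup.closure_le]
    rintro g (rfl | hg)
    · exact mem_stabS h5 e5
    · rw [Set.mem_singleton_iff.1 hg]
      exact mem_stabS h8 e8
  refine invariant k hC S fun g x hx => ?_
  have hg : g ∈ stabS (rep P k) S := by rw [h1]; trivial
  exact hg.1 x hx

/-- the dimension in characteristic 3, for every group with such letters -/
theorem dim_of_three [Fact (Nat.Prime 3)] [CharP F 3] (hC : Core P) {v : ℕ → P} (hv : Sat v)
    (hcl : Subgroup.closure ({v 5, v 8} : Set P) = ⊤) (hv5 : v 5 ≠ 1) (hn : Fintype.card ι ≤ 12) :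
    Fintype.card ι = 5 ∨ Fintype.card ι = 10 := by
  have hck : CharP (AlgebraicClosure F) 3 := charP_of_injective_algebraMap (algebraMap F _).injective 3
  obtain ⟨ξ, hξ⟩ := exists_root (AlgebraicClosure F) 5 (cast_ne _ Nat.prime_three Nat.prime_five (by norm_num))
  obtain ⟨ζ, hζ⟩ := exists_root (AlgebraicClosure F) 11 (cast_ne _ Nat.prime_three (by norm_num) (by norm_num))
  have h3 : (3 : AlgebraicClosure F) = 0 := by
    have := CharP.cast_eq_zero (AlgebraicClosure F) 3
    exact_mod_cast this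
  have h := hv.dim_three (R := rep P (AlgebraicClosure F)) h3 hζ hξ (irr_rep hC hv hcl _) (by
    intro h
    have h1 := rep_eq_one _ h
    rw [ev_cons, ev_nil, mul_one] at h1
    exact hv5 h1) (by rw [Module.finrank_fintype_fun_eq_card]; exact hC.two_le)
    (by rw [Module.finrank_fintype_fun_eq_card]; exact hn)
  rwa [Module.finrank_fintype_fun_eq_card] at h

/-- **Stage 1 for the Mathieu group of degree 11, characteristic 3.** -/
theorem m11_three [Fact (Nat.Prime 3)] [CharP F 3] (hC : Core P) (h : Spor.IsoM11 (Soc P))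
    (hn : Fintype.card ι ≤ 12) :
    (Fintype.card ι = 5 ∨ Fintype.card ι = 10) ∧ Fr P 3 := by
  obtain ⟨e, -⟩ := exists_letters hC h
  have hP : Spor.IsoM11 P := ⟨e⟩
  let v : ℕ → P := fun i => e.symm (v11 i)
  have hv : Sat v := sat_11.map e.symm.toMonoidHom
  have hev : ∀ w, ev v w = e.symm (ev v11 w) := fun w => (map_ev v11 e.symm.toMonoidHom w).symm
  have hv5 : v 5 ≠ 1 := by
    intro h0
    have h1 : ev v [5] = 1 := by rw [ev_cons, ev_nil, mul_one, h0]
    have h2 : orderOf (ev v [5]) = 11 := by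
      rw [hev]
      exact (MulEquiv.orderOf_eq _ _).trans orders_11.2.2.2
    rw [h1, orderOf_one] at h2
    exact absurd h2 (by norm_num)
  have hcl : Subgroup.closure ({v 5, v 8} : Set P) = ⊤ := by
    have h2 := congrArg (Subgroup.map e.symm.toMonoidHom) closure_11
    rw [MonoidHom.map_closure, Set.image_pair, Subgroup.map_top_of_surjective _ e.symm.surjective] at h2
    exact h2
  refine ⟨dim_of_three hC hv hcl hv5 hn, Fr.of_reg' 3 ?_⟩
  intro g hg hreg
  have hreg' : ¬ 3 ∣ orderOf (⟨g, hg⟩ : P) := by rwa [Subgroup.orderOf_mk]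
  have h1 := tr_isConj (H180.KM11.m11_conj_cube hP ⟨g, hg⟩ hreg')
  have h2 := tr_pow_char 3 g 1
  rw [pow_one] at h2
  rw [← h2]
  exact h1.symm

/-- **Stage 1 for the Mathieu group of degree 11.** -/
theorem m11 (hC : Core P) (p : ℕ) [hp : Fact p.Prime] [CharP F p] (h : Spor.IsoM11 (Soc P))
    (hn : Fintype.card ι ≤ 12) :
    SD P ∨ (Fintype.card ι = 5 ∧ p = 3 ∧ Fr P p) ∨
      (Fintype.card ι = 10 ∧ (((p % 8 = 1 ∨ p % 8 = 3) ∧ Fr P p) ∨ ((p % 8 = 5 ∨ p % 8 = 7) ∧ Cj P p))) := by
  by_cases hp3 : p = 3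
  · subst hp3
    obtain ⟨h1 | h1, h2⟩ := m11_three hC h hn
    · exact Or.inr (Or.inl ⟨h1, rfl, h2⟩)
    · exact Or.inr (Or.inr ⟨h1, Or.inl ⟨Or.inr rfl, h2⟩⟩)
  · rcases m11_ne_three hC p hp3 h hn with h1 | h1
    · exact Or.inl h1
    · exact Or.inr (Or.inr h1)

end Cfsg.Agent.H6.M11
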