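import Mathlib

/-!
# Operators of finite order: projections, multiplicities, traces (helper6)
-/

set_option autoImplicit false
set_option linter.unusedSectionVars false

namespace Cfsg.Agent.H6.M11

open Module LinearMap

variable {k : Type*} [Field k] {V : Type*} [AddCommGroup V] [Module k V]

/-- the average of the powers -/
noncomputable def av (m : ℕ) (Y : End k V) : End k V := (m : k)⁻¹ • ∑ i ∈ Finset.range m, Y ^ i

theorem mul_av {m : ℕ} {Y : End k V} (h : Y ^ m = 1) : Y * av m Y = av m Y := by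
  have h1 : (Y - 1) * ∑ i ∈ Finset.range m, Y ^ i = 0 := by rw [mul_geom_sum, h, sub_self]
  rw [sub_mul, one_mul, sub_eq_zero] at h1
  rw [av, mul_smul_comm, h1]

theorem pow_mul_av {m : ℕ} {Y : End k V} (h : Y ^ m = 1) (j : ℕ) : Y ^ j * av m Y = av m Y := by
  induction j with
  | zero => rw [pow_zero, one_mul]
  | succ j ih => rw [pow_succ, mul_assoc, mul_av h, ih]

theorem av_apply_of_fix {m : ℕ} (hm : (m : k) ≠ 0) {Y : End k V} {v : V} (h : Y v = v) : av m Y v = v := by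
  have h1 : ∀ i : ℕ, (Y ^ i) v = v := by
    intro i
    induction i with
    | zero => rfl
    | succ i ih => rw [pow_succ, Module.End.mul_apply, h, ih]
  rw [av, LinearMap.smul_apply, LinearMap.sum_apply, Finset.sum_congr rfl (fun i _ => h1 i), Finset.sum_const,
    Finset.card_range, ← Nat.cast_smul_eq_nsmul k, smul_smul, inv_mul_cancel₀ hm, one_smul]

theorem av_apply_mem {m : ℕ} {Y : End k V} (h : Y ^ m = 1) (v : V) : Y (av m Y v) = av m Y v := by
  rw [← Module.End.mul_apply, mul_av h]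

/-- fixed vectors of an operator -/
def fix (Y : End k V) : Submodule k V := End.eigenspace Y 1

theorem mem_fix {Y : End k V} {v : V} : v ∈ fix Y ↔ Y v = v := by
  rw [fix, End.mem_eigenspace_iff, one_smul]

theorem isProj_av {m : ℕ} (hm : (m : k) ≠ 0) {Y : End k V} (h : Y ^ m = 1) : IsProj (fix Y) (av m Y) :=
  ⟨fun v => mem_fix.2 (av_apply_mem h v), fun v hv => av_apply_of_fix hm (mem_fix.1 hv)⟩

theorem av_comm {m n : ℕ} {X Y : End k V} (h : Commute X Y) : Commute (av m X) (av n Y) := by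
  unfold av
  refine Commute.smul_left (Commute.smul_right ?_ _) _
  refine Commute.sum_left _ _ _ fun i _ => Commute.sum_right _ _ _ fun j _ => ?_
  exact h.pow_pow i j

theorem comm_av {m : ℕ} {X Y : End k V} (h : Commute X Y) : Commute X (av m Y) := by
  unfold av
  refine Commute.smul_right ?_ _
  exact Commute.sum_right _ _ _ fun j _ => h.pow_right j

/-- product of commuting projections -/
theorem IsProj.mul {S T : Submodule k V} {e f : End k V} (he : IsProj S e) (hf : IsProj T f) (h : Commute e f) :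
    IsProj (S ⊓ T) (e * f) := by
  refine ⟨fun v => ⟨he.map_mem _, ?_⟩, fun v hv => ?_⟩
  · rw [show e * f = f * e from h]
    exact hf.map_mem _
  · rw [Module.End.mul_apply, hf.map_id v hv.2, he.map_id v hv.1]

theorem trace_isProj [FiniteDimensional k V] {S : Submodule k V} {e : End k V} (h : IsProj S e) :
    LinearMap.trace k V e = (finrank k S : k) := h.trace

/-! ### decomposition -/

section decomp

variable [FiniteDimensional k V] {m : ℕ}

/-- complete orthogonal idempotents decompose invariant subspaces -/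
theorem finrank_of_idem (p : Fin m → End k V) (T : Fin m → Submodule k V) (hp : ∀ b, IsProj (T b) (p b))
    (ho : ∀ b c, b ≠ c → p b * p c = 0) (h1 : ∑ b, p b = 1) (S : Submodule k V) (hS : ∀ b, ∀ v ∈ S, p b v ∈ S) :
    finrank k S = ∑ b, finrank k (S ⊓ T b : Submodule k V) := by
  classical
  let f : S →ₗ[k] (∀ b, (S ⊓ T b : Submodule k V)) :=
    LinearMap.pi fun b => (p b ∘ₗ S.subtype).codRestrict _ fun v => ⟨hS b v v.2, (hp b).map_mem _⟩
  let g : (∀ b, (S ⊓ T b : Submodule k V)) →ₗ[k] S :=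
    ∑ b, (Submodule.inclusion inf_le_left) ∘ₗ LinearMap.proj b
  have hgf : ∀ v, g (f v) = v := by
    intro v
    apply Subtype.ext
    have h2 : ((g (f v) : S) : V) = ∑ b, p b v := by
      simp only [g, f, LinearMap.sum_apply, Submodule.coe_sum]
      rfl
    rw [h2, ← LinearMap.sum_apply, h1]
    rfl
  have hfg : ∀ w, f (g w) = w := by
    intro w
    funext b
    apply Subtype.ext
    have h2 : ((g w : S) : V) = ∑ c, (w c : V) := by
      simp only [g, LinearMap.sum_apply, Submodule.coe_sum]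
      rfl
    have h3 : ((f (g w) b : (S ⊓ T b : Submodule k V)) : V) = p b (g w : S) := rfl
    rw [h3, h2, map_sum, Finset.sum_eq_single b]
    · exact (hp b).map_id _ (w b).2.2
    · intro c _ hc
      rw [← (hp c).map_id _ (w c).2.2, ← Module.End.mul_apply, ho b c hc.symm, LinearMap.zero_apply]
    · intro h
      exact absurd (Finset.mem_univ b) h
  let E : S ≃ₗ[k] (∀ b, (S ⊓ T b : Submodule k V)) := LinearEquiv.ofLinear f g (LinearMap.ext hfg) (LinearMap.ext hgf)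
  rw [E.finrank_eq, Module.finrank_pi_fintype]

variable {ζ : k} {X : End k V}

/-- the spectral projections of an operator with `X ^ m = 1` -/
noncomputable def sp (m : ℕ) (ζ : k) (X : End k V) (b : ℕ) : End k V := av m ((ζ ^ b)⁻¹ • X)

theorem sp_pow (hζ : ζ ^ m = 1) (hX : X ^ m = 1) (b : ℕ) : ((ζ ^ b)⁻¹ • X) ^ m = 1 := by
  rw [smul_pow, hX, inv_pow, ← pow_mul, mul_comm, pow_mul, hζ, one_pow, inv_one, one_smul]

theorem fix_smul (hζ : ζ ≠ 0) (b : ℕ) : fix ((ζ ^ b)⁻¹ • X) = End.eigenspace X (ζ ^ b) := by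
  ext v
  rw [mem_fix, End.mem_eigenspace_iff, LinearMap.smul_apply, inv_smul_eq_iff₀ (pow_ne_zero _ hζ)]

theorem isProj_sp (hm : (m : k) ≠ 0) (hζ0 : ζ ≠ 0) (hζ : ζ ^ m = 1) (hX : X ^ m = 1) (b : ℕ) :
    IsProj (End.eigenspace X (ζ ^ b)) (sp m ζ X b) := by
  rw [← fix_smul hζ0]
  exact isProj_av hm (sp_pow hζ hX b)

theorem mul_sp (hζ0 : ζ ≠ 0) (hζ : ζ ^ m = 1) (hX : X ^ m = 1) (b : ℕ) : X * sp m ζ X b = ζ ^ b • sp m ζ X b := by
  have h1 := mul_av (sp_pow hζ hX b)
  rw [smul_mul_assoc, inv_smul_eq_iff₀ (pow_ne_zero _ hζ0)] at h1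
  exact h1

theorem pow_mul_sp (hζ0 : ζ ≠ 0) (hζ : ζ ^ m = 1) (hX : X ^ m = 1) (b j : ℕ) :
    X ^ j * sp m ζ X b = ζ ^ (b * j) • sp m ζ X b := by
  induction j with
  | zero => rw [mul_zero, pow_zero, pow_zero, one_mul, one_smul]
  | succ j ih =>
    rw [pow_succ, mul_assoc, mul_sp hζ0 hζ hX, mul_smul_comm, ih, smul_smul, mul_add, mul_one, pow_add, mul_comm]

theorem sp_mul_sp (hm : IsPrimitiveRoot ζ m) (hm0 : 0 < m) (hX : X ^ m = 1) {b c : ℕ} (hb : b < m) (hc : c < m)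
    (hbc : b ≠ c) : sp m ζ X b * sp m ζ X c = 0 := by
  have hζ0 : ζ ≠ 0 := hm.ne_zero hm0.ne'
  have hne : NeZero m := ⟨hm0.ne'⟩
  rw [sp, av, smul_mul_assoc, Finset.sum_mul]
  have h1 : ∀ i ∈ Finset.range m, ((ζ ^ b)⁻¹ • X) ^ i * sp m ζ X c = ((ζ ^ c * (ζ ^ b)⁻¹) ^ i) • sp m ζ X c := by
    intro i _
    rw [smul_pow, smul_mul_assoc, pow_mul_sp hζ0 hm.pow_eq_one hX, smul_smul, mul_pow, ← pow_mul, mul_comm]
  rw [Finset.sum_congr rfl h1, ← Finset.sum_smul]
  have h2 : ∑ i ∈ Finset.range m, (ζ ^ c * (ζ ^ b)⁻¹) ^ i = 0 := by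
    have h3 : (ζ ^ c * (ζ ^ b)⁻¹) ≠ 1 := by
      intro h4
      rw [mul_inv_eq_one₀ (pow_ne_zero _ hζ0)] at h4
      exact hbc (hm.pow_inj hc hb h4).symm
    have h4 : (ζ ^ c * (ζ ^ b)⁻¹) ^ m = 1 := by
      rw [mul_pow, inv_pow, ← pow_mul, ← pow_mul, mul_comm c, mul_comm b, pow_mul, pow_mul, hm.pow_eq_one, one_pow,
        one_pow, inv_one, one_mul]
    have h5 := mul_geom_sum (ζ ^ c * (ζ ^ b)⁻¹) m
    rw [h4, sub_self] at h5
    exact (mul_eq_zero.1 h5).resolve_left (sub_ne_zero.2 h3)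
  rw [h2, zero_smul, smul_zero]

theorem sum_sp (hm : IsPrimitiveRoot ζ m) (hm0 : 0 < m) : ∑ b : Fin m, sp m ζ X b = 1 := by
  have hζ0 : ζ ≠ 0 := hm.ne_zero hm0.ne'
  have hne : NeZero m := ⟨hm0.ne'⟩
  have hmk : (m : k) ≠ 0 := hm.neZero'.out
  rw [Fin.sum_univ_eq_sum_range (fun b => sp m ζ X b) m]
  unfold sp av
  rw [← Finset.smul_sum, Finset.sum_comm]
  have h1 : ∀ i ∈ Finset.range m, ∑ b ∈ Finset.range m, ((ζ ^ b)⁻¹ • X) ^ i = (if i = 0 then (m : k) else 0) • (1 : End k V) := by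
    intro i hi
    rw [Finset.mem_range] at hi
    have h2 : ∀ b ∈ Finset.range m, ((ζ ^ b)⁻¹ • X) ^ i = (((ζ ^ i)⁻¹) ^ b) • X ^ i := by
      intro b _
      rw [smul_pow, inv_pow, inv_pow, ← pow_mul, ← pow_mul, mul_comm]
    rw [Finset.sum_congr rfl h2, ← Finset.sum_smul]
    split_ifs with h0
    · subst h0
      simp
    · have h3 : (ζ ^ i)⁻¹ ≠ 1 := by
        intro h4
        rw [inv_eq_one] at h4
        exact h0 (Nat.eq_zero_of_dvd_of_lt (hm.dvd_of_pow_eq_one _ h4) hi)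
      have h4 : ((ζ ^ i)⁻¹) ^ m = 1 := by
        rw [inv_pow, ← pow_mul, mul_comm, pow_mul, hm.pow_eq_one, one_pow, inv_one]
      have h5 := mul_geom_sum ((ζ ^ i)⁻¹) m
      rw [h4, sub_self] at h5
      rw [(mul_eq_zero.1 h5).resolve_left (sub_ne_zero.2 h3), zero_smul, zero_smul]
  rw [Finset.sum_congr rfl h1, ← Finset.sum_smul, Finset.sum_ite_eq' (Finset.range m) 0, if_pos (Finset.mem_range.2 hm0),
    smul_smul, inv_mul_cancel₀ hmk, one_smul]

/-- `dim S = ∑ dim S_b` for an invariant subspace `S` -/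
theorem finrank_eq_sum (hm : IsPrimitiveRoot ζ m) (hm0 : 0 < m) (hX : X ^ m = 1) (S : Submodule k V)
    (hS : ∀ v ∈ S, X v ∈ S) :
    finrank k S = ∑ b : Fin m, finrank k (S ⊓ End.eigenspace X (ζ ^ (b : ℕ)) : Submodule k V) := by
  have hζ0 : ζ ≠ 0 := hm.ne_zero hm0.ne'
  have hne : NeZero m := ⟨hm0.ne'⟩
  have hmk : (m : k) ≠ 0 := hm.neZero'.out
  refine finrank_of_idem (fun b : Fin m => sp m ζ X b) _ (fun b => isProj_sp hmk hζ0 hm.pow_eq_one hX b) ?_
    (sum_sp hm hm0) S ?_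
  · intro b c hbc
    exact sp_mul_sp hm hm0 hX b.2 c.2 (fun h => hbc (Fin.ext h))
  · intro b v hv
    have h1 : ∀ i : ℕ, (((ζ ^ (b : ℕ))⁻¹ • X) ^ i) v ∈ S := by
      intro i
      induction i with
      | zero => exact hv
      | succ i ih =>
        rw [pow_succ', Module.End.mul_apply, LinearMap.smul_apply]
        exact S.smul_mem _ (hS _ ih)
    show av m _ v ∈ S
    rw [av, LinearMap.smul_apply, LinearMap.sum_apply]
    exact S.smul_mem _ (S.sum_mem fun i _ => h1 i)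

theorem finrank_top_eq_sum (hm : IsPrimitiveRoot ζ m) (hm0 : 0 < m) (hX : X ^ m = 1) :
    finrank k V = ∑ b : Fin m, finrank k (End.eigenspace X (ζ ^ (b : ℕ))) := by
  have h1 := finrank_eq_sum hm hm0 hX ⊤ (fun v _ => trivial)
  rw [finrank_top] at h1
  rw [h1]
  exact Finset.sum_congr rfl fun b _ => by rw [top_inf_eq]

/-- `tr X^j = ∑ ζ^(b j) dim V_b` -/
theorem trace_eq_sum (hm : IsPrimitiveRoot ζ m) (hm0 : 0 < m) (hX : X ^ m = 1) (j : ℕ) :
    LinearMap.trace k V (X ^ j) = ∑ b : Fin m, ζ ^ ((b : ℕ) * j) * (finrank k (End.eigenspace X (ζ ^ (b : ℕ))) : k) := by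
  have hζ0 : ζ ≠ 0 := hm.ne_zero hm0.ne'
  have hne : NeZero m := ⟨hm0.ne'⟩
  have hmk : (m : k) ≠ 0 := hm.neZero'.out
  calc LinearMap.trace k V (X ^ j) = LinearMap.trace k V (X ^ j * ∑ b : Fin m, sp m ζ X b) := by
        rw [sum_sp hm hm0, mul_one]
    _ = ∑ b : Fin m, LinearMap.trace k V (X ^ j * sp m ζ X b) := by rw [Finset.mul_sum, map_sum]
    _ = _ := by
        refine Finset.sum_congr rfl fun b _ => ?_
        rw [pow_mul_sp hζ0 hm.pow_eq_one hX, map_smul, smul_eq_mul,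
          trace_isProj (isProj_sp hmk hζ0 hm.pow_eq_one hX b)]

end decomp

end Cfsg.Agent.H6.M11
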