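import Cfsg.Agent.H6.M11.Tab

/-!
# Elements of order 11 have real traces if `dim ≤ 12` and the characteristic is not 3, 11 (helper6)
-/

set_option autoImplicit false
set_option linter.unusedSectionVars false
set_option maxRecDepth 100000

namespace Cfsg.Agent.H6.M11

open Module LinearMap

variable {G : Type*} [Group G] {v : ℕ → G} {k : Type*} [Field k] {V : Type*} [AddCommGroup V] [Module k V]
  [FiniteDimensional k V] {R : G →* End k V} {ω : k}

/-- `s` acts on the weight space of the character `(ω, 1)` as a sign, and `T(s) - T(s e₁)` is three times this sign -/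
theorem Sat.eps (h : Sat v) (hω : IsPrimitiveRoot ω 3) (hE : op v R [0] ≠ 1) (hn : finrank k V ≤ 12) :
    ∃ ε : k, (ε = 1 ∨ ε = -1) ∧ (∀ u ∈ Wt v R ω 1, op v R [3] u = ε • u) ∧ tw v R [3] - tw v R [3, 0] = 3 * ε := by
  have h1 := h.wt_one (R := R) hω hE hn
  have hω3 := hω.pow_eq_one
  have hω0 : ω ≠ 0 := hω.ne_zero (by norm_num)
  have h3k : (3 : k) ≠ 0 := by
    have := (hω.neZero').out
    simpa using this
  obtain ⟨⟨u0, hu0⟩, hu1, hu2⟩ := finrank_eq_one_iff'.1 h1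
  have hu0' : u0 ≠ 0 := fun hc => hu1 (Subtype.ext hc)
  have hs : ∀ u ∈ Wt v R ω 1, op v R [3] u ∈ Wt v R ω 1 := by
    intro u hu
    have := h.s_mem hu
    rwa [one_pow] at this
  obtain ⟨ε, hε⟩ := hu2 ⟨_, hs u0 hu0⟩
  have hε' : op v R [3] u0 = ε • u0 := (congrArg Subtype.val hε).symm
  have hall : ∀ u ∈ Wt v R ω 1, op v R [3] u = ε • u := by
    intro u hu
    obtain ⟨c, hc⟩ := hu2 ⟨u, hu⟩
    have hc' : c • u0 = u := congrArg Subtype.val hc
    rw [← hc', map_smul, hε', smul_comm]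
  have hss : ε * ε = 1 := by
    have h2 : op v R [3, 3] = 1 := by
      rw [← op_nil v R]
      exact h.op_eq (by decide +kernel)
    rw [op_cons] at h2
    have h3 := congrArg (fun f : End k V => f u0) h2
    simp only [Module.End.mul_apply, hε', map_smul, smul_smul, Module.End.one_apply] at h3
    by_contra hc
    apply hu0'
    have h4 : (ε * ε - 1) • u0 = 0 := by rw [sub_smul, one_smul, h3, sub_self]
    exact (smul_eq_zero.1 h4).resolve_left (sub_ne_zero.2 hc)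
  refine ⟨ε, ?_, hall, ?_⟩
  · have h2 : (ε - 1) * (ε + 1) = 0 := by linear_combination hss
    rcases mul_eq_zero.1 h2 with h3 | h3
    · left; linear_combination h3
    · right; linear_combination h3
  · -- trace of `s * pr 1 0`
    have hP := h.isProj_pr (R := R) hω 1 0
    rw [pow_one, pow_zero] at hP
    have h2 : op v R [3] * pr v R ω 1 0 = ε • pr v R ω 1 0 := by
      ext u
      rw [Module.End.mul_apply, LinearMap.smul_apply]
      exact hall _ (hP.map_mem u)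
    have h3 := h.trace_pr (R := R) (ω := ω) h3k 1 0 [3]
    rw [h2, map_smul, trace_isProj hP, h1] at h3
    simp only [List.cons_append, List.nil_append, h.t_31, h.t_311, h.t_301, h.t_3011, h.t_300, h.t_3001, h.t_30011,
      pow_zero, inv_one, one_pow, one_mul, pow_one, Nat.cast_one, smul_eq_mul, mul_one] at h3
    have h4 : (1 : k) + ω + ω ^ 2 = 0 := by
      have h5 : (ω - 1) * (1 + ω + ω ^ 2) = 0 := by linear_combination hω3
      refine (mul_eq_zero.1 h5).resolve_left (sub_ne_zero.2 ?_)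
      exact hω.ne_one (by norm_num)
    have h5 : ω⁻¹ = ω ^ 2 := by
      rw [inv_eq_iff_eq_inv]
      apply eq_inv_of_mul_eq_one_left
      rw [← pow_succ']
      exact hω3
    rw [h5] at h3
    have h6 : (ω ^ 2) ^ 2 = ω := by linear_combination ω * hω3
    rw [h6] at h3
    have h7 : (3 : k) * (tw v R [3] - tw v R [3, 0] - 3 * ε) = 0 := by linear_combination -h3 - 3 * tw v R [3, 0] * h4
    have h8 := (mul_eq_zero.1 h7).resolve_left h3k
    linear_combination h8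

/-! ### the element of order 11 -/

section eleven

variable {ζ : k}

theorem Sat.pow_eleven (h : Sat v) : (op v R [5]) ^ 11 = 1 := by
  have h1 : op v R [5, 5, 5, 5, 5, 5, 5, 5, 5, 5, 5] = 1 := by
    rw [← op_nil v R]
    exact h.op_eq (by decide +kernel)
  rw [← h1]
  simp only [op_cons v R 5 [5, 5, 5, 5, 5, 5, 5, 5, 5, 5], op_cons v R 5 [5, 5, 5, 5, 5, 5, 5, 5, 5],
    op_cons v R 5 [5, 5, 5, 5, 5, 5, 5, 5], op_cons v R 5 [5, 5, 5, 5, 5, 5, 5], op_cons v R 5 [5, 5, 5, 5, 5, 5],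
    op_cons v R 5 [5, 5, 5, 5, 5], op_cons v R 5 [5, 5, 5, 5], op_cons v R 5 [5, 5, 5], op_cons v R 5 [5, 5],
    op_cons v R 5 [5], pow_succ, pow_zero, one_mul, mul_assoc]

theorem op_replicate (i j : ℕ) : op v R (List.replicate i j) = (op v R [j]) ^ i := by
  induction i with
  | zero => rw [List.replicate_zero, pow_zero, op_nil]
  | succ i ih => rw [List.replicate_succ, op_cons, ih, pow_succ']

/-- `d` permutes the eigenspaces of `x` -/
theorem Sat.d_mem (h : Sat v) {μ : k} {u : V} (hu : u ∈ End.eigenspace (op v R [5]) μ) :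
    op v R [6] u ∈ End.eigenspace (op v R [5]) (μ ^ 3) := by
  rw [End.mem_eigenspace_iff] at hu ⊢
  have r0 : op v R [5, 6] = op v R [6, 5, 5, 5] := h.op_eq (by decide +kernel)
  rw [← Module.End.mul_apply, ← op_cons, r0, op_cons, op_cons v R 5 [5, 5], op_cons v R 5 [5]]
  simp only [Module.End.mul_apply, hu, map_smul, smul_smul]
  congr 1
  ring

theorem Sat.F_le (h : Sat v) (hζ : ζ ^ 11 = 1) (b c : ℕ) (h1 : (3 * b) % 11 = c % 11) :
    finrank k (End.eigenspace (op v R [5]) (ζ ^ b)) ≤ finrank k (End.eigenspace (op v R [5]) (ζ ^ c)) := by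
  have e1 : (ζ ^ b) ^ 3 = ζ ^ c := by
    rw [← pow_mul, mul_comm b 3, pow_eq_pow_mod _ hζ, h1, ← pow_eq_pow_mod _ hζ]
  refine finrank_le_of_mapsTo (op_injective v R [6]) ?_
  intro u hu
  rw [← e1]
  exact h.d_mem hu

/-- the multiplicities of the eigenvalues of `x` -/
theorem Sat.eigen (h : Sat v) (hζ : IsPrimitiveRoot ζ 11) :
    ∃ m a b : ℕ, (∀ c : ℕ, (c = 1 ∨ c = 3 ∨ c = 4 ∨ c = 5 ∨ c = 9) → finrank k (End.eigenspace (op v R [5]) (ζ ^ c)) = a) ∧
      (∀ c : ℕ, (c = 2 ∨ c = 6 ∨ c = 7 ∨ c = 8 ∨ c = 10) → finrank k (End.eigenspace (op v R [5]) (ζ ^ c)) = b) ∧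
      finrank k (End.eigenspace (op v R [5]) 1) = m ∧ finrank k V = m + 5 * a + 5 * b ∧
      tw v R [5] = m + a * (ζ + ζ ^ 3 + ζ ^ 4 + ζ ^ 5 + ζ ^ 9) + b * (ζ ^ 2 + ζ ^ 6 + ζ ^ 7 + ζ ^ 8 + ζ ^ 10) ∧
      tw v R [5, 5, 5, 5, 5, 5, 5, 5, 5, 5] =
        m + b * (ζ + ζ ^ 3 + ζ ^ 4 + ζ ^ 5 + ζ ^ 9) + a * (ζ ^ 2 + ζ ^ 6 + ζ ^ 7 + ζ ^ 8 + ζ ^ 10) := by
  have h11 := hζ.pow_eq_one
  have hX := h.pow_eleven (R := R)
  have a1 := h.F_le (R := R) h11 1 3 rfl
  have a2 := h.F_le (R := R) h11 3 9 rfl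
  have a3 := h.F_le (R := R) h11 9 5 rfl
  have a4 := h.F_le (R := R) h11 5 4 rfl
  have a5 := h.F_le (R := R) h11 4 1 rfl
  have b1 := h.F_le (R := R) h11 2 6 rfl
  have b2 := h.F_le (R := R) h11 6 7 rfl
  have b3 := h.F_le (R := R) h11 7 10 rfl
  have b4 := h.F_le (R := R) h11 10 8 rfl
  have b5 := h.F_le (R := R) h11 8 2 rfl
  have E1 : ∀ c : ℕ, (c = 1 ∨ c = 3 ∨ c = 4 ∨ c = 5 ∨ c = 9) → finrank k (End.eigenspace (op v R [5]) (ζ ^ c)) =
      finrank k (End.eigenspace (op v R [5]) (ζ ^ 1)) := by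
    rintro c (rfl | rfl | rfl | rfl | rfl) <;> omega
  have E2 : ∀ c : ℕ, (c = 2 ∨ c = 6 ∨ c = 7 ∨ c = 8 ∨ c = 10) → finrank k (End.eigenspace (op v R [5]) (ζ ^ c)) =
      finrank k (End.eigenspace (op v R [5]) (ζ ^ 2)) := by
    rintro c (rfl | rfl | rfl | rfl | rfl) <;> omega
  have E0 : finrank k (End.eigenspace (op v R [5]) (ζ ^ 0)) = finrank k (End.eigenspace (op v R [5]) 1) := by
    rw [pow_zero]
  refine ⟨_, _, _, E1, E2, rfl, ?_, ?_, ?_⟩
  · rw [finrank_top_eq_sum hζ (by norm_num) hX]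
    rw [Fin.sum_univ_eq_sum_range (fun b => finrank k (End.eigenspace (op v R [5]) (ζ ^ b))) 11]
    simp only [Finset.sum_range_succ, Finset.sum_range_zero, zero_add]
    rw [E0, E1 3 (by norm_num), E1 4 (by norm_num), E1 5 (by norm_num), E1 9 (by norm_num), E2 6 (by norm_num),
      E2 7 (by norm_num), E2 8 (by norm_num), E2 10 (by norm_num)]
    ring
  · have h1 := trace_eq_sum hζ (by norm_num) hX 1
    rw [pow_one] at h1
    rw [tw, h1, Fin.sum_univ_eq_sum_range (fun b => ζ ^ (b * 1) * (finrank k (End.eigenspace (op v R [5]) (ζ ^ b)) : k)) 11]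
    simp only [Finset.sum_range_succ, Finset.sum_range_zero, zero_add]
    rw [E0, E1 3 (by norm_num), E1 4 (by norm_num), E1 5 (by norm_num), E1 9 (by norm_num), E2 6 (by norm_num),
      E2 7 (by norm_num), E2 8 (by norm_num), E2 10 (by norm_num)]
    ring
  · have h1 := trace_eq_sum hζ (by norm_num) hX 10
    have e : op v R [5, 5, 5, 5, 5, 5, 5, 5, 5, 5] = (op v R [5]) ^ 10 := op_replicate 10 5
    rw [tw, e, h1,
      Fin.sum_univ_eq_sum_range (fun b => ζ ^ (b * 10) * (finrank k (End.eigenspace (op v R [5]) (ζ ^ b)) : k)) 11]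
    simp only [Finset.sum_range_succ, Finset.sum_range_zero, zero_add]
    rw [E0, E1 3 (by norm_num), E1 4 (by norm_num), E1 5 (by norm_num), E1 9 (by norm_num), E2 6 (by norm_num),
      E2 7 (by norm_num), E2 8 (by norm_num), E2 10 (by norm_num)]
    have q : ∀ m : ℕ, ζ ^ m = ζ ^ (m % 11) := fun m => pow_eq_pow_mod m h11
    rw [q (1 * 10), q (2 * 10), q (3 * 10), q (4 * 10), q (5 * 10), q (6 * 10), q (7 * 10), q (8 * 10), q (9 * 10),
      q (10 * 10), q (0 * 10)]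
    norm_num
    ring

theorem inv_pow_red (h11 : ζ ^ 11 = 1) {b : ℕ} (hb : b ≤ 11) (i : ℕ) : ((ζ ^ b)⁻¹) ^ i = ζ ^ (((11 - b) * i) % 11) := by
  have h1 : (ζ ^ b)⁻¹ = ζ ^ (11 - b) := by
    rw [inv_eq_iff_eq_inv]
    apply eq_inv_of_mul_eq_one_left
    rw [← pow_add, Nat.add_sub_cancel' hb, h11]
  rw [h1, ← pow_mul, pow_eq_pow_mod _ h11]

/-- a missing weight gives a relation for the traces of `xⁱ w` -/
theorem Sat.trace_zero (h : Sat v) (hζ : IsPrimitiveRoot ζ 11) {b : ℕ} (hb : b ≤ 11)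
    (h0 : finrank k (End.eigenspace (op v R [5]) (ζ ^ b)) = 0) :
    ∑ i ∈ Finset.range 11, ζ ^ (((11 - b) * i) % 11) * tw v R (List.replicate i 5 ++ [7]) = 0 := by
  have h11 := hζ.pow_eq_one
  have hX := h.pow_eleven (R := R)
  have hζ0 : ζ ≠ 0 := hζ.ne_zero (by norm_num)
  have h11k : ((11 : ℕ) : k) ≠ 0 := (hζ.neZero').out
  have hP := isProj_sp h11k hζ0 h11 hX b
  have hbot : End.eigenspace (op v R [5]) (ζ ^ b) = ⊥ := Submodule.finrank_eq_zero.1 h0
  have hz : sp 11 ζ (op v R [5]) b = 0 := by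
    ext u
    have h1 := hP.map_mem u
    rw [hbot, Submodule.mem_bot] at h1
    exact h1
  have h1 : LinearMap.trace k V (sp 11 ζ (op v R [5]) b * op v R [7]) = 0 := by rw [hz, zero_mul, map_zero]
  unfold sp av at h1
  rw [smul_mul_assoc, map_smul, smul_eq_mul, Finset.sum_mul, map_sum] at h1
  have h2 := (mul_eq_zero.1 h1).resolve_left (inv_ne_zero h11k)
  rw [← h2]
  refine Finset.sum_congr rfl fun i _ => ?_
  rw [smul_pow, smul_mul_assoc, map_smul, smul_eq_mul, inv_pow_red h11 hb, tw, op_append, op_replicate]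

theorem sum_zero (hζ : IsPrimitiveRoot ζ 11) :
    1 + ζ + ζ ^ 2 + ζ ^ 3 + ζ ^ 4 + ζ ^ 5 + ζ ^ 6 + ζ ^ 7 + ζ ^ 8 + ζ ^ 9 + ζ ^ 10 = 0 := by
  have h5 : (ζ - 1) * (1 + ζ + ζ ^ 2 + ζ ^ 3 + ζ ^ 4 + ζ ^ 5 + ζ ^ 6 + ζ ^ 7 + ζ ^ 8 + ζ ^ 9 + ζ ^ 10) = 0 := by
    linear_combination hζ.pow_eq_one
  refine (mul_eq_zero.1 h5).resolve_left (sub_ne_zero.2 ?_)
  exact hζ.ne_one (by norm_num)

theorem Sat.trace_zero' (h : Sat v) (hζ : IsPrimitiveRoot ζ 11) {b : ℕ} (hb : b ≤ 11)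
    (h0 : finrank k (End.eigenspace (op v R [5]) (ζ ^ b)) = 0) :
    tw v R [3] + ζ ^ (((11 - b) * 1) % 11) * tw v R [0] +
      ζ ^ (((11 - b) * 2) % 11) * tw v R [5, 5, 5, 5, 5, 5, 5, 5, 5, 5] +
      ζ ^ (((11 - b) * 3) % 11) * tw v R [6] + ζ ^ (((11 - b) * 4) % 11) * tw v R [6] +
      ζ ^ (((11 - b) * 5) % 11) * tw v R [3, 0] + ζ ^ (((11 - b) * 6) % 11) * tw v R [3, 0] +
      ζ ^ (((11 - b) * 7) % 11) * tw v R [6] + ζ ^ (((11 - b) * 8) % 11) * tw v R [6] +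
      ζ ^ (((11 - b) * 9) % 11) * tw v R [5] + ζ ^ (((11 - b) * 10) % 11) * tw v R [0] = 0 := by
  have h1 := h.trace_zero hζ hb h0
  simp only [Finset.sum_range_succ, Finset.sum_range_zero, zero_add, List.replicate_succ, List.replicate_zero,
    List.cons_append, List.nil_append, h.t_7, h.t_57, h.t_557, h.t_5557, h.t_55557, h.t_555557, h.t_5555557,
    h.t_55555557, h.t_555555557, h.t_5555555557, h.t_55555555557] at h1
  rw [Nat.mul_zero, Nat.zero_mod, pow_zero, one_mul] at h1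
  exact h1

/-- if the weights of one class do not occur then `T(2) = T(6)` -/
theorem Sat.two_eq_six (h : Sat v) (hζ : IsPrimitiveRoot ζ 11)
    (h0 : ∀ c : ℕ, (c = 2 ∨ c = 6 ∨ c = 7 ∨ c = 8 ∨ c = 10) → finrank k (End.eigenspace (op v R [5]) (ζ ^ c)) = 0) :
    tw v R [3] = tw v R [3, 0] := by
  have h11 := hζ.pow_eq_one
  have hs := sum_zero hζ
  have h11k : (11 : k) ≠ 0 := by
    have := (hζ.neZero').out
    simpa using this
  have S2 := h.trace_zero' hζ (by norm_num) (h0 2 (by norm_num))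
  have S6 := h.trace_zero' hζ (by norm_num) (h0 6 (by norm_num))
  have S7 := h.trace_zero' hζ (by norm_num) (h0 7 (by norm_num))
  have S8 := h.trace_zero' hζ (by norm_num) (h0 8 (by norm_num))
  have S10 := h.trace_zero' hζ (by norm_num) (h0 10 (by norm_num))
  norm_num at S2 S6 S7 S8 S10
  generalize tw v R [3] = T2 at *
  generalize tw v R [3, 0] = T6 at *
  generalize tw v R [0] = T3 at *
  generalize tw v R [6] = T5 at *
  generalize tw v R [5] = Tp at *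
  generalize tw v R [5, 5, 5, 5, 5, 5, 5, 5, 5, 5] = Tm at *
  have key : 11 * (T6 - T2) = 0 := by
    linear_combination (ζ ^ 10 + ζ ^ 1 - 2) * S2 + (ζ ^ 8 + ζ ^ 3 - 2) * S6 + (ζ ^ 2 + ζ ^ 9 - 2) * S7 +
      (ζ ^ 7 + ζ ^ 4 - 2) * S8 + (ζ ^ 6 + ζ ^ 5 - 2) * S10 -
      ((2 * ζ ^ 1 + 2 * ζ ^ 2 + 1 * ζ ^ 3 + 2 * ζ ^ 4 + 2 * ζ ^ 5 + 1 * ζ ^ 8) * T3 +
      (2 * ζ ^ 2 + 2 * ζ ^ 6 + 1 * ζ ^ 7) * Tm + (4 * ζ ^ 1 + 4 * ζ ^ 2 + 3 * ζ ^ 3 + 3 * ζ ^ 4 + 2 * ζ ^ 5 +
      2 * ζ ^ 6 + 1 * ζ ^ 7 + 1 * ζ ^ 8) * T5 + (10 * ζ ^ 0 + 1 * ζ ^ 1 + 1 * ζ ^ 3 + 1 * ζ ^ 5 + 1 * ζ ^ 7 +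
      1 * ζ ^ 9) * T6 + (2 * ζ ^ 1 + 2 * ζ ^ 3 + 1 * ζ ^ 4) * Tp) * h11 - (T2 - T6) * hs
  have := (mul_eq_zero.1 key).resolve_left h11k
  linear_combination -this

/-- **Elements of order 11 have real traces** (dimension at most 12, characteristic not 3, 11). -/
theorem Sat.eleven_real (h : Sat v) (hω : IsPrimitiveRoot ω 3) (hζ : IsPrimitiveRoot ζ 11) (hE : op v R [0] ≠ 1)
    (hn : finrank k V ≤ 12) : tw v R [5, 5, 5, 5, 5, 5, 5, 5, 5, 5] = tw v R [5] := by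
  obtain ⟨ε, hε, -, hε3⟩ := h.eps (R := R) hω hE hn
  have h3k : (3 : k) ≠ 0 := by
    have := (hω.neZero').out
    simpa using this
  have hne : tw v R [3] ≠ tw v R [3, 0] := by
    intro hc
    rw [hc, sub_self] at hε3
    rcases hε with rfl | rfl
    · exact h3k (by linear_combination -hε3)
    · exact h3k (by linear_combination hε3)
  obtain ⟨m, a, b, ha, hb, -, hd, T1, T2⟩ := h.eigen (R := R) hζ
  by_cases hab : a = b
  · rw [T1, T2, hab]
  · exfalso
    have h1 : a = 0 ∨ b = 0 := by omega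
    rcases h1 with h1 | h1
    · -- squares missing : use the inverse root
      apply hne
      have hζ' : IsPrimitiveRoot ζ⁻¹ 11 := hζ.inv
      refine h.two_eq_six (ζ := ζ⁻¹) hζ' ?_
      have q : ∀ c : ℕ, c ≤ 11 → ζ⁻¹ ^ c = ζ ^ (11 - c) := by
        intro c hc
        rw [inv_pow, inv_eq_iff_eq_inv]
        apply eq_inv_of_mul_eq_one_left
        rw [← pow_add, Nat.add_sub_cancel' hc, hζ.pow_eq_one]
      rintro c (rfl | rfl | rfl | rfl | rfl)
      · rw [q 2 (by norm_num), ha 9 (by norm_num), h1]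
      · rw [q 6 (by norm_num), ha 5 (by norm_num), h1]
      · rw [q 7 (by norm_num), ha 4 (by norm_num), h1]
      · rw [q 8 (by norm_num), ha 3 (by norm_num), h1]
      · rw [q 10 (by norm_num), ha 1 (by norm_num), h1]
    · apply hne
      refine h.two_eq_six hζ ?_
      intro c hc
      rw [hb c hc, h1]

end eleven

end Cfsg.Agent.H6.M11
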