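import Cfsg.Agent.H6.M11.Line

/-!
# Characteristic at least 5: the trace of `y` is real in dimensions 9, 11, 12 (helper6)
-/

set_option autoImplicit false
set_option linter.unusedSectionVars false
set_option linter.unusedVariables false
set_option maxRecDepth 100000

namespace Cfsg.Agent.H6.M11

open Module LinearMap

variable {G : Type*} [Group G] {v : ℕ → G} {k : Type*} [Field k] {V : Type*} [AddCommGroup V] [Module k V]
  [FiniteDimensional k V] {R : G →* End k V} {ω : k}

section tabs

variable (h : Sat v) (h2 : (2 : k) ≠ 0) (h3 : (3 : k) ≠ 0)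

include h h2

theorem Sat.trQ0 : 8 * LinearMap.trace k V (op v R [] * pQ v R) = tw v R [] + tw v R [3] + 6 * tw v R [2, 2] := by
  rw [trace_pQ h2 []]
  simp only [List.nil_append, h.t_2222, h.t_222222, h.t_32, h.t_3222, h.t_322222, h.t_32222222]
  ring

theorem Sat.trQ1 : 8 * LinearMap.trace k V (op v R [4] * pQ v R) = 4 * tw v R [0] + 4 * tw v R [3, 0] := by
  rw [trace_pQ h2 [4]]
  simp only [List.cons_append, List.nil_append, h.t_4, h.t_422, h.t_42222, h.t_4222222, h.t_432, h.t_43222,
    h.t_4322222, h.t_432222222]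
  ring

theorem Sat.trQ2 : 8 * LinearMap.trace k V (op v R [4, 4] * pQ v R) = 4 * tw v R [0] + 4 * tw v R [3, 0] := by
  rw [trace_pQ h2 [4, 4]]
  simp only [List.cons_append, List.nil_append, h.t_44, h.t_4422, h.t_442222, h.t_44222222, h.t_4432, h.t_443222,
    h.t_44322222, h.t_4432222222]
  ring

theorem Sat.trQs0 : 8 * LinearMap.trace k V (op v R [3] * pQ v R) =
    4 * tw v R [3] + 2 * (tw v R [2] + tw v R [2, 2, 2, 2, 2, 2, 2]) := by
  rw [trace_pQ h2 [3]]
  simp only [List.cons_append, List.nil_append, h.t_322, h.t_32222, h.t_3222222, h.t_332, h.t_33222, h.t_3322222,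
    h.t_332222222]
  ring

theorem Sat.trQs1 : 8 * LinearMap.trace k V (op v R [3, 4] * pQ v R) =
    4 * tw v R [3] + 2 * (tw v R [2] + tw v R [2, 2, 2, 2, 2, 2, 2]) := by
  rw [trace_pQ h2 [3, 4]]
  simp only [List.cons_append, List.nil_append, h.t_34, h.t_3422, h.t_342222, h.t_34222222, h.t_3432, h.t_343222,
    h.t_34322222, h.t_3432222222]
  ring

theorem Sat.trQs2 : 8 * LinearMap.trace k V (op v R [3, 4, 4] * pQ v R) =
    4 * tw v R [3] + 2 * (tw v R [2] + tw v R [2, 2, 2, 2, 2, 2, 2]) := by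
  rw [trace_pQ h2 [3, 4, 4]]
  simp only [List.cons_append, List.nil_append, h.t_344, h.t_34422, h.t_3442222, h.t_344222222, h.t_34432, h.t_3443222,
    h.t_344322222, h.t_34432222222]
  ring

end tabs

theorem Sat.trS (h : Sat v) (h2 : (2 : k) ≠ 0) (h3 : (3 : k) ≠ 0) :
    24 * LinearMap.trace k V (pS v R) =
      tw v R [] + tw v R [3] + 6 * tw v R [2, 2] + 8 * tw v R [0] + 8 * tw v R [3, 0] := by
  have e := trace_pS (v := v) (R := R) h3 []
  rw [List.nil_append, List.nil_append, op_nil, one_mul, ← op_nil v R] at e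
  linear_combination 8 * e + h.trQ0 (R := R) h2 + h.trQ1 (R := R) h2 + h.trQ2 (R := R) h2

theorem Sat.trSs (h : Sat v) (h2 : (2 : k) ≠ 0) (h3 : (3 : k) ≠ 0) :
    24 * LinearMap.trace k V (op v R [3] * pS v R) =
      12 * tw v R [3] + 6 * (tw v R [2] + tw v R [2, 2, 2, 2, 2, 2, 2]) := by
  have e := trace_pS (v := v) (R := R) h3 [3]
  rw [List.cons_append, List.nil_append, List.cons_append, List.nil_append] at e
  linear_combination 8 * e + h.trQs0 (R := R) h2 + h.trQs1 (R := R) h2 + h.trQs2 (R := R) h2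

/-- **An invariant line**, if the trace of `y` is not real, in characteristic at least 5 and dimension at most 12,
not 10. -/
theorem Sat.line (h : Sat v) (hω : IsPrimitiveRoot ω 3) (h2 : (2 : k) ≠ 0) (hE : op v R [0] ≠ 1)
    (hn : finrank k V ≤ 12) (h10 : finrank k V ≠ 10) (hy : tw v R [2, 2, 2, 2, 2, 2, 2] ≠ tw v R [2]) :
    tw v R [2, 2] ≠ 0 ∧ ∃ u : V, u ≠ 0 ∧ ∃ c : k, op v R [0] u = u ∧ op v R [1] u = u ∧ op v R [4] u = u ∧
      op v R [2] u = c • u ∧ op v R [3] u = c • u := by
  have h3 : (3 : k) ≠ 0 := three_ne hω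
  have h24 : (24 : k) ≠ 0 := by
    rw [show (24 : k) = 2 * 2 * 2 * 3 by norm_num]
    exact mul_ne_zero (mul_ne_zero (mul_ne_zero h2 h2) h2) h3
  obtain ⟨f, α, β, ε, hε, hεs, hV, hCp, hCm, hα, hβ', hαβ, hT2, hT6, hβ, hT3⟩ := h.cases (R := R) hω h2 hE hn hy
  have hf : f = 1 ∨ f = 2 := by omega
  -- `s` on `Cp`
  have hs : (∀ u ∈ Cp v R, op v R [3] u = -(ε • u)) ∧ ((ε = 1 ∧ f = 2) ∨ ε = -1) := by
    rcases hε with rfl | rfl
    · have hb : β = 2 := by
        apply cast_eq h2 h3
        · rw [hβ]; push_cast; ring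
        · omega
        · omega
      refine ⟨fun u hu => ?_, Or.inl ⟨rfl, by omega⟩⟩
      have e1 : Cp v R ≤ End.eigenspace (op v R [3]) (-1) := le_of_finrank (by omega)
      have e2 := e1 hu
      rw [End.mem_eigenspace_iff, neg_smul] at e2
      exact e2
    · have hb : β = 0 := by
        apply cast_eq h2 h3
        · rw [hβ]; push_cast; ring
        · omega
        · omega
      refine ⟨fun u hu => ?_, Or.inr rfl⟩
      have e1 : Cp v R ≤ End.eigenspace (op v R [3]) 1 := le_of_finrank (by omega)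
      have e2 := e1 hu
      rw [End.mem_eigenspace_iff, one_smul] at e2
      rw [e2, neg_smul, neg_neg, one_smul]
  obtain ⟨hs, hcase⟩ := hs
  obtain ⟨hy2, hyy, hq, hT4, hTy⟩ := h.on_Cp (R := R) hω h2 (f := f) (by omega) hε hCp hs
  have hT4ne : tw v R [2, 2] ≠ 0 := by
    rw [hT4]
    rcases hf with rfl | rfl
    · simp
    · exact_mod_cast h2
  refine ⟨hT4ne, ?_⟩
  have hn' : tw v R [] = (f : k) + 10 := by rw [tw_nil, hV]; push_cast; ring
  -- the fixed space of the quaternion group
  have hUT : LinearMap.trace k V (pQ v R) = (finrank k (UQ v R) : k) := trace_isProj (h.isProj_pQ h2)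
  have hU : finrank k (UQ v R) = f + 1 := by
    have e1 := h.finrank_yy (R := R)
    have e2 : finrank k (UQ v R) ≤ finrank k (fix (op v R [2, 2])) := Submodule.finrank_mono inf_le_left
    apply cast_eq h2 h3
    · apply mul_left_cancel₀ (eight_ne h2)
      have e3 := h.trQ0 (R := R) h2
      rw [op_nil, one_mul, hUT] at e3
      push_cast
      linear_combination e3 + hn' + hT2 + 6 * hT4
    · omega
    · omega
  have hCU : Cp v R ≤ UQ v R := fun u hu => mem_UQ.2 ⟨hyy u hu, hq u hu⟩
  -- the fixed space of `SL(2,3)`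
  have hSP := h.isProj_pS (R := R) h2 h3
  have hST : LinearMap.trace k V (pS v R) = (finrank k (fix (op v R [4]) ⊓ UQ v R : Submodule k V) : k) :=
    trace_isProj hSP
  have hSle : finrank k (fix (op v R [4]) ⊓ UQ v R : Submodule k V) ≤ f + 1 := by
    rw [← hU]
    exact Submodule.finrank_mono inf_le_right
  have hS : (finrank k (fix (op v R [4]) ⊓ UQ v R : Submodule k V) : k) = f - ε := by
    apply mul_left_cancel₀ h24
    rw [← hST, h.trS h2 h3]
    linear_combination hn' + hT2 + 6 * hT4 + 8 * hT3 - 8 * hT6 + 8 * hT2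
  rcases hcase with ⟨rfl, rfl⟩ | rfl
  · -- the sign is `1`
    have hS1 : finrank k (fix (op v R [4]) ⊓ UQ v R : Submodule k V) = 1 := by
      apply cast_eq h2 h3
      · rw [hS]; push_cast; ring
      · omega
      · omega
    have hTs : LinearMap.trace k V (op v R [3] * pS v R) = -1 := by
      apply mul_left_cancel₀ h24
      rw [h.trSs h2 h3]
      push_cast at hT2 hTy
      linear_combination 12 * hT2 + 6 * hTy
    have hTq : LinearMap.trace k V (op v R [3] * pQ v R) = -1 := by
      apply mul_left_cancel₀ (eight_ne h2)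
      rw [h.trQs0 h2]
      push_cast at hT2 hTy
      linear_combination 4 * hT2 + 2 * hTy
    obtain ⟨d1, d2⟩ := two_dims h2 hSP (h.s_pS h2 h3) (h.ss _)
    obtain ⟨d3, d4⟩ := two_dims h2 (h.isProj_pQ (R := R) h2) (h.s_pQ h2) (h.ss _)
    rw [hTs] at d2
    rw [hTq] at d4
    rw [hS1] at d1
    rw [hU] at d3
    have c1 : (1 : k) = (finrank k (fix (op v R [4]) ⊓ UQ v R ⊓ End.eigenspace (op v R [3]) 1 : Submodule k V) : k) +
        (finrank k (fix (op v R [4]) ⊓ UQ v R ⊓ End.eigenspace (op v R [3]) (-1) : Submodule k V) : k) := by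
      have := congrArg (Nat.cast : ℕ → k) d1
      rwa [Nat.cast_add, Nat.cast_one] at this
    have c3 : (2 : k) + 1 = (finrank k (UQ v R ⊓ End.eigenspace (op v R [3]) 1 : Submodule k V) : k) +
        (finrank k (UQ v R ⊓ End.eigenspace (op v R [3]) (-1) : Submodule k V) : k) := by
      have := congrArg (Nat.cast : ℕ → k) d3
      rw [Nat.cast_add, Nat.cast_add, Nat.cast_one] at this
      exact_mod_cast this
    have m1 : finrank k (fix (op v R [4]) ⊓ UQ v R ⊓ End.eigenspace (op v R [3]) (-1) : Submodule k V) = 1 := by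
      apply cast_eq h2 h3
      · apply mul_left_cancel₀ h2
        push_cast
        linear_combination d2 - c1
      · omega
      · omega
    have m3 : finrank k (UQ v R ⊓ End.eigenspace (op v R [3]) (-1) : Submodule k V) = 2 := by
      apply cast_eq h2 h3
      · apply mul_left_cancel₀ h2
        push_cast
        linear_combination d4 - c3
      · omega
      · omega
    have hle : fix (op v R [4]) ⊓ UQ v R ≤ End.eigenspace (op v R [3]) (-1) := le_of_finrank (by rw [m1, hS1])
    have hCle : Cp v R ≤ UQ v R ⊓ End.eigenspace (op v R [3]) (-1) := by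
      refine le_inf hCU fun u hu => ?_
      rw [End.mem_eigenspace_iff, hs u hu, one_smul, neg_one_smul]
    have hCeq : Cp v R = UQ v R ⊓ End.eigenspace (op v R [3]) (-1) := Submodule.eq_of_le_of_finrank_eq hCle (by rw [hCp, m3])
    obtain ⟨⟨u, hu⟩, hu0, -⟩ := finrank_eq_one_iff'.1 hS1
    have hu0' : u ≠ 0 := fun hc => hu0 (Subtype.ext hc)
    have huC : u ∈ Cp v R := by
      rw [hCeq]
      exact Submodule.mem_inf.2 ⟨(Submodule.mem_inf.1 hu).2, hle hu⟩
    have huW := mem_Wt.1 (Submodule.mem_inf.1 huC).1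
    rw [one_smul] at huW
    refine ⟨u, hu0', -1, huW.1, huW.2, mem_fix.1 (Submodule.mem_inf.1 hu).1, ?_, ?_⟩
    · rw [hy2 u huC, one_smul, neg_one_smul]
    · rw [hs u huC, one_smul, neg_one_smul]
  · -- the sign is `-1`
    have hS1 : finrank k (fix (op v R [4]) ⊓ UQ v R : Submodule k V) = f + 1 := by
      apply cast_eq h2 h3
      · rw [hS]; push_cast; ring
      · omega
      · omega
    have hle : UQ v R ≤ fix (op v R [4]) := by
      apply le_of_finrank
      rw [inf_comm, hS1, hU]
    have hpos : 0 < finrank k (Cp v R) := by omega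
    obtain ⟨⟨u, huC⟩, hu0⟩ := Module.finrank_pos_iff_exists_ne_zero.1 hpos
    have hu0' : u ≠ 0 := fun hc => hu0 (Subtype.ext hc)
    have huW := mem_Wt.1 (Submodule.mem_inf.1 huC).1
    rw [one_smul] at huW
    refine ⟨u, hu0', 1, huW.1, huW.2, mem_fix.1 (hle (hCU huC)), ?_, ?_⟩
    · rw [hy2 u huC, neg_smul, neg_neg]
    · rw [hs u huC, neg_smul, neg_neg]

end Cfsg.Agent.H6.M11
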