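import Cfsg.Agent.H915.LD
import Cfsg.Agent.H6.M11.Reps
import Cfsg.Agent.H6.M11.Fin
import Cfsg.Agent.H919.AschBurnside

/-!
# Cores as representations over an algebraically closed field (helper6)
-/

set_option autoImplicit false
set_option linter.unusedSectionVars false
set_option linter.unusedVariables false
set_option maxRecDepth 100000

namespace Cfsg.Agent.H6.M11

open Matrix Module Cfsg Cfsg.Geo Cfsg.Agent.H915.LD

universe u

variable {ι : Type} [Fintype ι] [DecidableEq ι] {F : Type u} [Field F] {P : Subgroup (GL ι F)}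
  (k : Type*) [Field k] [Algebra F k]

/-- The representation over an extension field. -/
noncomputable def rep (P : Subgroup (GL ι F)) (k : Type*) [Field k] [Algebra F k] : P →* Module.End k (ι → k) :=
  (Matrix.toLinAlgEquiv' : Matrix ι ι k ≃ₐ[k] _).toAlgHom.toRingHom.toMonoidHom.comp
    ((algebraMap F k).mapMatrix.toMonoidHom.comp ((Units.coeHom _).comp P.subtype))

theorem rep_apply (g : P) : rep P k g = Matrix.toLin' (((g : GL ι F) : Matrix ι ι F).map (algebraMap F k)) := rfl

theorem trace_rep (g : P) : LinearMap.trace k _ (rep P k g) = algebraMap F k (tr (g : GL ι F)) := by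
  rw [rep_apply, Matrix.trace_toLin'_eq]
  simp [Matrix.trace, tr]

theorem rep_eq_one {g : P} (h : rep P k g = 1) : g = 1 := by
  apply Subtype.ext
  apply Units.ext
  have h2 : (((g : GL ι F) : Matrix ι ι F)).map (algebraMap F k) = 1 := by
    apply Matrix.toLin'.injective
    rw [← rep_apply, h, Matrix.toLin'_one]
    rfl
  ext i j
  have h3 := congrFun (congrFun h2 i) j
  rw [Matrix.map_apply] at h3
  apply (algebraMap F k).injective
  rw [h3]
  by_cases hij : i = j
  · rw [hij]; simp
  · rw [Matrix.one_apply_ne hij]
    show 0 = algebraMap F k ((1 : Matrix ι ι F) i j)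
    rw [Matrix.one_apply_ne hij, map_zero]

theorem span_mat (hC : Core P) :
    Submodule.span F (Set.range fun g : P => ((g : GL ι F) : Matrix ι ι F)) = ⊤ := by
  have h := Cfsg.Agent.H919.adjoin_eq_top_of_absIrr hC.absIrred
  rw [eq_top_iff]
  intro x _
  have hx : x ∈ Algebra.adjoin F (matrixSet P) := by rw [h]; trivial
  induction hx using Algebra.adjoin_induction with
  | mem x hx =>
    obtain ⟨g, hg, rfl⟩ := hx
    exact Submodule.subset_span ⟨⟨g, hg⟩, rfl⟩
  | algebraMap r =>
    rw [Algebra.algebraMap_eq_smul_one]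
    refine Submodule.smul_mem _ _ (Submodule.subset_span ⟨1, ?_⟩)
    simp
  | add x y _ _ hx hy => exact Submodule.add_mem _ (hx trivial) (hy trivial)
  | mul x y _ _ hx hy =>
    have h1 := Submodule.mul_mem_mul (hx trivial) (hy trivial)
    rw [Submodule.span_mul_span] at h1
    refine Submodule.span_mono ?_ h1
    rintro _ ⟨_, ⟨g, rfl⟩, _, ⟨g', rfl⟩, rfl⟩
    exact ⟨g * g', by simp⟩

theorem span_rep (hC : Core P) : Submodule.span k (Set.range (rep P k)) = ⊤ := by
  classical
  have h := span_mat hC
  have h1 : ∀ M : Matrix ι ι F,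
      Matrix.toLin' (M.map (algebraMap F k)) ∈ Submodule.span k (Set.range (rep P k)) := by
    intro M
    have hM : M ∈ Submodule.span F (Set.range fun g : P => ((g : GL ι F) : Matrix ι ι F)) := by
      rw [h]; trivial
    induction hM using Submodule.span_induction with
    | mem x hx =>
      obtain ⟨g, rfl⟩ := hx
      exact Submodule.subset_span ⟨g, rfl⟩
    | zero =>
      rw [Matrix.map_zero _ (map_zero _), map_zero]
      exact Submodule.zero_mem _
    | add x y _ _ hx hy =>
      rw [Matrix.map_add _ (map_add _), map_add]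
      exact Submodule.add_mem _ hx hy
    | smul a x _ hx =>
      have h2 : (a • x).map (algebraMap F k) = (algebraMap F k a) • x.map (algebraMap F k) := by
        ext i j
        simp
      rw [h2, map_smul]
      exact Submodule.smul_mem _ _ hx
  rw [eq_top_iff]
  intro f _
  have h2 : f = Matrix.toLin' (LinearMap.toMatrix' f) := by simp
  rw [h2, Matrix.matrix_eq_sum_single (LinearMap.toMatrix' f), map_sum]
  refine Submodule.sum_mem _ fun i _ => ?_
  rw [map_sum]
  refine Submodule.sum_mem _ fun j _ => ?_
  have h3 : Matrix.single i j (LinearMap.toMatrix' f i j) =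
      (LinearMap.toMatrix' f i j) • (Matrix.single i j (1 : F)).map (algebraMap F k) := by
    rw [Matrix.map_single, map_one, Matrix.smul_single, smul_eq_mul, mul_one]
  rw [h3, map_smul]
  exact Submodule.smul_mem _ _ (h1 _)

/-- an invariant subspace is trivial -/
theorem invariant (hC : Core P) (S : Submodule k (ι → k)) (hS : ∀ g : P, ∀ x ∈ S, rep P k g x ∈ S) :
    S = ⊥ ∨ S = ⊤ := by
  have h1 : ∀ f : Module.End k (ι → k), ∀ x ∈ S, f x ∈ S := by
    intro f
    have hf : f ∈ Submodule.span k (Set.range (rep P k)) := by rw [span_rep k hC]; trivial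
    induction hf using Submodule.span_induction with
    | mem f hf =>
      obtain ⟨g, rfl⟩ := hf
      exact hS g
    | zero => intro x _; rw [LinearMap.zero_apply]; exact S.zero_mem
    | add f g _ _ hf hg => intro x hx; rw [LinearMap.add_apply]; exact S.add_mem (hf x hx) (hg x hx)
    | smul a f _ hf => intro x hx; rw [LinearMap.smul_apply]; exact S.smul_mem _ (hf x hx)
  by_cases h0 : S = ⊥
  · exact Or.inl h0
  · right
    obtain ⟨x, hx, hx0⟩ := (Submodule.ne_bot_iff _).1 h0
    rw [eq_top_iff]
    intro y _
    obtain ⟨i, hi⟩ : ∃ i, x i ≠ 0 := by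
      by_contra hc
      push Not at hc
      exact hx0 (funext hc)
    have h2 := h1 (Matrix.toLin' (Matrix.vecMulVec y (Pi.single i (x i)⁻¹))) x hx
    have h3 : Matrix.toLin' (Matrix.vecMulVec y (Pi.single i (x i)⁻¹)) x = y := by
      rw [Matrix.toLin'_apply]
      ext j
      rw [Matrix.vecMulVec_mulVec, single_dotProduct]
      simp [hi]
    rwa [h3] at h2

end Cfsg.Agent.H6.M11
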