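import Cfsg.Agent.H6.M11.FixE

/-!
# Characteristic at least 5, dimension at most 12: the fixed space of `E` (helper6)
-/

set_option autoImplicit false
set_option linter.unusedSectionVars false
set_option maxRecDepth 100000

namespace Cfsg.Agent.H6.M11

open Module LinearMap

variable {G : Type*} [Group G] {v : ℕ → G} {k : Type*} [Field k] {V : Type*} [AddCommGroup V] [Module k V]
  [FiniteDimensional k V] {R : G →* End k V} {ω : k}

variable (v R) in
/-- the part of the fixed space of `E` fixed by `z = y⁴` -/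
noncomputable def Cp : Submodule k V := Wt v R 1 1 ⊓ End.eigenspace (op v R [2, 2, 2, 2]) 1

variable (v R) in
/-- the part of the fixed space of `E` inverted by `z = y⁴` -/
noncomputable def Cm : Submodule k V := Wt v R 1 1 ⊓ End.eigenspace (op v R [2, 2, 2, 2]) (-1)

variable (v R) in
/-- projection to `Cp` -/
noncomputable def pP : End k V := (2 : k)⁻¹ • (pE v R + op v R [2, 2, 2, 2] * pE v R)

variable (v R) in
/-- projection to `Cm` -/
noncomputable def pM : End k V := (2 : k)⁻¹ • (pE v R - op v R [2, 2, 2, 2] * pE v R)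

theorem Sat.z_sq (h : Sat v) : op v R [2, 2, 2, 2] * op v R [2, 2, 2, 2] = 1 := by
  rw [← op_append, ← op_nil v R]
  exact h.op_eq (by decide +kernel)

theorem Sat.z_comm (h : Sat v) (h3 : (3 : k) ≠ 0) :
    op v R [2, 2, 2, 2] * pE v R = pE v R * op v R [2, 2, 2, 2] := h.comm_word h3 _ (by decide)

theorem Sat.zz_pE (h : Sat v) : op v R [2, 2, 2, 2] * (op v R [2, 2, 2, 2] * pE v R) = pE v R := by
  rw [← mul_assoc, h.z_sq, one_mul]

theorem three_ne (hω : IsPrimitiveRoot ω 3) : (3 : k) ≠ 0 := by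
  have := (hω.neZero').out
  simpa using this

theorem Sat.isProj_pP (h : Sat v) (hω : IsPrimitiveRoot ω 3) (h2 : (2 : k) ≠ 0) : IsProj (Cp v R) (pP v R) :=
  isProj_plus h2 (h.isProj_pE hω) (h.z_comm (three_ne hω)) h.zz_pE

theorem Sat.isProj_pM (h : Sat v) (hω : IsPrimitiveRoot ω 3) (h2 : (2 : k) ≠ 0) : IsProj (Cm v R) (pM v R) :=
  isProj_minus h2 (h.isProj_pE hω) (h.z_comm (three_ne hω)) h.zz_pE

theorem trace_pP (w : List ℕ) :
    LinearMap.trace k V (op v R w * pP v R) = (2 : k)⁻¹ * (tE v R w + tE v R (w ++ [2, 2, 2, 2])) := by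
  rw [pP, mul_smul_comm, map_smul, smul_eq_mul, mul_add, map_add, ← mul_assoc, ← op_append]
  rfl

theorem trace_pM (w : List ℕ) :
    LinearMap.trace k V (op v R w * pM v R) = (2 : k)⁻¹ * (tE v R w - tE v R (w ++ [2, 2, 2, 2])) := by
  rw [pM, mul_smul_comm, map_smul, smul_eq_mul, mul_sub, map_sub, ← mul_assoc, ← op_append]
  rfl

theorem Sat.comm_z (h : Sat v) (w : List ℕ) (hw : ∀ i ∈ w, i = 2 ∨ i = 3) :
    op v R w * op v R [2, 2, 2, 2] = op v R [2, 2, 2, 2] * op v R w := by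
  induction w with
  | nil => rw [op_nil, one_mul, mul_one]
  | cons i w ih =>
    rw [op_cons, mul_assoc, ih (fun j hj => hw j (List.mem_cons_of_mem _ hj)), ← mul_assoc, ← mul_assoc]
    congr 1
    rcases hw i List.mem_cons_self with rfl | rfl
    · rw [← op_append, ← op_append]
      rfl
    · rw [← op_append, ← op_append]
      exact h.op_eq (by decide +kernel)

theorem Sat.comm_pP (h : Sat v) (h3 : (3 : k) ≠ 0) (w : List ℕ) (hw : ∀ i ∈ w, i = 2 ∨ i = 3) :
    op v R w * pP v R = pP v R * op v R w := by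
  unfold pP
  rw [mul_smul_comm, smul_mul_assoc, mul_add, add_mul, ← mul_assoc, h.comm_z w hw, mul_assoc, h.comm_word h3 w hw,
    mul_assoc]

theorem Sat.comm_pM (h : Sat v) (h3 : (3 : k) ≠ 0) (w : List ℕ) (hw : ∀ i ∈ w, i = 2 ∨ i = 3) :
    op v R w * pM v R = pM v R * op v R w := by
  unfold pM
  rw [mul_smul_comm, smul_mul_assoc, mul_sub, sub_mul, ← mul_assoc, h.comm_z w hw, mul_assoc, h.comm_word h3 w hw,
    mul_assoc]

theorem Sat.ss (h : Sat v) (Q : End k V) : op v R [3] * (op v R [3] * Q) = Q := by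
  rw [← mul_assoc, ← op_append]
  have : op v R ([3] ++ [3]) = 1 := by
    rw [← op_nil v R]
    exact h.op_eq (by decide +kernel)
  rw [this, one_mul]

theorem half_cancel (h2 : (2 : k) ≠ 0) {a b : k} (h : 2 * a = 2 * b) : a = b := mul_left_cancel₀ h2 h

/-- the basic data -/
theorem Sat.basic (h : Sat v) (hω : IsPrimitiveRoot ω 3) (h2 : (2 : k) ≠ 0) (hE : op v R [0] ≠ 1)
    (hn : finrank k V ≤ 12) :
    ∃ (f a α β : ℕ) (ε : k), (ε = 1 ∨ ε = -1) ∧ (∀ u ∈ Wt v R ω 1, op v R [3] u = ε • u) ∧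
      finrank k V = f + 2 * a + 8 ∧ finrank k (Cp v R) = f ∧ finrank k (Cm v R) = 2 * a ∧
      finrank k (Cp v R ⊓ End.eigenspace (op v R [3]) 1 : Submodule k V) = α ∧
      finrank k (Cp v R ⊓ End.eigenspace (op v R [3]) (-1) : Submodule k V) = β ∧ α + β = f ∧
      tw v R [3] = f - 2 * a ∧ tw v R [3] - tw v R [3, 0] = 3 * ε ∧ (β : k) = a + ε ∧
      tw v R [0] = f + 2 * a - 1 := by
  have h3 : (3 : k) ≠ 0 := three_ne hω
  obtain ⟨ε, hε, hεs, hε3⟩ := h.eps (R := R) hω hE hn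
  have hf := h.wt_zero (R := R) hω hE hn
  obtain ⟨d1, d2⟩ := two_dims h2 (h.isProj_pE (R := R) hω) (h.z_comm h3) h.zz_pE
  have hs3 : ∀ i ∈ [3], i = 2 ∨ i = 3 := by decide
  obtain ⟨e1, e2⟩ := two_dims h2 (h.isProj_pM (R := R) hω h2) (h.comm_pM h3 [3] hs3) (h.ss _)
  obtain ⟨g1, g2⟩ := two_dims h2 (h.isProj_pP (R := R) hω h2) (h.comm_pP h3 [3] hs3) (h.ss _)
  have hz := h.tE_z (R := R) h3
  have hs := h.tE_s (R := R) h3
  have hsz := h.tE_sz (R := R) h3
  rw [trace_pM] at e2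
  rw [trace_pP] at g2
  have hss : tE v R [3] = tE v R [3, 2, 2, 2, 2] := by
    apply mul_left_cancel₀ h3
    rw [hs, hsz]
  rw [show ([3] : List ℕ) ++ [2, 2, 2, 2] = [3, 2, 2, 2, 2] from rfl, ← hss] at e2 g2
  rw [sub_self, mul_zero] at e2
  -- the minus part
  have hCm : finrank k (Wt v R 1 1 ⊓ End.eigenspace (op v R [2, 2, 2, 2]) (-1) : Submodule k V) = finrank k (Cm v R) := rfl
  have hCp : finrank k (Wt v R 1 1 ⊓ End.eigenspace (op v R [2, 2, 2, 2]) 1 : Submodule k V) = finrank k (Cp v R) := rfl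
  rw [hCm, hCp] at d1 d2
  have hd2 : tw v R [3] = (finrank k (Cp v R) : k) - (finrank k (Cm v R) : k) := by rw [← hz, ← d2]; rfl
  have h4 : finrank k (Cm v R ⊓ End.eigenspace (op v R [3]) 1 : Submodule k V) =
      finrank k (Cm v R ⊓ End.eigenspace (op v R [3]) (-1) : Submodule k V) := by
    apply cast_eq h2 h3
    · linear_combination -e2
    · omega
    · omega
  have hone := h.tE_one (R := R) h3
  rw [h.tE_nil hω, tw_nil, hf] at hone
  refine ⟨finrank k (Cp v R), finrank k (Cm v R ⊓ End.eigenspace (op v R [3]) 1 : Submodule k V), _, _, ε, hε, hεs,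
    by omega, rfl, by omega, rfl, rfl, g1.symm, ?_, hε3, ?_, ?_⟩
  · rw [hd2, e1, ← h4]
    push_cast
    ring
  · apply half_cancel h2
    apply mul_left_cancel₀ h3
    have h5 : (finrank k (Cp v R) : k) = (finrank k (Cp v R ⊓ End.eigenspace (op v R [3]) 1 : Submodule k V) : k) +
        (finrank k (Cp v R ⊓ End.eigenspace (op v R [3]) (-1) : Submodule k V) : k) := by
      have := congrArg (Nat.cast : ℕ → k) g1
      rwa [Nat.cast_add] at this
    have h6 : (finrank k (Cm v R) : k) = 2 * (finrank k (Cm v R ⊓ End.eigenspace (op v R [3]) 1 : Submodule k V) : k) := by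
      rw [e1, ← h4]; push_cast; ring
    have h7 : (2 : k)⁻¹ * (tE v R [3] + tE v R [3]) = tE v R [3] := by
      rw [← two_mul, ← mul_assoc, inv_mul_cancel₀ h2, one_mul]
    rw [h7] at g2
    linear_combination -hs + 3 * g2 + 2 * hε3 - 3 * hd2 - 3 * h5 + 3 * h6
  · have h8 : (8 : k) ≠ 0 := by
      rw [show (8 : k) = 2 * 2 * 2 by norm_num]
      exact mul_ne_zero (mul_ne_zero h2 h2) h2
    apply mul_left_cancel₀ h8
    have h9 : (finrank k (Wt v R 1 1) : k) = (finrank k (Cp v R) : k) + (finrank k (Cm v R) : k) := by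
      have := congrArg (Nat.cast : ℕ → k) d1
      rwa [Nat.cast_add] at this
    have h6 : (finrank k (Cm v R) : k) = 2 * (finrank k (Cm v R ⊓ End.eigenspace (op v R [3]) 1 : Submodule k V) : k) := by
      rw [e1, ← h4]; push_cast; ring
    push_cast at hone
    linear_combination -hone + 8 * h9 + 8 * h6

theorem eps_ne {ε : k} (hε : ε = 1 ∨ ε = -1) : ε ≠ 0 := by
  rcases hε with rfl | rfl
  · exact one_ne_zero
  · exact neg_ne_zero.2 one_ne_zero

/-- the dimension is at least 9 -/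
theorem Sat.nine_le (h : Sat v) (hω : IsPrimitiveRoot ω 3) (h2 : (2 : k) ≠ 0) (hE : op v R [0] ≠ 1)
    (hn : finrank k V ≤ 12) : 9 ≤ finrank k V := by
  obtain ⟨f, a, α, β, ε, hε, -, hV, -, -, -, -, hαβ, -, -, hβ, -⟩ := h.basic (R := R) hω h2 hE hn
  by_contra hc
  have h1 : a = 0 ∧ β = 0 := by omega
  obtain ⟨rfl, rfl⟩ := h1
  apply eps_ne hε
  simpa using hβ.symm

/-- if the trace of `y` is not real then the part of the fixed space of `E` inverted by `z` has dimension 2 -/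
theorem Sat.cases (h : Sat v) (hω : IsPrimitiveRoot ω 3) (h2 : (2 : k) ≠ 0) (hE : op v R [0] ≠ 1)
    (hn : finrank k V ≤ 12) (hy : tw v R [2, 2, 2, 2, 2, 2, 2] ≠ tw v R [2]) :
    ∃ (f α β : ℕ) (ε : k), (ε = 1 ∨ ε = -1) ∧ (∀ u ∈ Wt v R ω 1, op v R [3] u = ε • u) ∧
      finrank k V = f + 10 ∧ finrank k (Cp v R) = f ∧ finrank k (Cm v R) = 2 ∧
      finrank k (Cp v R ⊓ End.eigenspace (op v R [3]) 1 : Submodule k V) = α ∧
      finrank k (Cp v R ⊓ End.eigenspace (op v R [3]) (-1) : Submodule k V) = β ∧ α + β = f ∧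
      tw v R [3] = f - 2 ∧ tw v R [3] - tw v R [3, 0] = 3 * ε ∧ (β : k) = 1 + ε ∧
      tw v R [0] = f + 1 := by
  have h3 : (3 : k) ≠ 0 := three_ne hω
  obtain ⟨f, a, α, β, ε, hε, hεs, hV, hCp, hCm, hα, hβ', hαβ, hT2, hT6, hβ, hT3⟩ := h.basic (R := R) hω h2 hE hn
  have ha0 : a ≠ 0 := by
    rintro rfl
    apply hy
    have h4 : Cm v R = ⊥ := Submodule.finrank_eq_zero.1 (by rw [hCm])
    have h5 : pM v R = 0 := by
      ext u
      have h6 := (h.isProj_pM (R := R) hω h2).map_mem u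
      rw [h4, Submodule.mem_bot] at h6
      exact h6
    have h6 := trace_pM (v := v) (R := R) [2]
    rw [h5, mul_zero, map_zero, show ([2] : List ℕ) ++ [2, 2, 2, 2] = [2, 2, 2, 2, 2] from rfl, h.tE_y h3,
      h.tE_y5 h3] at h6
    have h7 := (mul_eq_zero.1 h6.symm).resolve_left (inv_ne_zero h2)
    linear_combination -h7
  have ha2 : a ≠ 2 := by
    rintro rfl
    have h4 : β = 0 := by omega
    subst h4
    rcases hε with rfl | rfl
    · apply h3
      push_cast at hβ
      linear_combination -hβ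
    · apply one_ne_zero (α := k)
      push_cast at hβ
      linear_combination -hβ
  have ha : a = 1 := by omega
  subst ha
  refine ⟨f, α, β, ε, hε, hεs, by omega, hCp, by omega, hα, hβ', hαβ, ?_, hT6, ?_, ?_⟩
  · rw [hT2]; push_cast; ring
  · rw [hβ]; push_cast; ring
  · rw [hT3]; push_cast; ring

end Cfsg.Agent.H6.M11
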