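import Cfsg.Agent.H6.M11.Tab

/-!
# Involutions on the range of a projection, absorption (helper6)
-/

set_option autoImplicit false
set_option linter.unusedSectionVars false
set_option maxRecDepth 100000

namespace Cfsg.Agent.H6.M11

open Module LinearMap

section lin

variable {k : Type*} [Field k] {V : Type*} [AddCommGroup V] [Module k V]

theorem cast_eq (h2 : (2 : k) ≠ 0) (h3 : (3 : k) ≠ 0) {a b : ℕ} (h : (a : k) = (b : k)) (h1 : a ≤ b + 4)
    (h1' : b ≤ a + 4) : a = b := by
  have key : ∀ c : ℕ, 0 < c → c ≤ 4 → (c : k) ≠ 0 := by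
    intro c hc hc4
    interval_cases c
    · simp
    · exact_mod_cast h2
    · exact_mod_cast h3
    · intro h4
      have h5 : (2 : k) * 2 = 0 := by
        rw [← h4]; norm_num
      exact h2 ((mul_eq_zero.1 h5).elim id id)
  rcases lt_trichotomy a b with hab | hab | hab
  · exfalso
    obtain ⟨c, rfl⟩ := Nat.exists_eq_add_of_lt hab
    push_cast at h
    refine key (c + 1) (by omega) (by omega) ?_
    push_cast
    linear_combination -h
  · exact hab
  · exfalso
    obtain ⟨c, rfl⟩ := Nat.exists_eq_add_of_lt hab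
    push_cast at h
    refine key (c + 1) (by omega) (by omega) ?_
    push_cast
    linear_combination h

theorem mem_of_comm {S : Submodule k V} {P Z : End k V} (hP : IsProj S P) (hc : Z * P = P * Z) {u : V} (hu : u ∈ S) :
    Z u ∈ S := by
  have h1 := hP.map_mem (Z u)
  rw [← Module.End.mul_apply, ← hc, Module.End.mul_apply, hP.map_id u hu] at h1
  exact h1

theorem sq_of_comm {S : Submodule k V} {P Z : End k V} (hP : IsProj S P) (hZ : Z * (Z * P) = P) {u : V} (hu : u ∈ S) :
    Z (Z u) = u := by
  have h1 := congrArg (fun f : End k V => f u) hZ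
  simp only [Module.End.mul_apply, hP.map_id u hu] at h1
  exact h1

theorem half_add (h2 : (2 : k) ≠ 0) (u : V) : (2 : k)⁻¹ • (u + u) = u := by
  rw [← two_smul k u, smul_smul, inv_mul_cancel₀ h2, one_smul]

/-- the two projections of an involution on the range of a projection -/
theorem isProj_plus (h2 : (2 : k) ≠ 0) {S : Submodule k V} {P Z : End k V} (hP : IsProj S P)
    (hc : Z * P = P * Z) (hZ : Z * (Z * P) = P) :
    IsProj (S ⊓ End.eigenspace Z 1) ((2 : k)⁻¹ • (P + Z * P)) := by
  refine ⟨fun u => ?_, fun u hu => ?_⟩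
  · refine Submodule.mem_inf.2 ⟨?_, ?_⟩
    · rw [LinearMap.smul_apply, LinearMap.add_apply]
      exact S.smul_mem _ (S.add_mem (hP.map_mem u) (mem_of_comm hP hc (hP.map_mem u)))
    · rw [End.mem_eigenspace_iff, one_smul, LinearMap.smul_apply, LinearMap.add_apply, map_smul, map_add,
        Module.End.mul_apply, sq_of_comm hP hZ (hP.map_mem u), add_comm]
  · obtain ⟨hu1, hu2⟩ := Submodule.mem_inf.1 hu
    rw [End.mem_eigenspace_iff, one_smul] at hu2
    rw [LinearMap.smul_apply, LinearMap.add_apply, Module.End.mul_apply, hP.map_id u hu1, hu2, half_add h2]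

theorem isProj_minus (h2 : (2 : k) ≠ 0) {S : Submodule k V} {P Z : End k V} (hP : IsProj S P)
    (hc : Z * P = P * Z) (hZ : Z * (Z * P) = P) :
    IsProj (S ⊓ End.eigenspace Z (-1)) ((2 : k)⁻¹ • (P - Z * P)) := by
  refine ⟨fun u => ?_, fun u hu => ?_⟩
  · refine Submodule.mem_inf.2 ⟨?_, ?_⟩
    · rw [LinearMap.smul_apply, LinearMap.sub_apply]
      exact S.smul_mem _ (S.sub_mem (hP.map_mem u) (mem_of_comm hP hc (hP.map_mem u)))
    · rw [End.mem_eigenspace_iff, LinearMap.smul_apply, LinearMap.sub_apply, map_smul, map_sub,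
        Module.End.mul_apply, sq_of_comm hP hZ (hP.map_mem u), smul_comm, neg_one_smul, neg_sub]
  · obtain ⟨hu1, hu2⟩ := Submodule.mem_inf.1 hu
    rw [End.mem_eigenspace_iff, neg_one_smul] at hu2
    rw [LinearMap.smul_apply, LinearMap.sub_apply, Module.End.mul_apply, hP.map_id u hu1, hu2, sub_neg_eq_add,
      half_add h2]

/-- an involution on the range of a projection -/
theorem two_dims [FiniteDimensional k V] (h2 : (2 : k) ≠ 0) {S : Submodule k V} {P Z : End k V} (hP : IsProj S P)
    (hc : Z * P = P * Z) (hZ : Z * (Z * P) = P) :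
    finrank k S = finrank k (S ⊓ End.eigenspace Z 1 : Submodule k V) +
        finrank k (S ⊓ End.eigenspace Z (-1) : Submodule k V) ∧
      LinearMap.trace k V (Z * P) = (finrank k (S ⊓ End.eigenspace Z 1 : Submodule k V) : k) -
        (finrank k (S ⊓ End.eigenspace Z (-1) : Submodule k V) : k) := by
  have h2' : (2 : k)⁻¹ * 2 = 1 := inv_mul_cancel₀ h2
  have half := half_add (V := V) h2
  have hP1 := isProj_plus h2 hP hc hZ
  have hP2 := isProj_minus h2 hP hc hZ
  constructor
  · have hinf : (S ⊓ End.eigenspace Z 1) ⊓ (S ⊓ End.eigenspace Z (-1)) = ⊥ := by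
      rw [eq_bot_iff]
      intro u hu
      obtain ⟨hu1, hu2⟩ := Submodule.mem_inf.1 hu
      have h3 := (Submodule.mem_inf.1 hu1).2
      have h4 := (Submodule.mem_inf.1 hu2).2
      rw [End.mem_eigenspace_iff, one_smul] at h3
      rw [End.mem_eigenspace_iff, neg_one_smul, h3] at h4
      rw [Submodule.mem_bot]
      have h5 : (2 : k) • u = 0 := by rw [two_smul]; nth_rewrite 1 [h4]; rw [neg_add_cancel]
      exact (smul_eq_zero.1 h5).resolve_left h2
    have hsup : (S ⊓ End.eigenspace Z 1) ⊔ (S ⊓ End.eigenspace Z (-1)) = S := by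
      refine le_antisymm (sup_le inf_le_left inf_le_left) ?_
      intro u hu
      rw [Submodule.mem_sup]
      refine ⟨_, hP1.map_mem u, _, hP2.map_mem u, ?_⟩
      rw [LinearMap.smul_apply, LinearMap.smul_apply, ← smul_add, LinearMap.add_apply, LinearMap.sub_apply,
        hP.map_id u hu, add_add_sub_cancel, half]
    have h3 := Submodule.finrank_sup_add_finrank_inf_eq (S ⊓ End.eigenspace Z 1) (S ⊓ End.eigenspace Z (-1))
    rw [hinf, hsup, finrank_bot, add_zero] at h3
    exact h3
  · rw [← trace_isProj hP1, ← trace_isProj hP2, ← map_sub, ← smul_sub, add_sub_sub_cancel, map_smul, map_add,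
      smul_eq_mul, ← two_mul, ← mul_assoc, h2', one_mul]

/-- absorption -/
theorem av_mul_of {m : ℕ} (hm : (m : k) ≠ 0) {X Q : End k V} (h : X * Q = Q) : av m X * Q = Q := by
  have h1 : ∀ i : ℕ, X ^ i * Q = Q := by
    intro i
    induction i with
    | zero => rw [pow_zero, one_mul]
    | succ i ih => rw [pow_succ, mul_assoc, h, ih]
  rw [av, smul_mul_assoc, Finset.sum_mul, Finset.sum_congr rfl (fun i _ => h1 i), Finset.sum_const, Finset.card_range,
    ← Nat.cast_smul_eq_nsmul k, smul_smul, inv_mul_cancel₀ hm, one_smul]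

theorem mul_av_of {m : ℕ} (hm : (m : k) ≠ 0) {X Q : End k V} (h : Q * X = Q) : Q * av m X = Q := by
  have h1 : ∀ i : ℕ, Q * X ^ i = Q := by
    intro i
    induction i with
    | zero => rw [pow_zero, mul_one]
    | succ i ih => rw [pow_succ, ← mul_assoc, ih, h]
  rw [av, mul_smul_comm, Finset.mul_sum, Finset.sum_congr rfl (fun i _ => h1 i), Finset.sum_const, Finset.card_range,
    ← Nat.cast_smul_eq_nsmul k, smul_smul, inv_mul_cancel₀ hm, one_smul]

theorem av_mul_self_right {m : ℕ} {X : End k V} (h : X ^ m = 1) : av m X * X = av m X := by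
  rw [← (comm_av (Commute.refl X) : Commute X (av m X)).eq, mul_av h]

/-- if two projections absorb -/
theorem le_of_finrank {S T : Submodule k V} [FiniteDimensional k V] (h : finrank k (S ⊓ T : Submodule k V) = finrank k S) :
    S ≤ T := by
  have h1 : S ⊓ T = S := Submodule.eq_of_le_of_finrank_eq inf_le_left h
  rw [← h1]
  exact inf_le_right

end lin

end Cfsg.Agent.H6.M11
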