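import Cfsg.Agent.H6.M11.TabL
import Cfsg.Agent.H6.M11.AB
import Cfsg.Agent.H6.M11.Two

/-!
# Characteristic 3: representations of `L₂(11)` of degree 6 with a fixed vector (helper6)
-/

set_option autoImplicit false
set_option linter.unusedSectionVars false
set_option linter.unusedVariables false
set_option maxRecDepth 100000

namespace Cfsg.Agent.H6.M11

open Module LinearMap

variable {G : Type*} [Group G] {v : ℕ → G} {k : Type*} [Field k] {V : Type*} [AddCommGroup V] [Module k V]
  [FiniteDimensional k V] {R : G →* End k V} {ζ : k}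

/-! ### characteristic 3 -/

section char3

variable (h3 : (3 : k) = 0)

include h3

theorem two_ne_of3 : (2 : k) ≠ 0 := fun h => one_ne_zero (α := k) (by linear_combination h3 - h)
theorem five_ne_of3 : ((5 : ℕ) : k) ≠ 0 := fun h => one_ne_zero (α := k) (by push_cast at h; linear_combination 2 * h3 - h)
theorem eleven_ne_of3 : ((11 : ℕ) : k) ≠ 0 := fun h =>
  one_ne_zero (α := k) (by push_cast at h; linear_combination 4 * h3 - h)

theorem three_end : (3 : End k V) = 0 := by
  have : (3 : End k V) = algebraMap k (End k V) 3 := by rw [map_ofNat]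
  rw [this, h3, map_zero]

/-- casts in characteristic 3 -/
theorem mod_three {a b : ℕ} (h : (a : k) = (b : k)) : a % 3 = b % 3 := by
  have key : ∀ c : ℕ, (c : k) = ((c % 3 : ℕ) : k) := by
    intro c
    conv_lhs => rw [← Nat.div_add_mod c 3]
    push_cast
    rw [h3, zero_mul, zero_add]
  rw [key a, key b] at h
  have ha := Nat.mod_lt a (show 0 < 3 by norm_num)
  have hb := Nat.mod_lt b (show 0 < 3 by norm_num)
  have h2 := two_ne_of3 h3
  have h1 : (1 : k) ≠ 0 := one_ne_zero
  clear key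
  generalize a % 3 = x at *
  generalize b % 3 = y at *
  have hx : x = 0 ∨ x = 1 ∨ x = 2 := by omega
  have hy : y = 0 ∨ y = 1 ∨ y = 2 := by omega
  rcases hx with rfl | rfl | rfl <;> rcases hy with rfl | rfl | rfl <;> first | rfl | exfalso
  · exact h1 (by push_cast at h; linear_combination -h)
  · exact h2 (by push_cast at h; linear_combination -h)
  · exact h1 (by push_cast at h; linear_combination h)
  · exact h1 (by push_cast at h; linear_combination -h)
  · exact h2 (by push_cast at h; linear_combination h)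
  · exact h1 (by push_cast at h; linear_combination h)

/-- the trace of an element of order 3 -/
theorem trace_of_cube {A : End k V} (hA : A ^ 3 = 1) : LinearMap.trace k V A = (finrank k V : k) := by
  have h1 : (A - 1) ^ 3 = 0 := by
    have : (A - 1) ^ 3 = A ^ 3 - 1 - 3 * (A ^ 2 - A) := by noncomm_ring
    rw [this, hA, three_end h3, sub_self, zero_mul, sub_zero]
  have h2 : IsNilpotent (A - 1) := ⟨3, h1⟩
  have h4 := (LinearMap.isNilpotent_trace_of_isNilpotent h2).eq_zero
  rw [map_sub, LinearMap.trace_one, sub_eq_zero] at h4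
  exact h4

/-- the trace of an element of order 6 -/
theorem trace_of_six {A : End k V} (hA : A ^ 6 = 1) : LinearMap.trace k V A = LinearMap.trace k V (A ^ 3) := by
  have h1 : (A - A ^ 3) ^ 3 = 0 := by
    have : (A - A ^ 3) ^ 3 = A ^ 3 - A ^ 6 * A ^ 3 - 3 * (A ^ 5 - A ^ 7) := by noncomm_ring
    rw [this, hA, three_end h3, one_mul, sub_self, zero_mul, sub_zero]
  have h2 : IsNilpotent (A - A ^ 3) := ⟨3, h1⟩
  have h4 := (LinearMap.isNilpotent_trace_of_isNilpotent h2).eq_zero
  rwa [map_sub, sub_eq_zero] at h4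

end char3

/-! ### the eigenvalues of `x` -/

theorem op_pow (w : List ℕ) (n : ℕ) : (op v R w) ^ n = op v R ((List.replicate n w).flatten) := by
  induction n with
  | zero => rw [pow_zero, List.replicate_zero]; exact (op_nil v R).symm
  | succ n ih => rw [pow_succ', ih, List.replicate_succ, List.flatten_cons, op_append]

theorem SatL.pow_eleven (h : SatL v) : (op v R [5]) ^ 11 = 1 := by
  rw [op_pow, ← op_nil v R]
  exact h.op_eq (by decide +kernel)

theorem SatL.pow_five (h : SatL v) : (op v R [6]) ^ 5 = 1 := by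
  rw [op_pow, ← op_nil v R]
  exact h.op_eq (by decide +kernel)

theorem SatL.d_mem (h : SatL v) {μ : k} {u : V} (hu : u ∈ End.eigenspace (op v R [5]) μ) :
    op v R [6] u ∈ End.eigenspace (op v R [5]) (μ ^ 3) := by
  rw [End.mem_eigenspace_iff] at hu ⊢
  have r0 : op v R [5, 6] = op v R [6, 5, 5, 5] := h.op_eq (by decide +kernel)
  rw [← Module.End.mul_apply, ← op_cons, r0, op_cons, op_cons v R 5 [5, 5], op_cons v R 5 [5]]
  simp only [Module.End.mul_apply, hu, map_smul, smul_smul]
  congr 1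
  ring

/-- multiplicities of the eigenvalues of `x` on a subspace invariant under `x` and `d` -/
theorem SatL.eigen (h : SatL v) (hζ : IsPrimitiveRoot ζ 11) (S : Submodule k V) (hS5 : ∀ u ∈ S, op v R [5] u ∈ S)
    (hS6 : ∀ u ∈ S, op v R [6] u ∈ S) :
    ∃ m a b : ℕ, (∀ c : ℕ, (c = 1 ∨ c = 3 ∨ c = 4 ∨ c = 5 ∨ c = 9) →
        finrank k (S ⊓ End.eigenspace (op v R [5]) (ζ ^ c) : Submodule k V) = a) ∧
      (∀ c : ℕ, (c = 2 ∨ c = 6 ∨ c = 7 ∨ c = 8 ∨ c = 10) →
        finrank k (S ⊓ End.eigenspace (op v R [5]) (ζ ^ c) : Submodule k V) = b) ∧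
      finrank k (S ⊓ End.eigenspace (op v R [5]) 1 : Submodule k V) = m ∧ finrank k S = m + 5 * a + 5 * b := by
  have h11 := hζ.pow_eq_one
  have hX := h.pow_eleven (R := R)
  have step : ∀ b c : ℕ, (3 * b) % 11 = c % 11 → finrank k (S ⊓ End.eigenspace (op v R [5]) (ζ ^ b) : Submodule k V) ≤
      finrank k (S ⊓ End.eigenspace (op v R [5]) (ζ ^ c) : Submodule k V) := by
    intro b c h1
    have e1 : (ζ ^ b) ^ 3 = ζ ^ c := by
      rw [← pow_mul, mul_comm b 3, pow_eq_pow_mod _ h11, h1, ← pow_eq_pow_mod _ h11]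
    refine finrank_le_of_mapsTo (op_injective v R [6]) ?_
    intro u hu
    rw [← e1]
    obtain ⟨hu1, hu2⟩ := Submodule.mem_inf.1 hu
    exact Submodule.mem_inf.2 ⟨hS6 u hu1, h.d_mem hu2⟩
  have a1 := step 1 3 rfl
  have a2 := step 3 9 rfl
  have a3 := step 9 5 rfl
  have a4 := step 5 4 rfl
  have a5 := step 4 1 rfl
  have b1 := step 2 6 rfl
  have b2 := step 6 7 rfl
  have b3 := step 7 10 rfl
  have b4 := step 10 8 rfl
  have b5 := step 8 2 rfl
  have E1 : ∀ c : ℕ, (c = 1 ∨ c = 3 ∨ c = 4 ∨ c = 5 ∨ c = 9) →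
      finrank k (S ⊓ End.eigenspace (op v R [5]) (ζ ^ c) : Submodule k V) =
      finrank k (S ⊓ End.eigenspace (op v R [5]) (ζ ^ 1) : Submodule k V) := by
    rintro c (rfl | rfl | rfl | rfl | rfl) <;> omega
  have E2 : ∀ c : ℕ, (c = 2 ∨ c = 6 ∨ c = 7 ∨ c = 8 ∨ c = 10) →
      finrank k (S ⊓ End.eigenspace (op v R [5]) (ζ ^ c) : Submodule k V) =
      finrank k (S ⊓ End.eigenspace (op v R [5]) (ζ ^ 2) : Submodule k V) := by
    rintro c (rfl | rfl | rfl | rfl | rfl) <;> omega
  have E0 : finrank k (S ⊓ End.eigenspace (op v R [5]) (ζ ^ 0) : Submodule k V) =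
      finrank k (S ⊓ End.eigenspace (op v R [5]) 1 : Submodule k V) := by
    rw [pow_zero]
  refine ⟨_, _, _, E1, E2, rfl, ?_⟩
  rw [finrank_eq_sum hζ (by norm_num) hX S hS5]
  rw [Fin.sum_univ_eq_sum_range (fun b => finrank k (S ⊓ End.eigenspace (op v R [5]) (ζ ^ b) : Submodule k V)) 11]
  simp only [Finset.sum_range_succ, Finset.sum_range_zero, zero_add]
  rw [E0, E1 3 (by norm_num), E1 4 (by norm_num), E1 5 (by norm_num), E1 9 (by norm_num), E2 6 (by norm_num),
    E2 7 (by norm_num), E2 8 (by norm_num), E2 10 (by norm_num)]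
  ring

theorem SatL.trace_five (h : SatL v) (hζ : IsPrimitiveRoot ζ 11) {m a b : ℕ}
    (ha : ∀ c : ℕ, (c = 1 ∨ c = 3 ∨ c = 4 ∨ c = 5 ∨ c = 9) → finrank k (End.eigenspace (op v R [5]) (ζ ^ c)) = a)
    (hb : ∀ c : ℕ, (c = 2 ∨ c = 6 ∨ c = 7 ∨ c = 8 ∨ c = 10) → finrank k (End.eigenspace (op v R [5]) (ζ ^ c)) = b)
    (hm : finrank k (End.eigenspace (op v R [5]) 1) = m) :
    tw v R [5] = m + a * (ζ + ζ ^ 3 + ζ ^ 4 + ζ ^ 5 + ζ ^ 9) + b * (ζ ^ 2 + ζ ^ 6 + ζ ^ 7 + ζ ^ 8 + ζ ^ 10) ∧
      tw v R [5, 5, 5, 5, 5, 5, 5, 5, 5, 5] =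
        m + b * (ζ + ζ ^ 3 + ζ ^ 4 + ζ ^ 5 + ζ ^ 9) + a * (ζ ^ 2 + ζ ^ 6 + ζ ^ 7 + ζ ^ 8 + ζ ^ 10) := by
  have h11 := hζ.pow_eq_one
  have hX := h.pow_eleven (R := R)
  have E0 : finrank k (End.eigenspace (op v R [5]) (ζ ^ 0)) = m := by
    rw [pow_zero, hm]
  constructor
  · have h1 := trace_eq_sum hζ (by norm_num) hX 1
    rw [pow_one] at h1
    rw [tw, h1, Fin.sum_univ_eq_sum_range (fun b => ζ ^ (b * 1) * (finrank k (End.eigenspace (op v R [5]) (ζ ^ b)) : k)) 11]
    simp only [Finset.sum_range_succ, Finset.sum_range_zero, zero_add]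
    rw [E0, ha 1 (by norm_num), ha 3 (by norm_num), ha 4 (by norm_num), ha 5 (by norm_num), ha 9 (by norm_num),
      hb 2 (by norm_num), hb 6 (by norm_num), hb 7 (by norm_num), hb 8 (by norm_num), hb 10 (by norm_num)]
    ring
  · have h1 := trace_eq_sum hζ (by norm_num) hX 10
    have e : op v R [5, 5, 5, 5, 5, 5, 5, 5, 5, 5] = (op v R [5]) ^ 10 := op_replicate 10 5
    rw [tw, e, h1,
      Fin.sum_univ_eq_sum_range (fun b => ζ ^ (b * 10) * (finrank k (End.eigenspace (op v R [5]) (ζ ^ b)) : k)) 11]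
    simp only [Finset.sum_range_succ, Finset.sum_range_zero, zero_add]
    rw [E0, ha 1 (by norm_num), ha 3 (by norm_num), ha 4 (by norm_num), ha 5 (by norm_num), ha 9 (by norm_num),
      hb 2 (by norm_num), hb 6 (by norm_num), hb 7 (by norm_num), hb 8 (by norm_num), hb 10 (by norm_num)]
    have q : ∀ m : ℕ, ζ ^ m = ζ ^ (m % 11) := fun m => pow_eq_pow_mod m h11
    rw [q (1 * 10), q (2 * 10), q (3 * 10), q (4 * 10), q (5 * 10), q (6 * 10), q (7 * 10), q (8 * 10), q (9 * 10),
      q (10 * 10), q (0 * 10)]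
    norm_num
    ring

theorem SatL.trace_zero (h : SatL v) (hζ : IsPrimitiveRoot ζ 11) {b : ℕ} (hb : b ≤ 11)
    (h0 : finrank k (End.eigenspace (op v R [5]) (ζ ^ b)) = 0) (w : List ℕ) :
    ∑ i ∈ Finset.range 11, ζ ^ (((11 - b) * i) % 11) * tw v R (List.replicate i 5 ++ w) = 0 := by
  have h11 := hζ.pow_eq_one
  have hX := h.pow_eleven (R := R)
  have hζ0 : ζ ≠ 0 := hζ.ne_zero (by norm_num)
  have h11k : ((11 : ℕ) : k) ≠ 0 := (hζ.neZero').out
  have hP := isProj_sp h11k hζ0 h11 hX b
  have hbot : End.eigenspace (op v R [5]) (ζ ^ b) = ⊥ := Submodule.finrank_eq_zero.1 h0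
  have hz : sp 11 ζ (op v R [5]) b = 0 := by
    ext u
    have h1 := hP.map_mem u
    rw [hbot, Submodule.mem_bot] at h1
    exact h1
  have h1 : LinearMap.trace k V (sp 11 ζ (op v R [5]) b * op v R w) = 0 := by rw [hz, zero_mul, map_zero]
  unfold sp av at h1
  rw [smul_mul_assoc, map_smul, smul_eq_mul, Finset.sum_mul, map_sum] at h1
  have h2 := (mul_eq_zero.1 h1).resolve_left (inv_ne_zero h11k)
  rw [← h2]
  refine Finset.sum_congr rfl fun i _ => ?_
  rw [smul_pow, smul_mul_assoc, map_smul, smul_eq_mul, inv_pow_red h11 hb, tw, op_append, op_replicate]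

theorem SatL.trace_w (h : SatL v) (hζ : IsPrimitiveRoot ζ 11) {b : ℕ} (hb : b ≤ 11)
    (h0 : finrank k (End.eigenspace (op v R [5]) (ζ ^ b)) = 0) :
    tw v R [7] + ζ ^ (((11 - b) * 1) % 11) * tw v R [5, 7] +
      ζ ^ (((11 - b) * 2) % 11) * tw v R [5, 5, 5, 5, 5, 5, 5, 5, 5, 5] +
      ζ ^ (((11 - b) * 3) % 11) * tw v R [6] + ζ ^ (((11 - b) * 4) % 11) * tw v R [6, 6] +
      ζ ^ (((11 - b) * 5) % 11) * tw v R [5, 5, 5, 5, 5, 7] + ζ ^ (((11 - b) * 6) % 11) * tw v R [5, 5, 5, 5, 5, 7] +
      ζ ^ (((11 - b) * 7) % 11) * tw v R [6, 6] + ζ ^ (((11 - b) * 8) % 11) * tw v R [6] +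
      ζ ^ (((11 - b) * 9) % 11) * tw v R [5] + ζ ^ (((11 - b) * 10) % 11) * tw v R [5, 7] = 0 := by
  have h1 := h.trace_zero hζ hb h0 [7]
  simp only [Finset.sum_range_succ, Finset.sum_range_zero, zero_add, List.replicate_succ, List.replicate_zero,
    List.cons_append, List.nil_append, h.t_557, h.t_5557, h.t_55557, h.t_5555557,
    h.t_55555557, h.t_555555557, h.t_5555555557, h.t_55555555557] at h1
  rw [Nat.mul_zero, Nat.zero_mod, pow_zero, one_mul] at h1
  exact h1

/-- trace of a power of `d` in terms of the fixed space of `x` -/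
theorem SatL.trace_d (h : SatL v) (h11 : ((11 : ℕ) : k) ≠ 0) (j : ℕ) (hj : j = 1 ∨ j = 2 ∨ j = 3 ∨ j = 4) :
    LinearMap.trace k V (op v R (List.replicate j 6) * av 11 (op v R [5])) = tw v R (List.replicate j 6) := by
  have h0 : LinearMap.trace k V (op v R (List.replicate j 6) * av 11 (op v R [5])) =
      ((11 : ℕ) : k)⁻¹ * ∑ i ∈ Finset.range 11, tw v R (List.replicate j 6 ++ List.replicate i 5) := by
    rw [av, mul_smul_comm, map_smul, smul_eq_mul, Finset.mul_sum, map_sum]
    congr 1
    refine Finset.sum_congr rfl fun i _ => ?_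
    rw [tw, op_append, op_replicate i 5]
  have h1 : ∀ i ∈ Finset.range 11, tw v R (List.replicate j 6 ++ List.replicate i 5) = tw v R (List.replicate j 6) := by
    intro i hi
    rw [Finset.mem_range] at hi
    rcases hj with rfl | rfl | rfl | rfl
    · interval_cases i
      · rfl
      · exact h.t_65
      · exact h.t_655
      · exact h.t_6555
      · exact h.t_65555
      · exact h.t_655555
      · exact h.t_6555555
      · exact h.t_65555555
      · exact h.t_655555555
      · exact h.t_6555555555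
      · exact h.t_65555555555
    · interval_cases i
      · rfl
      · exact h.t_665
      · exact h.t_6655
      · exact h.t_66555
      · exact h.t_665555
      · exact h.t_6655555
      · exact h.t_66555555
      · exact h.t_665555555
      · exact h.t_6655555555
      · exact h.t_66555555555
      · exact h.t_665555555555
    · interval_cases i
      · rfl
      · exact h.t_6665
      · exact h.t_66655
      · exact h.t_666555
      · exact h.t_6665555
      · exact h.t_66655555
      · exact h.t_666555555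
      · exact h.t_6665555555
      · exact h.t_66655555555
      · exact h.t_666555555555
      · exact h.t_6665555555555
    · interval_cases i
      · rfl
      · exact h.t_66665
      · exact h.t_666655
      · exact h.t_6666555
      · exact h.t_66665555
      · exact h.t_666655555
      · exact h.t_6666555555
      · exact h.t_66665555555
      · exact h.t_666655555555
      · exact h.t_6666555555555
      · exact h.t_66665555555555
  rw [h0, Finset.sum_congr rfl h1, Finset.sum_const, Finset.card_range, nsmul_eq_mul, ← mul_assoc,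
    inv_mul_cancel₀ h11, one_mul]

/-- `w` commutes with the average over `⟨d⟩` -/
theorem SatL.w_av (h : SatL v) (h5 : ((5 : ℕ) : k) ≠ 0) :
    op v R [7] * av 5 (op v R [6]) = av 5 (op v R [6]) * op v R [7] := by
  have r1 : op v R [7] * op v R [6] = op v R [6, 6, 6, 6] * op v R [7] := by
    rw [← op_append, ← op_append]
    exact h.op_eq (by decide +kernel)
  have r2 : op v R [6] * op v R [7] = op v R [7] * op v R [6, 6, 6, 6] := by
    rw [← op_append, ← op_append]
    exact h.op_eq (by decide +kernel)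
  have e4 : op v R [6, 6, 6, 6] = (op v R [6]) ^ 4 := op_replicate 4 6
  have b1 := pow_mul_av (h.pow_five (R := R)) 4
  have b2 : av 5 (op v R [6]) * (op v R [6]) ^ 4 = av 5 (op v R [6]) := by
    rw [← ((comm_av (Commute.refl (op v R [6]))).pow_left 4).eq, b1]
  have a1 : av 5 (op v R [6]) * (op v R [7] * av 5 (op v R [6])) = op v R [7] * av 5 (op v R [6]) := by
    apply av_mul_of h5
    rw [← mul_assoc, r2, mul_assoc, e4, b1]
  have a2 : (av 5 (op v R [6]) * op v R [7]) * av 5 (op v R [6]) = av 5 (op v R [6]) * op v R [7] := by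
    apply mul_av_of h5
    rw [mul_assoc, r1, ← mul_assoc, e4, b2]
  rw [← a1, ← mul_assoc, a2]

theorem SatL.trace_wd (h : SatL v) (h5 : ((5 : ℕ) : k) ≠ 0) :
    LinearMap.trace k V (op v R [7] * av 5 (op v R [6])) = tw v R [7] := by
  have h0 : LinearMap.trace k V (op v R [7] * av 5 (op v R [6])) =
      ((5 : ℕ) : k)⁻¹ * ∑ i ∈ Finset.range 5, tw v R ([7] ++ List.replicate i 6) := by
    rw [av, mul_smul_comm, map_smul, smul_eq_mul, Finset.mul_sum, map_sum]
    congr 1
    refine Finset.sum_congr rfl fun i _ => ?_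
    rw [tw, op_append, op_replicate i 6]
  have h1 : ∀ i ∈ Finset.range 5, tw v R ([7] ++ List.replicate i 6) = tw v R [7] := by
    intro i hi
    rw [Finset.mem_range] at hi
    interval_cases i
    · rfl
    · exact h.t_76
    · exact h.t_766
    · exact h.t_7666
    · exact h.t_76666
  rw [h0, Finset.sum_congr rfl h1, Finset.sum_const, Finset.card_range, nsmul_eq_mul, ← mul_assoc,
    inv_mul_cancel₀ h5, one_mul]

/-- **Lemma F.** A representation of `L₂(11)` of degree 6 in characteristic 3 in which only one class of non-trivial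
characters of `⟨x⟩` occurs and `d` centralizes the fixed vector of `x`, fixes this vector. -/
theorem SatL.lemF (h : SatL v) (h3 : (3 : k) = 0) (hζ : IsPrimitiveRoot ζ 11) {ξ : k} (hξ : IsPrimitiveRoot ξ 5)
    (hn : finrank k V = 6)
    (h0 : ∀ c : ℕ, (c = 2 ∨ c = 6 ∨ c = 7 ∨ c = 8 ∨ c = 10) → finrank k (End.eigenspace (op v R [5]) (ζ ^ c)) = 0)
    (hm : finrank k (End.eigenspace (op v R [5]) 1) = 1) (hd : ∀ u, op v R [5] u = u → op v R [6] u = u) :
    ∀ u, op v R [5] u = u → op v R [7] u = u := by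
  have h5k := five_ne_of3 h3
  have h11k := eleven_ne_of3 h3
  have h2k := two_ne_of3 h3
  have h11 := hζ.pow_eq_one
  -- traces
  obtain ⟨m, a, b, ha, hb, hm', hdim⟩ := h.eigen (R := R) hζ ⊤ (fun _ _ => trivial) (fun _ _ => trivial)
  have top' : ∀ c : k, finrank k (⊤ ⊓ End.eigenspace (op v R [5]) c : Submodule k V) =
      finrank k (End.eigenspace (op v R [5]) c) := fun c => by rw [top_inf_eq]
  simp only [top'] at ha hb hm'
  rw [finrank_top] at hdim
  have hb0 : b = 0 := by rw [← hb 2 (by norm_num), h0 2 (by norm_num)]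
  have hm1 : m = 1 := by rw [← hm', hm]
  have ha1 : a = 1 := by omega
  subst hb0 hm1 ha1
  obtain ⟨T1, T2⟩ := h.trace_five hζ ha hb hm'
  have TD : ∀ j, (j = 1 ∨ j = 2 ∨ j = 3 ∨ j = 4) → tw v R (List.replicate j 6) = 1 := by
    intro j hj
    rw [← h.trace_d h11k j hj]
    have hP := isProj_av h11k (h.pow_eleven (R := R))
    have e1 : op v R (List.replicate j 6) * av 11 (op v R [5]) = av 11 (op v R [5]) := by
      ext u
      rw [Module.End.mul_apply]
      have e2 := mem_fix.1 (hP.map_mem u)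
      generalize av 11 (op v R [5]) u = y at *
      rw [op_replicate]
      clear hj
      induction j with
      | zero => rfl
      | succ j ih => rw [pow_succ, Module.End.mul_apply, hd _ e2, ih]
    rw [e1, trace_isProj hP, fix, hm, Nat.cast_one]
  have T57 : tw v R [5, 7] = 0 := by
    have e1 : (op v R [5, 7]) ^ 3 = 1 := by
      rw [op_pow, ← op_nil v R]
      exact h.op_eq (by decide +kernel)
    rw [tw, trace_of_cube h3 e1, hn]
    push_cast
    linear_combination 2 * h3
  have T6 : tw v R [5, 5, 5, 5, 5, 7] = tw v R [7] := by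
    have e1 : (op v R [5, 5, 5, 5, 5, 7]) ^ 6 = 1 := by
      rw [op_pow, ← op_nil v R]
      exact h.op_eq (by decide +kernel)
    rw [tw, trace_of_six h3 e1, op_pow]
    exact h.t_555557555557555557
  have D1 : tw v R [6] = 1 := TD 1 (by norm_num)
  have D2 : tw v R [6, 6] = 1 := TD 2 (by norm_num)
  have D3 : tw v R [6, 6, 6] = 1 := TD 3 (by norm_num)
  have D4 : tw v R [6, 6, 6, 6] = 1 := TD 4 (by norm_num)
  have S2 := h.trace_w hζ (by norm_num) (h0 2 (by norm_num))
  have S6 := h.trace_w hζ (by norm_num) (h0 6 (by norm_num))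
  have S7 := h.trace_w hζ (by norm_num) (h0 7 (by norm_num))
  have S8 := h.trace_w hζ (by norm_num) (h0 8 (by norm_num))
  have S10 := h.trace_w hζ (by norm_num) (h0 10 (by norm_num))
  rw [T57, T6, D1, D2, T1, T2] at S2 S6 S7 S8 S10
  norm_num at S2 S6 S7 S8 S10
  have hs := sum_zero hζ
  have TW : tw v R [7] = 2 := by
    have key : 4 * tw v R [7] = 8 := by
      generalize tw v R [7] = TW at *
      linear_combination S2 + S6 + S7 + S8 + S10 - ((5 : k) * ζ ^ 1 + 4 * ζ ^ 2 + 5 * ζ ^ 3 + 2 * ζ ^ 4 + 3 * ζ ^ 5 +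
        2 * ζ ^ 6 + 3 * ζ ^ 7 + ζ ^ 9) * h11 - (8 + TW) * hs
    linear_combination key - (tw v R [7] - 2) * h3
  -- the fixed space of `d`
  have P5 := h.pow_five (R := R)
  have hPd := isProj_av h5k P5
  have td : ∀ j, (j = 1 ∨ j = 2 ∨ j = 3 ∨ j = 4) → LinearMap.trace k V (op v R [6] ^ j) = 1 := by
    intro j hj
    have h1 := TD j hj
    rw [tw, op_replicate] at h1
    exact h1
  have hξ5 := hξ.pow_eq_one
  have hξ0 : ξ ≠ 0 := hξ.ne_zero (by norm_num)
  have hξs : 1 + ξ + ξ ^ 2 + ξ ^ 3 + ξ ^ 4 = 0 := by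
    have h5 : (ξ - 1) * (1 + ξ + ξ ^ 2 + ξ ^ 3 + ξ ^ 4) = 0 := by
      linear_combination hξ5
    exact (mul_eq_zero.1 h5).resolve_left (sub_ne_zero.2 (hξ.ne_one (by norm_num)))
  have ej : ∀ c : ℕ, c < 5 → 0 < c → 1 ≤ finrank k (End.eigenspace (op v R [6]) (ξ ^ c)) := by
    intro c hc hc0
    have hP := isProj_sp h5k hξ0 hξ5 P5 c
    have h1 := trace_isProj hP
    have h2 : LinearMap.trace k V (sp 5 ξ (op v R [6]) c) = 1 := by
      unfold sp av
      rw [map_smul, smul_eq_mul, map_sum]
      have e0 : ∀ i : ℕ, LinearMap.trace k V (((ξ ^ c)⁻¹ • op v R [6]) ^ i) =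
          (ξ ^ c)⁻¹ ^ i * LinearMap.trace k V (op v R [6] ^ i) := by
        intro i
        rw [smul_pow, map_smul, smul_eq_mul]
      simp only [e0, Finset.sum_range_succ, Finset.sum_range_zero, zero_add, td 1 (by norm_num), td 2 (by norm_num),
        td 3 (by norm_num), td 4 (by norm_num), pow_zero, LinearMap.trace_one, one_mul, mul_one, hn]
      have e1 : (ξ ^ c)⁻¹ ≠ 1 := by
        intro e
        have e2 : ξ ^ c = 1 := by rw [← inv_inv (ξ ^ c), e, inv_one]
        exact (hξ.pow_ne_one_of_pos_of_lt (by omega) hc) e2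
      have e3 : ((ξ ^ c)⁻¹) ^ 5 = 1 := by
        rw [inv_pow, ← pow_mul, mul_comm, pow_mul, hξ5, one_pow, inv_one]
      generalize (ξ ^ c)⁻¹ = η at *
      have e4 : 1 + η + η ^ 2 + η ^ 3 + η ^ 4 = 0 := by
        have h5 : (η - 1) * (1 + η + η ^ 2 + η ^ 3 + η ^ 4) = 0 := by
          linear_combination e3
        exact (mul_eq_zero.1 h5).resolve_left (sub_ne_zero.2 e1)
      rw [inv_mul_eq_iff_eq_mul₀ h5k]
      push_cast
      linear_combination e4
    rw [h2] at h1
    by_contra hcon
    have h3 : finrank k (End.eigenspace (op v R [6]) (ξ ^ c)) = 0 := by omega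
    rw [h3, Nat.cast_zero] at h1
    exact one_ne_zero h1
  have e0 : finrank k (fix (op v R [6])) % 3 = 2 % 3 := by
    apply mod_three h3
    rw [← trace_isProj hPd, av, map_smul, smul_eq_mul, map_sum]
    simp only [Finset.sum_range_succ, Finset.sum_range_zero, zero_add, td 1 (by norm_num), td 2 (by norm_num),
        td 3 (by norm_num), td 4 (by norm_num), pow_zero, LinearMap.trace_one, hn]
    rw [inv_mul_eq_iff_eq_mul₀ h5k]
    push_cast
    ring
  have esum := finrank_top_eq_sum hξ (by norm_num) P5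
  rw [Fin.sum_univ_eq_sum_range (fun b => finrank k (End.eigenspace (op v R [6]) (ξ ^ b))) 5] at esum
  simp only [Finset.sum_range_succ, Finset.sum_range_zero, zero_add] at esum
  rw [pow_zero, hn] at esum
  have f1 := ej 1 (by norm_num) (by norm_num)
  have f2 := ej 2 (by norm_num) (by norm_num)
  have f3 := ej 3 (by norm_num) (by norm_num)
  have f4 := ej 4 (by norm_num) (by norm_num)
  have e2 : finrank k (fix (op v R [6])) = 2 := by
    have : finrank k (fix (op v R [6])) = finrank k (End.eigenspace (op v R [6]) 1) := rfl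
    omega
  -- the involution `w` on it
  have ZZ : op v R [7] * (op v R [7] * av 5 (op v R [6])) = av 5 (op v R [6]) := by
    have e1 : op v R [7] * op v R [7] = 1 := by
      rw [← op_append, ← op_nil v R]
      exact h.op_eq (by decide +kernel)
    rw [← mul_assoc, e1, one_mul]
  obtain ⟨g1, g2⟩ := two_dims h2k hPd (h.w_av h5k) ZZ
  rw [h.trace_wd h5k, TW] at g2
  generalize hA : finrank k (fix (op v R [6]) ⊓ End.eigenspace (op v R [7]) 1 : Submodule k V) = A at *
  generalize hB : finrank k (fix (op v R [6]) ⊓ End.eigenspace (op v R [7]) (-1) : Submodule k V) = B at *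
  have g3 : (A : k) = ((2 + B : ℕ) : k) := by push_cast; linear_combination -g2
  have g4 := mod_three h3 g3
  have g5 : A = 2 := by omega
  have g6 : fix (op v R [6]) ≤ End.eigenspace (op v R [7]) 1 := le_of_finrank (by rw [hA, g5, e2])
  intro u hu
  have g7 := g6 (mem_fix.2 (hd u hu))
  rw [End.mem_eigenspace_iff, one_smul] at g7
  exact g7

end Cfsg.Agent.H6.M11
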