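import Cfsg.Agent.H6.M11.GamFr
import Cfsg.Agent.H6.M11.Fin
import Cfsg.Agent.H6.M11.LemF

/-!
# Faithful representations of degree 10 of the double cover of the Mathieu group of degree 12 (helper6)

The trace of the element of order 20 is zero.
-/

set_option autoImplicit false
set_option linter.unusedSectionVars false
set_option linter.unusedVariables false
set_option maxRecDepth 100000

namespace Cfsg.Agent.H6.M11

open Module LinearMap Cfsg.Agent.H932.Mt

variable {k : Type*} [Field k] {V : Type*} [AddCommGroup V] [Module k V] [FiniteDimensional k V] {R : Γ →* End k V}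
  {ω ξ : k}

variable (R) in
/-- trace of a word -/
noncomputable def tg (w : List ℕ) : k := LinearMap.trace k V (R (GW w))

theorem tw_vG (w : List ℕ) : tw vG R w = tg R (w.flatMap WG) := by
  rw [tw, op, ev_vG, tg]

theorem tg_conj {w w' : List ℕ} (c : List ℕ) (h : eqG (c ++ w) (w' ++ c) = true) : tg R w = tg R w' := by
  have h1 := GW_eq h
  rw [GW_append, GW_append] at h1
  have h2 : GW w = (GW c)⁻¹ * (GW w' * GW c) := by rw [← h1, inv_mul_cancel_left]
  rw [tg, tg, h2, map_mul, LinearMap.trace_mul_comm, ← map_mul, mul_assoc, mul_inv_cancel, mul_one]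

theorem tg_six (hneg : R neg = -1) (w : List ℕ) : tg R (6 :: w) = - tg R w := by
  rw [tg, GW_six, map_mul, hneg, neg_mul, one_mul, map_neg, tg]

theorem tg_zero (hneg : R neg = -1) (h2 : (2 : k) ≠ 0) {w : List ℕ} (c : List ℕ)
    (h : eqG (c ++ w) (6 :: (w ++ c)) = true) : tg R w = 0 := by
  have h1 : tg R w = tg R (6 :: w) := tg_conj c h
  rw [tg_six hneg] at h1
  have h3 : 2 * tg R w = 0 := by linear_combination h1
  exact (mul_eq_zero.1 h3).resolve_left h2

/-- casts of numbers at most 6 -/
theorem cast_small (h2 : (2 : k) ≠ 0) (h3 : (3 : k) ≠ 0) (h5 : (5 : k) ≠ 0) {a b : ℕ} (h : (a : k) = (b : k))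
    (h1 : a ≤ b + 6) (h1' : b ≤ a + 6) : a = b := by
  have key : ∀ c : ℕ, 0 < c → c ≤ 6 → (c : k) ≠ 0 := by
    intro c hc hc4
    interval_cases c
    · simp
    · exact_mod_cast h2
    · exact_mod_cast h3
    · intro h4
      have h5 : (2 : k) * 2 = 0 := by
        rw [← h4]; norm_num
      exact h2 ((mul_eq_zero.1 h5).elim id id)
    · exact_mod_cast h5
    · intro h4
      have h5 : (2 : k) * 3 = 0 := by
        rw [← h4]; norm_num
      exact (mul_eq_zero.1 h5).elim h2 h3
  rcases lt_trichotomy a b with hab | hab | hab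
  · exfalso
    obtain ⟨c, rfl⟩ := Nat.exists_eq_add_of_lt hab
    push_cast at h
    refine key (c + 1) (by omega) (by omega) ?_
    push_cast
    linear_combination -h
  · exact hab
  · exfalso
    obtain ⟨c, rfl⟩ := Nat.exists_eq_add_of_lt hab
    push_cast at h
    refine key (c + 1) (by omega) (by omega) ?_
    push_cast
    linear_combination h

/-- on the fixed space of `E` the involution `z` is `-1` -/
theorem basic_ten (hneg : R neg = -1) (hω : IsPrimitiveRoot ω 3) (h2 : (2 : k) ≠ 0) (hn : finrank k V = 10)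
    (hE : op vG R [0] ≠ 1) : Cp vG R = ⊥ ∧ tw vG R [3] = -2 := by
  have h3 : (3 : k) ≠ 0 := three_ne hω
  have h := sat_G
  obtain ⟨f, a, α, β, ε, hε, -, hV, hCp, -, -, -, -, hT2, -, hβ, -⟩ := h.basic (R := R) hω h2 hE (by omega)
  have hT4 : tw vG R [2, 2] = 0 := by
    rw [tw_vG]
    exact tg_zero hneg h2 [2, 3, 1] (by decide +kernel)
  have hfa : (f = 0 ∧ a = 1) ∨ (f = 2 ∧ a = 0) := by omega
  rcases hfa with ⟨rfl, rfl⟩ | ⟨rfl, rfl⟩
  · refine ⟨Submodule.finrank_eq_zero.1 hCp, ?_⟩
    rw [hT2]
    push_cast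
    ring
  · exfalso
    have hP := h.isProj_pP (R := R) hω h2
    have hmem : ∀ w : List ℕ, (∀ i ∈ w, i = 2 ∨ i = 3) → ∀ u ∈ Cp vG R, op vG R w u ∈ Cp vG R := by
      intro w hw u hu
      exact mem_of_comm hP (h.comm_pP h3 w hw) hu
    have hz1 : ∀ u ∈ Cp vG R, op vG R [2, 2, 2, 2] u = u := by
      intro u hu
      have h1 := (Submodule.mem_inf.1 hu).2
      rw [End.mem_eigenspace_iff, one_smul] at h1
      exact h1
    have hZZ : op vG R [2, 2] * (op vG R [2, 2] * pP vG R) = pP vG R := by
      rw [← mul_assoc, ← op_append]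
      ext u
      rw [Module.End.mul_apply]
      exact hz1 _ (hP.map_mem u)
    obtain ⟨d1, d2⟩ := two_dims h2 hP (h.comm_pP h3 [2, 2] (by decide)) hZZ
    rw [trace_pP, show ([2, 2] : List ℕ) ++ [2, 2, 2, 2] = [2, 2, 2, 2, 2, 2] from rfl, h.tE_yy h3, h.tE_y6 h3, hT4,
      add_zero, mul_zero] at d2
    rw [hCp] at d1
    generalize hA : finrank k (Cp vG R ⊓ End.eigenspace (op vG R [2, 2]) 1 : Submodule k V) = A at *
    generalize hB : finrank k (Cp vG R ⊓ End.eigenspace (op vG R [2, 2]) (-1) : Submodule k V) = B at *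
    have hAB : A = B := cast_eq h2 h3 (by linear_combination -d2) (by omega) (by omega)
    have hB1 : B = 1 := by omega
    subst hB1
    set L : Submodule k V := Cp vG R ⊓ End.eigenspace (op vG R [2, 2]) (-1) with hL
    have hLne : L ≠ ⊥ := by
      intro hc
      rw [hc, finrank_bot] at hB
      exact zero_ne_one hB
    obtain ⟨u, hu, hu0⟩ := (Submodule.ne_bot_iff _).1 hLne
    have hline : ∀ w ∈ L, ∃ c : k, w = c • u := by
      intro w hw
      have h1 := (finrank_eq_one_iff_of_nonzero' (⟨u, hu⟩ : L) (fun hc => hu0 (congrArg Subtype.val hc))).1 hB ⟨w, hw⟩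
      obtain ⟨c, hc⟩ := h1
      exact ⟨c, (congrArg Subtype.val hc).symm⟩
    obtain ⟨hu1, hu2⟩ := Submodule.mem_inf.1 hu
    rw [End.mem_eigenspace_iff, neg_one_smul] at hu2
    -- `y` and `s` preserve the line
    have hy : op vG R [2] u ∈ L := by
      refine Submodule.mem_inf.2 ⟨hmem [2] (by decide) u hu1, ?_⟩
      rw [End.mem_eigenspace_iff, neg_one_smul, ← Module.End.mul_apply, ← op_append,
        show ([2, 2] : List ℕ) ++ [2] = [2] ++ [2, 2] from rfl, op_append, Module.End.mul_apply, hu2, map_neg]
    have hs : op vG R [3] u ∈ L := by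
      refine Submodule.mem_inf.2 ⟨hmem [3] (by decide) u hu1, ?_⟩
      have r1 : op vG R ([2, 2] ++ [3]) = op vG R ([3] ++ ([2, 2] ++ [2, 2, 2, 2])) :=
        h.op_eq (by decide +kernel)
      rw [End.mem_eigenspace_iff, neg_one_smul, ← Module.End.mul_apply, ← op_append, r1, op_append, op_append,
        Module.End.mul_apply, Module.End.mul_apply, hz1 u hu1, hu2, map_neg]
    obtain ⟨c, hc⟩ := hline _ hy
    obtain ⟨d, hd⟩ := hline _ hs
    have hc2 : c * c = -1 := by
      have h1 : op vG R ([2] ++ [2]) u = (c * c) • u := by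
        rw [op_append, Module.End.mul_apply, hc, map_smul, hc, smul_smul]
      have h4 : (c * c) • u = (-1 : k) • u := by rw [← h1, neg_one_smul]; exact hu2
      exact smul_left_injective k hu0 h4
    have hd0 : d ≠ 0 := by
      rintro rfl
      rw [zero_smul] at hd
      have : op vG R [3] u = op vG R [3] 0 := by rw [hd, map_zero]
      exact hu0 (op_injective vG R [3] this)
    have r2 : op vG R ([3] ++ [2]) = op vG R ([2] ++ ([2] ++ ([2] ++ [3]))) := h.op_eq (by decide +kernel)
    have h5 := congrArg (fun A : End k V => A u) r2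
    simp only [op_append, Module.End.mul_apply, hc, hd, map_smul, smul_smul] at h5
    have h6 := smul_left_injective k hu0 h5
    have h7 : c * d * (1 - c * c) = 0 := by linear_combination h6
    rw [hc2] at h7
    have hc0 : c ≠ 0 := by
      rintro rfl
      rw [zero_mul] at hc2
      exact one_ne_zero (α := k) (by linear_combination hc2)
    rcases mul_eq_zero.1 h7 with h8 | h8
    · exact (mul_ne_zero hc0 hd0) h8
    · exact h2 (by linear_combination h8)

/-- the trace of the elements of order 5 -/
theorem trace_five (hneg : R neg = -1) (hω : IsPrimitiveRoot ω 3) (hξ : IsPrimitiveRoot ξ 5) (h2 : (2 : k) ≠ 0)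
    (hn : finrank k V = 10) (hE : op vG R [0] ≠ 1) : tw vG R [6] = 0 := by
  have h3 : (3 : k) ≠ 0 := three_ne hω
  have h := sat_G
  have P5 : (op vG R [6]) ^ 5 = 1 := h.toL.pow_five
  have hξ5 := hξ.pow_eq_one
  have step : ∀ b c : ℕ, (3 * b) % 5 = c % 5 → finrank k (End.eigenspace (op vG R [6]) (ξ ^ b)) ≤
      finrank k (End.eigenspace (op vG R [6]) (ξ ^ c)) := by
    intro b c h1
    have e1 : (ξ ^ b) ^ 3 = ξ ^ c := by
      rw [← pow_mul, mul_comm b 3, pow_eq_pow_mod _ hξ5, h1, ← pow_eq_pow_mod _ hξ5]
    refine finrank_le_of_mapsTo (op_injective vG R [3, 2, 1]) ?_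
    intro u hu
    rw [End.mem_eigenspace_iff] at hu ⊢
    have r1 : op vG R ([3, 2, 1] ++ [6, 6, 6]) = op vG R ([6] ++ [3, 2, 1]) := by
      unfold op
      rw [ev_append, ev_append, h.cert (c := [3, 2, 1]) (a := [6, 6, 6]) (b := [6]) (by decide +kernel)]
    have r2 := congrArg (fun A : End k V => A u) r1
    simp only [op_append, Module.End.mul_apply] at r2
    have e3 : op vG R [6, 6, 6] u = (ξ ^ b) ^ 3 • u := by
      rw [op_cons, op_cons vG R 6 [6], Module.End.mul_apply, Module.End.mul_apply, hu, map_smul, hu, map_smul, map_smul,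
        hu, smul_smul, smul_smul]
      congr 1
      ring
    rw [e3, map_smul, e1] at r2
    exact r2.symm
  have a1 := step 1 3 rfl
  have a2 := step 3 4 rfl
  have a3 := step 4 2 rfl
  have a4 := step 2 1 rfl
  have esum := finrank_top_eq_sum hξ (by norm_num) P5
  rw [Fin.sum_univ_eq_sum_range (fun b => finrank k (End.eigenspace (op vG R [6]) (ξ ^ b))) 5] at esum
  simp only [Finset.sum_range_succ, Finset.sum_range_zero, zero_add] at esum
  rw [hn, pow_zero] at esum
  -- the fixed space has dimension at most 4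
  have hle : finrank k (End.eigenspace (op vG R [6]) 1) < 6 := by
    by_contra hc
    push Not at hc
    have hmap : finrank k (End.eigenspace (op vG R [6]) 1) ≤ finrank k (End.eigenspace (op vG R [4, 6, 4, 4]) 1) := by
      refine finrank_le_of_mapsTo (op_injective vG R [4]) ?_
      intro u hu
      rw [End.mem_eigenspace_iff, one_smul] at hu ⊢
      have r1 : op vG R ([4, 6, 4, 4] ++ [4]) = op vG R ([4] ++ [6]) := by
        unfold op
        rw [ev_vG, ev_vG]
        exact congrArg R (GW_eq (by decide +kernel))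
      rw [← Module.End.mul_apply, ← op_append, r1, op_append, Module.End.mul_apply, hu]
    have hinf : 0 < finrank k (End.eigenspace (op vG R [6]) 1 ⊓ End.eigenspace (op vG R [4, 6, 4, 4]) 1 : Submodule k V) := by
      have h1 := Submodule.finrank_sup_add_finrank_inf_eq (End.eigenspace (op vG R [6]) 1)
        (End.eigenspace (op vG R [4, 6, 4, 4]) 1)
      have h4 := Submodule.finrank_le (End.eigenspace (op vG R [6]) 1 ⊔ End.eigenspace (op vG R [4, 6, 4, 4]) 1)
      omega
    have hne : (End.eigenspace (op vG R [6]) 1 ⊓ End.eigenspace (op vG R [4, 6, 4, 4]) 1 : Submodule k V) ≠ ⊥ := by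
      intro hc
      rw [hc, finrank_bot] at hinf
      exact lt_irrefl _ hinf
    obtain ⟨u, hu, hu0⟩ := (Submodule.ne_bot_iff _).1 hne
    obtain ⟨hu1, hu2⟩ := Submodule.mem_inf.1 hu
    rw [End.mem_eigenspace_iff, one_smul] at hu1 hu2
    have hw : ∀ l : List Bool, op vG R (l.flatMap fun b => if b then [4, 6, 4, 4] else [6]) u = u := by
      intro l
      induction l with
      | nil => rw [List.flatMap_nil, op_nil]; rfl
      | cons b l ih =>
        rw [List.flatMap_cons, op_append, Module.End.mul_apply, ih]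
        cases b
        · exact hu1
        · exact hu2
    have hz : op vG R [2, 2, 2, 2] u = u := by
      rw [← hw [false, true, false, true, false, true, true, false, false, true, false, true, false]]
      conv_rhs => rw [hw]
      have r1 : op vG R ([false, true, false, true, false, true, true, false, false, true, false, true, false].flatMap
          fun b => if b then [4, 6, 4, 4] else [6]) = op vG R [2, 2, 2, 2] := by
        unfold op
        rw [ev_vG, ev_vG]
        exact congrArg R (GW_eq (by decide +kernel))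
      rw [← r1, hw, hw]
    have h0 : op vG R [0] u = u := by
      have r1 : op vG R ([true, false, false, true, true, false, true, false, true, true, false, false, false, false].flatMap
          fun b => if b then [4, 6, 4, 4] else [6]) = op vG R [0] := by
        unfold op
        rw [ev_vG, ev_vG]
        exact congrArg R (GW_eq (by decide +kernel))
      rw [← r1, hw]
    have h1 : op vG R [1] u = u := by
      have r1 : op vG R ([false, false, true, false, true, true, true, false, true, false, true, false, false, true].flatMap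
          fun b => if b then [4, 6, 4, 4] else [6]) = op vG R [1] := by
        unfold op
        rw [ev_vG, ev_vG]
        exact congrArg R (GW_eq (by decide +kernel))
      rw [← r1, hw]
    have hCp : u ∈ Cp vG R := by
      refine Submodule.mem_inf.2 ⟨mem_Wt.2 ⟨by rw [h0, one_smul], by rw [h1, one_smul]⟩, ?_⟩
      rw [End.mem_eigenspace_iff, one_smul]
      exact hz
    rw [(basic_ten hneg hω h2 hn hE).1, Submodule.mem_bot] at hCp
    exact hu0 hCp
  have htr := trace_eq_sum hξ (by norm_num) P5 1
  rw [pow_one, Fin.sum_univ_eq_sum_range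
    (fun b => ξ ^ (b * 1) * (finrank k (End.eigenspace (op vG R [6]) (ξ ^ b)) : k)) 5] at htr
  simp only [Finset.sum_range_succ, Finset.sum_range_zero, zero_add] at htr
  have b1 : finrank k (End.eigenspace (op vG R [6]) (ξ ^ 1)) = 2 := by omega
  have b2 : finrank k (End.eigenspace (op vG R [6]) (ξ ^ 2)) = 2 := by omega
  have b3 : finrank k (End.eigenspace (op vG R [6]) (ξ ^ 3)) = 2 := by omega
  have b4 : finrank k (End.eigenspace (op vG R [6]) (ξ ^ 4)) = 2 := by omega
  have b0 : finrank k (End.eigenspace (op vG R [6]) 1) = 2 := by omega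
  rw [b1, b2, b3, b4, Nat.zero_mul, pow_zero, b0] at htr
  rw [tw, htr]
  have hξs : 1 + ξ + ξ ^ 2 + ξ ^ 3 + ξ ^ 4 = 0 := by
    have h5 : (ξ - 1) * (1 + ξ + ξ ^ 2 + ξ ^ 3 + ξ ^ 4) = 0 := by
      linear_combination hξ5
    exact (mul_eq_zero.1 h5).resolve_left (sub_ne_zero.2 (hξ.ne_one (by norm_num)))
  push_cast
  linear_combination 2 * hξs

end Cfsg.Agent.H6.M11
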