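import Cfsg.Agent.H6.M11.Cover10

/-!
# Faithful representations of degree 10 of the double cover of the Mathieu group of degree 12 (helper6)

The trace of the element of order 20 is zero.
-/

set_option autoImplicit false
set_option linter.unusedSectionVars false
set_option linter.unusedVariables false
set_option maxRecDepth 100000

namespace Cfsg.Agent.H6.M11

open Module LinearMap Cfsg.Agent.H932.Mt

variable {k : Type*} [Field k] {V : Type*} [AddCommGroup V] [Module k V] [FiniteDimensional k V] {R : Γ →* End k V}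
  {ω ξ η i : k}

variable (R) in
/-- the operator of `y` -/
noncomputable def Yo : End k V := R (GW [0])

variable (R) in
/-- the operator of an element of order 5 commuting with `y` -/
noncomputable def Fo : End k V := R (GW [6, 1, 2, 3, 4])

/-- powers of the word -/
def wf : ℕ → List ℕ
  | 0 => []
  | n + 1 => [6, 1, 2, 3, 4] ++ wf n

theorem Fo_pow (n : ℕ) : (Fo R) ^ n = R (GW (wf n)) := by
  induction n with
  | zero => rw [pow_zero, wf, GW_nil, map_one]
  | succ n ih => rw [pow_succ', ih, wf, GW_append, map_mul]; rfl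

theorem Fo_five : (Fo R) ^ 5 = 1 := by
  rw [Fo_pow, show GW (wf 5) = GW [] from GW_eq (by decide +kernel), GW_nil, map_one]

theorem Yo_sq (hneg : R neg = -1) : Yo R * Yo R = -1 := by
  rw [Yo, ← map_mul, ← GW_append, show GW ([0] ++ [0]) = GW [6] from GW_eq (by decide +kernel), GW_six, GW_nil, mul_one,
    hneg]

theorem Yo_Fo : Yo R * Fo R = Fo R * Yo R := by
  rw [Yo, Fo, ← map_mul, ← map_mul, ← GW_append, ← GW_append]
  exact congrArg R (GW_eq (by decide +kernel))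

variable (R i) in
/-- projection to the eigenspace of `y` -/
noncomputable def PY : End k V := (2 : k)⁻¹ • (1 - i • Yo R)

theorem isProj_PY (hneg : R neg = -1) (h2 : (2 : k) ≠ 0) (hi : i * i = -1) : IsProj (End.eigenspace (Yo R) i) (PY R i) := by
  have hY := Yo_sq hneg
  have hY' : ∀ u, Yo R (Yo R u) = -u := by
    intro u
    rw [← Module.End.mul_apply, hY]
    rfl
  refine ⟨fun u => ?_, fun u hu => ?_⟩
  · have e : i • i • (Yo R u) = -(Yo R u) := by rw [smul_smul, hi, neg_one_smul]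
    rw [End.mem_eigenspace_iff, PY, LinearMap.smul_apply, LinearMap.sub_apply, Module.End.one_apply,
      LinearMap.smul_apply, map_smul, map_sub, map_smul, hY', smul_comm i, smul_sub i, e, smul_neg,
      sub_neg_eq_add, sub_neg_eq_add, add_comm]
  · rw [End.mem_eigenspace_iff] at hu
    rw [PY, LinearMap.smul_apply, LinearMap.sub_apply, Module.End.one_apply, LinearMap.smul_apply, hu, smul_smul, hi,
      neg_one_smul, sub_neg_eq_add, half_add h2]

theorem PY_comm : Commute (PY R i) (Fo R) := by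
  unfold PY
  refine Commute.smul_left ?_ _
  refine Commute.sub_left (Commute.one_left _) (Commute.smul_left ?_ _)
  exact Yo_Fo

variable (R i) in
/-- trace on the eigenspace of `y` -/
noncomputable def te (w : List ℕ) : k := tg R w - i * tg R (0 :: w)

theorem Yo_mul (w : List ℕ) : Yo R * R (GW w) = R (GW (0 :: w)) := by
  rw [Yo, ← map_mul, ← GW_append, List.singleton_append]

/-- the trace formula -/
theorem trace_spec (h2 : (2 : k) ≠ 0) (h5 : ((5 : ℕ) : k) ≠ 0) (b : ℕ) (w : List ℕ) :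
    2 * ((5 : ℕ) : k) * LinearMap.trace k V (PY R i * sp 5 η (Fo R) b * R (GW w)) =
      te R i (wf 0 ++ w) + (η ^ b)⁻¹ * te R i (wf 1 ++ w) + (η ^ b)⁻¹ ^ 2 * te R i (wf 2 ++ w) +
        (η ^ b)⁻¹ ^ 3 * te R i (wf 3 ++ w) + (η ^ b)⁻¹ ^ 4 * te R i (wf 4 ++ w) := by
  have e0 : ∀ j : ℕ, LinearMap.trace k V ((1 - i • Yo R) * (((η ^ b)⁻¹ • Fo R) ^ j * R (GW w))) =
      (η ^ b)⁻¹ ^ j * te R i (wf j ++ w) := by
    intro j
    rw [smul_pow, smul_mul_assoc, mul_smul_comm, map_smul, smul_eq_mul, Fo_pow, ← map_mul, ← GW_append, sub_mul, one_mul,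
      smul_mul_assoc, map_sub, map_smul, smul_eq_mul, Yo_mul]
    rfl
  have e1 : LinearMap.trace k V (PY R i * sp 5 η (Fo R) b * R (GW w)) = (2 : k)⁻¹ * (((5 : ℕ) : k)⁻¹ *
      ∑ j ∈ Finset.range 5, (η ^ b)⁻¹ ^ j * te R i (wf j ++ w)) := by
    rw [PY, sp, av, smul_mul_assoc, smul_mul_assoc, map_smul, smul_eq_mul, mul_smul_comm, smul_mul_assoc, map_smul,
      smul_eq_mul, mul_assoc, Finset.sum_mul, Finset.mul_sum, map_sum, Finset.sum_congr rfl fun j _ => e0 j]
  rw [e1]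
  have e2 : ∀ S : k, 2 * ((5 : ℕ) : k) * ((2 : k)⁻¹ * (((5 : ℕ) : k)⁻¹ * S)) = S := by
    intro S
    rw [mul_assoc, ← mul_assoc ((5 : ℕ) : k), mul_comm ((5 : ℕ) : k) (2 : k)⁻¹, mul_assoc, ← mul_assoc ((5 : ℕ) : k),
      mul_inv_cancel₀ h5, one_mul, ← mul_assoc, mul_inv_cancel₀ h2, one_mul]
  rw [e2]
  simp only [Finset.sum_range_succ, Finset.sum_range_zero, zero_add, pow_zero, one_mul, pow_one]

/-! ### the traces -/

theorem tD (hD : tw vG R [6] = 0) {w : List ℕ} (c : List ℕ) (h : eqG (c ++ w) ([6].flatMap WG ++ c) = true) :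
    tg R w = 0 := by
  rw [tg_conj c h, ← tw_vG, hD]

theorem tS (hneg : R neg = -1) (hs : tw vG R [3] = -2) {w : List ℕ} (c : List ℕ)
    (h : eqG (c ++ w) (6 :: [3].flatMap WG ++ c) = true) : tg R w = 2 := by
  rw [tg_conj c h, tg_six hneg, ← tw_vG, hs, _root_.neg_neg]

theorem tY (hneg : R neg = -1) {w : List ℕ} (c : List ℕ) (h : eqG (c ++ w) (6 :: w20 ++ c) = true) :
    tg R w = - tg R w20 := by
  rw [tg_conj c h, tg_six hneg]

/-- the traces on the powers -/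
theorem te_nil (hneg : R neg = -1) (h2 : (2 : k) ≠ 0) (hD : tw vG R [6] = 0) :
    te R i (wf 0 ++ []) = (finrank k V : k) ∧ te R i (wf 1 ++ []) = -(i * tg R w20) ∧
      te R i (wf 2 ++ []) = i * tg R w20 ∧ te R i (wf 3 ++ []) = i * tg R w20 ∧
      te R i (wf 4 ++ []) = -(i * tg R w20) := by
  refine ⟨?_, ?_, ?_, ?_, ?_⟩
  · have h1 : tg R (0 :: (wf 0 ++ [])) = 0 := tg_zero hneg h2 [1] (by decide +kernel)
    have h3 : tg R (wf 0 ++ []) = (finrank k V : k) := by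
      rw [wf, List.nil_append, tg, GW_nil, map_one, LinearMap.trace_one]
    rw [te, h1, h3, mul_zero, sub_zero]
  · have h1 : tg R (wf 1 ++ []) = 0 := tD hD [4, 0, 5, 4, 2, 5, 1] (by decide +kernel)
    have h3 : tg R (0 :: (wf 1 ++ [])) = tg R w20 := tg_conj [] (by decide +kernel)
    rw [te, h1, h3, zero_sub]
  · have h1 : tg R (wf 2 ++ []) = 0 := tD hD [0, 5, 2, 3, 1, 5, 4, 5, 3] (by decide +kernel)
    have h3 : tg R (0 :: (wf 2 ++ [])) = - tg R w20 := tY hneg [2, 3, 1] (by decide +kernel)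
    rw [te, h1, h3, zero_sub, mul_neg, _root_.neg_neg]
  · have h1 : tg R (wf 3 ++ []) = 0 := tD hD [4, 0, 5, 4, 2, 5, 3, 2] (by decide +kernel)
    have h3 : tg R (0 :: (wf 3 ++ [])) = - tg R w20 := tY hneg [3, 1, 2] (by decide +kernel)
    rw [te, h1, h3, zero_sub, mul_neg, _root_.neg_neg]
  · have h1 : tg R (wf 4 ++ []) = 0 := tD hD [4, 1, 0, 5, 4, 2, 5, 1] (by decide +kernel)
    have h3 : tg R (0 :: (wf 4 ++ [])) = tg R w20 := tg_conj [3, 4, 3, 1] (by decide +kernel)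
    rw [te, h1, h3, zero_sub]

theorem te_one (hneg : R neg = -1) (h2 : (2 : k) ≠ 0) (hs : tw vG R [3] = -2) (hD : tw vG R [6] = 0) :
    te R i (wf 0 ++ [6, 3, 1]) = 2 ∧ te R i (wf 1 ++ [6, 3, 1]) = tg R (wf 1 ++ [6, 3, 1]) ∧
      te R i (wf 2 ++ [6, 3, 1]) = -(i * tg R w20) ∧ te R i (wf 3 ++ [6, 3, 1]) = -(i * tg R w20) ∧
      te R i (wf 4 ++ [6, 3, 1]) = tg R (wf 1 ++ [6, 3, 1]) := by
  refine ⟨?_, ?_, ?_, ?_, ?_⟩
  · have h1 : tg R (wf 0 ++ [6, 3, 1]) = 2 := tS hneg hs [2] (by decide +kernel)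
    have h3 : tg R (0 :: (wf 0 ++ [6, 3, 1])) = 0 := tg_zero hneg h2 [1] (by decide +kernel)
    rw [te, h1, h3, mul_zero, sub_zero]
  · have h3 : tg R (0 :: (wf 1 ++ [6, 3, 1])) = 0 := tg_zero hneg h2 [2, 3, 2] (by decide +kernel)
    rw [te, h3, mul_zero, sub_zero]
  · have h1 : tg R (wf 2 ++ [6, 3, 1]) = 0 := tD hD [0, 5, 2, 3, 1, 5, 4, 5] (by decide +kernel)
    have h3 : tg R (0 :: (wf 2 ++ [6, 3, 1])) = tg R w20 := tg_conj [2, 1] (by decide +kernel)
    rw [te, h1, h3, zero_sub]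
  · have h1 : tg R (wf 3 ++ [6, 3, 1]) = 0 := tD hD [4, 0, 5, 4, 2, 5, 3, 2, 1] (by decide +kernel)
    have h3 : tg R (0 :: (wf 3 ++ [6, 3, 1])) = tg R w20 := tg_conj [2, 3, 4, 2] (by decide +kernel)
    rw [te, h1, h3, zero_sub]
  · have h1 : tg R (wf 4 ++ [6, 3, 1]) = tg R (wf 1 ++ [6, 3, 1]) := tg_conj [1, 2, 3] (by decide +kernel)
    have h3 : tg R (0 :: (wf 4 ++ [6, 3, 1])) = 0 := tg_zero hneg h2 [1, 2, 1] (by decide +kernel)
    rw [te, h1, h3, mul_zero, sub_zero]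

theorem te_two (hneg : R neg = -1) (h2 : (2 : k) ≠ 0) (hs : tw vG R [3] = -2) (hD : tw vG R [6] = 0) :
    te R i (wf 0 ++ [2, 3, 1, 2]) = 2 ∧ te R i (wf 1 ++ [2, 3, 1, 2]) = i * tg R w20 ∧
      te R i (wf 2 ++ [2, 3, 1, 2]) = tg R (wf 1 ++ [6, 3, 1]) ∧
      te R i (wf 3 ++ [2, 3, 1, 2]) = tg R (wf 1 ++ [6, 3, 1]) ∧
      te R i (wf 4 ++ [2, 3, 1, 2]) = i * tg R w20 := by
  refine ⟨?_, ?_, ?_, ?_, ?_⟩
  · have h1 : tg R (wf 0 ++ [2, 3, 1, 2]) = 2 := tS hneg hs [] (by decide +kernel)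
    have h3 : tg R (0 :: (wf 0 ++ [2, 3, 1, 2])) = 0 := tg_zero hneg h2 [1, 2, 1] (by decide +kernel)
    rw [te, h1, h3, mul_zero, sub_zero]
  · have h1 : tg R (wf 1 ++ [2, 3, 1, 2]) = 0 := tD hD [4, 3, 0, 5, 4, 2, 5, 2, 1] (by decide +kernel)
    have h3 : tg R (0 :: (wf 1 ++ [2, 3, 1, 2])) = - tg R w20 := tY hneg [2, 3, 2] (by decide +kernel)
    rw [te, h1, h3, zero_sub, mul_neg, _root_.neg_neg]
  · have h1 : tg R (wf 2 ++ [2, 3, 1, 2]) = tg R (wf 1 ++ [6, 3, 1]) := tg_conj [2, 1] (by decide +kernel)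
    have h3 : tg R (0 :: (wf 2 ++ [2, 3, 1, 2])) = 0 := tg_zero hneg h2 [3] (by decide +kernel)
    rw [te, h1, h3, mul_zero, sub_zero]
  · have h1 : tg R (wf 3 ++ [2, 3, 1, 2]) = tg R (wf 1 ++ [6, 3, 1]) := tg_conj [3, 1, 2] (by decide +kernel)
    have h3 : tg R (0 :: (wf 3 ++ [2, 3, 1, 2])) = 0 := tg_zero hneg h2 [1] (by decide +kernel)
    rw [te, h1, h3, mul_zero, sub_zero]
  · have h1 : tg R (wf 4 ++ [2, 3, 1, 2]) = 0 := tD hD [4, 0, 5, 4, 2, 5, 2, 3] (by decide +kernel)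
    have h3 : tg R (0 :: (wf 4 ++ [2, 3, 1, 2])) = - tg R w20 := tY hneg [4] (by decide +kernel)
    rw [te, h1, h3, zero_sub, mul_neg, _root_.neg_neg]

/-! ### the multiplicities -/

theorem proj_b (hneg : R neg = -1) (hη : IsPrimitiveRoot η 5) (h2 : (2 : k) ≠ 0) (hi : i * i = -1) (b : ℕ) :
    IsProj (End.eigenspace (Yo R) i ⊓ End.eigenspace (Fo R) (η ^ b) : Submodule k V) (PY R i * sp 5 η (Fo R) b) := by
  have : NeZero (5 : ℕ) := ⟨by norm_num⟩
  have h5 : ((5 : ℕ) : k) ≠ 0 := hη.neZero'.out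
  refine IsProj.mul (isProj_PY hneg h2 hi) (isProj_sp h5 (hη.ne_zero (by norm_num)) hη.pow_eq_one Fo_five b) ?_
  exact comm_av (PY_comm.smul_right _)

theorem mult (hneg : R neg = -1) (hη : IsPrimitiveRoot η 5) (h2 : (2 : k) ≠ 0) (hi : i * i = -1)
    (hn : finrank k V = 10) (hD : tw vG R [6] = 0) (b : ℕ) :
    10 * (finrank k (End.eigenspace (Yo R) i ⊓ End.eigenspace (Fo R) (η ^ b) : Submodule k V) : k) =
      10 - i * tg R w20 * ((η ^ b)⁻¹ - (η ^ b)⁻¹ ^ 2 - (η ^ b)⁻¹ ^ 3 + (η ^ b)⁻¹ ^ 4) := by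
  have : NeZero (5 : ℕ) := ⟨by norm_num⟩
  have h5 : ((5 : ℕ) : k) ≠ 0 := hη.neZero'.out
  obtain ⟨t0, t1, t3, t4, t5⟩ := te_nil (i := i) hneg h2 hD
  have h6 := trace_spec (R := R) (i := i) (η := η) h2 h5 b []
  rw [GW_nil, map_one, mul_one, trace_isProj (proj_b hneg hη h2 hi b), t0, t1, t3, t4, t5, hn] at h6
  push_cast at h6
  linear_combination h6

/-- the contradiction -/
theorem no_two (hneg : R neg = -1) (hη : IsPrimitiveRoot η 5) (h2 : (2 : k) ≠ 0) (hi : i * i = -1)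
    (hs : tw vG R [3] = -2) (hD : tw vG R [6] = 0)
    (hbot : (End.eigenspace (Yo R) i ⊓ End.eigenspace (Fo R) (η ^ 2) : Submodule k V) = ⊥)
    (ht : -(i * tg R w20) = 2 + 4 * (η + η ^ 4)) : False := by
  have : NeZero (5 : ℕ) := ⟨by norm_num⟩
  have h5 : ((5 : ℕ) : k) ≠ 0 := hη.neZero'.out
  have hη5 := hη.pow_eq_one
  have hηs : 1 + η + η ^ 2 + η ^ 3 + η ^ 4 = 0 := by
    have h5 : (η - 1) * (1 + η + η ^ 2 + η ^ 3 + η ^ 4) = 0 := by
      linear_combination hη5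
    exact (mul_eq_zero.1 h5).resolve_left (sub_ne_zero.2 (hη.ne_one (by norm_num)))
  have hz : PY R i * sp 5 η (Fo R) 2 = 0 := by
    have h1 := proj_b hneg hη h2 hi 2
    rw [hbot] at h1
    ext u
    exact (Submodule.mem_bot k).1 (h1.map_mem u)
  have hinv : (η ^ 2)⁻¹ = η ^ 3 := by
    exact inv_eq_of_mul_eq_one_left (by linear_combination hη5)
  have key : ∀ w : List ℕ, te R i (wf 0 ++ w) + η ^ 3 * te R i (wf 1 ++ w) + (η ^ 3) ^ 2 * te R i (wf 2 ++ w) +
        (η ^ 3) ^ 3 * te R i (wf 3 ++ w) + (η ^ 3) ^ 4 * te R i (wf 4 ++ w) = 0 := by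
    intro w
    rw [← hinv, ← trace_spec h2 h5 2 w, hz, zero_mul, map_zero, mul_zero]
  have A := key [6, 3, 1]
  have B := key [2, 3, 1, 2]
  obtain ⟨t0, t1, t3, t4, t5⟩ := te_one (i := i) hneg h2 hs hD
  obtain ⟨s0, s1, s3, s4, s5⟩ := te_two (i := i) hneg h2 hs hD
  rw [t0, t1, t3, t4, t5] at A
  rw [s0, s1, s3, s4, s5] at B
  generalize tg R (wf 1 ++ [6, 3, 1]) = r at A B
  generalize i * tg R w20 = T at A B ht
  have e6 : (η ^ 3) ^ 2 = η := by linear_combination η * hη5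
  have e9 : (η ^ 3) ^ 3 = η ^ 4 := by linear_combination η ^ 4 * hη5
  have e12 : (η ^ 3) ^ 4 = η ^ 2 := by linear_combination (η ^ 7 + η ^ 2) * hη5
  rw [e6, e9, e12] at A B
  set a := η + η ^ 4 with ha
  have ha2 : a ^ 2 = 1 - a := by
    rw [ha]
    linear_combination hηs + (η ^ 3 + 2) * hη5
  have hT : T = -(2 + 4 * a) := by rw [← ht, _root_.neg_neg]
  have hb : η ^ 2 + η ^ 3 = -1 - a := by rw [ha]; linear_combination hηs
  have A' : 6 - 2 * a + r * (-1 - a) = 0 := by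
    have : 2 + (η ^ 2 + η ^ 3) * r - a * T = 0 := by rw [ha]; linear_combination A
    rw [hb, hT] at this
    linear_combination this - 4 * ha2
  have B' : 8 + 2 * a + r * a = 0 := by
    have : 2 + (η ^ 2 + η ^ 3) * T + a * r = 0 := by rw [ha]; linear_combination B
    rw [hb, hT] at this
    linear_combination this - 4 * ha2
  have C : 2 * 2 * 2 * (1 + 2 * a) = 0 := by
    linear_combination a * A' + (1 + a) * B'
  have hne : (1 + 2 * a) ≠ 0 := by
    intro h0
    apply h5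
    push_cast
    linear_combination (1 + 2 * a) * h0 - 4 * ha2
  exact (mul_ne_zero (mul_ne_zero (mul_ne_zero h2 h2) h2) hne) C

theorem trace_g20 (hneg : R neg = -1) (hω : IsPrimitiveRoot ω 3) (hη : IsPrimitiveRoot η 5) (h2 : (2 : k) ≠ 0)
    (hi : i * i = -1) (hn : finrank k V = 10) (hE : op vG R [0] ≠ 1) : tg R w20 = 0 := by
  have : NeZero (5 : ℕ) := ⟨by norm_num⟩
  have h3 : (3 : k) ≠ 0 := three_ne hω
  have h5 : ((5 : ℕ) : k) ≠ 0 := hη.neZero'.out
  have h5' : (5 : k) ≠ 0 := by exact_mod_cast h5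
  have hη5 := hη.pow_eq_one
  have hs := (basic_ten hneg hω h2 hn hE).2
  have hD := trace_five hneg hω hη h2 hn hE
  have hηs : 1 + η + η ^ 2 + η ^ 3 + η ^ 4 = 0 := by
    have h5 : (η - 1) * (1 + η + η ^ 2 + η ^ 3 + η ^ 4) = 0 := by
      linear_combination hη5
    exact (mul_eq_zero.1 h5).resolve_left (sub_ne_zero.2 (hη.ne_one (by norm_num)))
  have hi0 : i ≠ 0 := by
    rintro rfl
    rw [mul_zero] at hi
    exact one_ne_zero (α := k) (by linear_combination hi)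
  -- the eigenspace of `y`
  have hdim : finrank k (End.eigenspace (Yo R) i) = 5 := by
    have h6 : LinearMap.trace k V (PY R i) = (finrank k (End.eigenspace (Yo R) i) : k) :=
      trace_isProj (isProj_PY hneg h2 hi)
    have h7 : 2 * LinearMap.trace k V (PY R i) = 10 := by
      have h8 : tg R [0] = 0 := tg_zero hneg h2 [1] (by decide +kernel)
      rw [PY, map_smul, map_sub, map_smul, LinearMap.trace_one, smul_eq_mul, smul_eq_mul, Yo,
        show LinearMap.trace k V (R (GW [0])) = 0 from h8, mul_zero, sub_zero, ← mul_assoc, mul_inv_cancel₀ h2, one_mul, hn]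
      norm_num
    rw [h6] at h7
    have h9 : (finrank k (End.eigenspace (Yo R) i) : k) = ((5 : ℕ) : k) := by
      apply mul_left_cancel₀ h2
      rw [h7]; push_cast; norm_num
    have h10 := Submodule.finrank_le (End.eigenspace (Yo R) i)
    exact cast_small h2 h3 h5' h9 (by omega) (by omega)
  have hsum := finrank_eq_sum hη (by norm_num) (Fo_five (R := R)) (End.eigenspace (Yo R) i) (by
    intro u hu
    rw [End.mem_eigenspace_iff] at hu ⊢
    rw [← Module.End.mul_apply, Yo_Fo, Module.End.mul_apply, hu, map_smul])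
  rw [Fin.sum_univ_eq_sum_range
    (fun b => finrank k (End.eigenspace (Yo R) i ⊓ End.eigenspace (Fo R) (η ^ b) : Submodule k V)) 5, hdim] at hsum
  simp only [Finset.sum_range_succ, Finset.sum_range_zero, zero_add] at hsum
  have m0 := mult hneg hη h2 hi hn hD 0
  have m1 := mult hneg hη h2 hi hn hD 1
  have m2 := mult hneg hη h2 hi hn hD 2
  have m3 := mult hneg hη h2 hi hn hD 3
  have m4 := mult hneg hη h2 hi hn hD 4
  have i1 : (η ^ 1)⁻¹ = η ^ 4 := inv_eq_of_mul_eq_one_left (by linear_combination hη5)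
  have i2 : (η ^ 2)⁻¹ = η ^ 3 := inv_eq_of_mul_eq_one_left (by linear_combination hη5)
  have i3 : (η ^ 3)⁻¹ = η ^ 2 := inv_eq_of_mul_eq_one_left (by linear_combination hη5)
  have i4 : (η ^ 4)⁻¹ = η ^ 1 := inv_eq_of_mul_eq_one_left (by linear_combination hη5)
  rw [pow_zero, inv_one] at m0
  rw [i1] at m1
  rw [i2] at m2
  rw [i3] at m3
  rw [i4] at m4
  have hbot : ∀ b : ℕ, finrank k (End.eigenspace (Yo R) i ⊓ End.eigenspace (Fo R) (η ^ b) : Submodule k V) = 0 →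
      (End.eigenspace (Yo R) i ⊓ End.eigenspace (Fo R) (η ^ b) : Submodule k V) = ⊥ :=
    fun b hb => Submodule.finrank_eq_zero.1 hb
  have hb2 := hbot 2
  have hb4 := hbot 4
  rw [pow_zero] at hsum
  generalize finrank k (End.eigenspace (Yo R) i ⊓ End.eigenspace (Fo R) 1 : Submodule k V) = A0 at *
  generalize finrank k (End.eigenspace (Yo R) i ⊓ End.eigenspace (Fo R) (η ^ 1) : Submodule k V) = A1 at *
  generalize finrank k (End.eigenspace (Yo R) i ⊓ End.eigenspace (Fo R) (η ^ 2) : Submodule k V) = A2 at *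
  generalize finrank k (End.eigenspace (Yo R) i ⊓ End.eigenspace (Fo R) (η ^ 3) : Submodule k V) = A3 at *
  generalize finrank k (End.eigenspace (Yo R) i ⊓ End.eigenspace (Fo R) (η ^ 4) : Submodule k V) = A4 at *
  have h10 : (10 : k) ≠ 0 := by
    intro h
    have : (2 : k) * 5 = 0 := by rw [← h]; norm_num
    exact (mul_eq_zero.1 this).elim h2 h5'
  have a0 : A0 = 1 := cast_small h2 h3 h5' (mul_left_cancel₀ h10 (by rw [m0]; push_cast; ring)) (by omega) (by omega)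
  set T := i * tg R w20 with hT
  set a := η + η ^ 4 with ha
  have ha2 : a ^ 2 = 1 - a := by
    rw [ha]
    linear_combination hηs + (η ^ 3 + 2) * hη5
  have n1 : 10 * (A1 : k) = 10 - T * (1 + 2 * a) := by
    rw [m1, ha]
    linear_combination T * (hηs + (η ^ 3 + η ^ 7 + η ^ 2 - η ^ 11 - η ^ 6 - η) * hη5)
  have n4 : 10 * (A4 : k) = 10 - T * (1 + 2 * a) := by
    rw [m4, ha]
    linear_combination T * hηs
  have n2 : 10 * (A2 : k) = 10 + T * (1 + 2 * a) := by
    rw [m2, ha]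
    linear_combination T * (-hηs + (η + η ^ 4 - η ^ 7 - η ^ 2) * hη5)
  have n3 : 10 * (A3 : k) = 10 + T * (1 + 2 * a) := by
    rw [m3, ha]
    linear_combination T * (-hηs + (η - η ^ 3) * hη5)
  have a14 : A1 = A4 := cast_small h2 h3 h5' (mul_left_cancel₀ h10 (by rw [n1, n4])) (by omega) (by omega)
  have a23 : A2 = A3 := cast_small h2 h3 h5' (mul_left_cancel₀ h10 (by rw [n2, n3])) (by omega) (by omega)
  have hcase : (A1 = 0 ∧ A4 = 0 ∧ A2 = 2) ∨ A1 = 1 ∨ (A1 = 2 ∧ A2 = 0) := by omega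
  have hne : (1 + 2 * a) ≠ 0 := by
    intro h0
    apply h5
    push_cast
    linear_combination (1 + 2 * a) * h0 - 4 * ha2
  rcases hcase with ⟨h1, h4, h6⟩ | h1 | ⟨h1, h6⟩
  · exfalso
    have hη' : IsPrimitiveRoot (η ^ 2) 5 := hη.pow_of_coprime 2 (by norm_num)
    refine no_two hneg hη' h2 hi hs hD ?_ ?_
    · rw [← pow_mul]
      exact hb4 h4
    · rw [← hT]
      rw [h6] at n2
      push_cast at n2
      apply mul_left_cancel₀ hne
      linear_combination n2 + 8 * ha2 - (1 + 2 * a) * (4 * hηs + 4 * η ^ 3 * hη5)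
  · rw [h1] at n1
    have h7 : T * (1 + 2 * a) = 0 := by push_cast at n1; linear_combination n1
    have h8 : T = 0 := (mul_eq_zero.1 h7).resolve_right hne
    exact (mul_eq_zero.1 h8).resolve_left hi0
  · exfalso
    refine no_two hneg hη h2 hi hs hD (hb2 h6) ?_
    rw [← hT]
    rw [h1] at n1
    push_cast at n1
    apply mul_left_cancel₀ hne
    linear_combination -n1 - 8 * ha2

end Cfsg.Agent.H6.M11
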