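import Cfsg.Agent.H6.M11.Dual3

/-!
# The degrees of representations of the Mathieu group of degree 11 in characteristic 3 (helper6)
-/

set_option autoImplicit false
set_option linter.unusedSectionVars false
set_option linter.unusedVariables false
set_option maxRecDepth 100000

namespace Cfsg.Agent.H6.M11

open Module LinearMap

variable {G : Type*} [Group G] {v : ℕ → G} {k : Type*} [Field k] {V : Type*} [AddCommGroup V] [Module k V]
  [FiniteDimensional k V] {R : G →* End k V} {ζ ξ : k}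

/-! ### restriction to an invariant subspace -/

section res

variable (R) (S : Submodule k V)

/-- the stabilizer of a subspace -/
def stabS : Subgroup G where
  carrier := {g | (∀ u ∈ S, R g u ∈ S) ∧ ∀ u ∈ S, R g⁻¹ u ∈ S}
  one_mem' := by
    refine ⟨fun u hu => ?_, fun u hu => ?_⟩
    · rw [map_one]; exact hu
    · rw [inv_one, map_one]; exact hu
  mul_mem' := by
    rintro a b ⟨ha, ha'⟩ ⟨hb, hb'⟩
    refine ⟨fun u hu => ?_, fun u hu => ?_⟩
    · rw [map_mul]; exact ha _ (hb _ hu)
    · rw [mul_inv_rev, map_mul]; exact hb' _ (ha' _ hu)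
  inv_mem' := by
    rintro a ⟨ha, ha'⟩
    refine ⟨ha', fun u hu => ?_⟩
    rw [inv_inv]
    exact ha _ hu

/-- the restricted representation -/
noncomputable def resS : stabS R S →* End k S where
  toFun g := (R g).restrict g.2.1
  map_one' := by
    ext u
    show R (1 : G) u = u
    rw [map_one]
    rfl
  map_mul' a b := by
    ext u
    show R ((a : G) * (b : G)) u = R a (R b u)
    rw [map_mul]
    rfl

open Classical in
/-- the letters in the stabilizer -/
noncomputable def vS (v : ℕ → G) : ℕ → stabS R S := fun i => if hi : v i ∈ stabS R S then ⟨v i, hi⟩ else 1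

variable {R S}

theorem coe_ev_vS {w : List ℕ} (hw : ∀ i ∈ w, v i ∈ stabS R S) : ((ev (vS R S v) w : stabS R S) : G) = ev v w := by
  induction w with
  | nil => rfl
  | cons i w ih =>
    rw [ev_cons, ev_cons, Subgroup.coe_mul, ih fun j hj => hw j (List.mem_cons_of_mem _ hj)]
    congr 1
    unfold vS
    rw [dif_pos (hw i List.mem_cons_self)]

theorem letters_LL : ∀ r ∈ relLL, (∀ i ∈ r.1, i = 5 ∨ i = 6 ∨ i = 7) ∧ (∀ i ∈ r.2, i = 5 ∨ i = 6 ∨ i = 7) := by
  decide +kernel

theorem SatL.toS (h : SatL v) (hS : ∀ i, i = 5 ∨ i = 6 ∨ i = 7 → v i ∈ stabS R S) : SatL (vS R S v) := by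
  intro r hr
  obtain ⟨h1, h2⟩ := letters_LL r hr
  apply Subtype.ext
  rw [coe_ev_vS (fun i hi => hS i (h1 i hi)), coe_ev_vS (fun i hi => hS i (h2 i hi))]
  exact h r hr

theorem op_resS {w : List ℕ} (hw : ∀ i ∈ w, v i ∈ stabS R S) (u : S) :
    ((op (vS R S v) (resS R S) w u : S) : V) = op v R w u := by
  show R ((ev (vS R S v) w : stabS R S) : G) u = op v R w u
  rw [coe_ev_vS hw]
  rfl

theorem finrank_resS {w : List ℕ} (hw : ∀ i ∈ w, v i ∈ stabS R S) (μ : k) :
    finrank k (End.eigenspace (op (vS R S v) (resS R S) w) μ) =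
      finrank k (S ⊓ End.eigenspace (op v R w) μ : Submodule k V) := by
  have h1 : Submodule.map S.subtype (End.eigenspace (op (vS R S v) (resS R S) w) μ) =
      S ⊓ End.eigenspace (op v R w) μ := by
    ext u
    rw [Submodule.mem_map, Submodule.mem_inf]
    constructor
    · rintro ⟨y, hy, rfl⟩
      refine ⟨y.2, ?_⟩
      rw [End.mem_eigenspace_iff] at hy ⊢
      have h2 := congrArg (fun z : S => (z : V)) hy
      rw [op_resS hw] at h2
      exact h2
    · rintro ⟨hu, hu'⟩
      refine ⟨⟨u, hu⟩, ?_, rfl⟩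
      rw [End.mem_eigenspace_iff] at hu' ⊢
      apply Subtype.ext
      rw [op_resS hw]
      exact hu'
  rw [← h1, Submodule.finrank_map_subtype_eq]

theorem op_one_apply (i : ℕ) (u : V) : op v R [i] u = R (v i) u := by
  rw [op, ev_cons, ev_nil, mul_one]

theorem mem_stabS {i m : ℕ} (hS : ∀ u ∈ S, op v R [i] u ∈ S) (hp : (ev v [i]) ^ (m + 1) = 1) : v i ∈ stabS R S := by
  have e : ev v [i] = v i := by rw [ev_cons, ev_nil, mul_one]
  rw [e] at hp
  refine ⟨fun u hu => ?_, fun u hu => ?_⟩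
  · rw [← op_one_apply]; exact hS u hu
  · have h1 : (v i)⁻¹ = (v i) ^ m := by
      rw [inv_eq_iff_mul_eq_one, ← pow_succ', hp]
    rw [h1, map_pow]
    have h2 : ∀ n : ℕ, ((R (v i)) ^ n) u ∈ S := by
      intro n
      induction n with
      | zero => exact hu
      | succ n ih =>
        rw [pow_succ', Module.End.mul_apply, ← op_one_apply]
        exact hS _ ih
    exact h2 m

end res

theorem SatL.ev_pow (h : SatL v) : (ev v [5]) ^ (10 + 1) = 1 ∧ (ev v [6]) ^ (4 + 1) = 1 ∧ (ev v [7]) ^ (1 + 1) = 1 := by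
  refine ⟨?_, ?_, ?_⟩
  · have h1 : ev v [5, 5, 5, 5, 5, 5, 5, 5, 5, 5, 5] = ev v [] := h.base (by decide +kernel)
    rw [ev_nil] at h1
    rw [← h1]
    simp only [ev_cons, ev_nil, mul_one]
    simp only [pow_succ, pow_zero, one_mul, mul_assoc]
  · have h1 : ev v [6, 6, 6, 6, 6] = ev v [] := h.base (by decide +kernel)
    rw [ev_nil] at h1
    rw [← h1]
    simp only [ev_cons, ev_nil, mul_one]
    simp only [pow_succ, pow_zero, one_mul, mul_assoc]
  · have h1 : ev v [7, 7] = ev v [] := h.base (by decide +kernel)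
    rw [ev_nil] at h1
    rw [← h1]
    simp only [ev_cons, ev_nil, mul_one]
    simp only [pow_succ, pow_zero, one_mul]

/-- Lemma F for an invariant subspace -/
theorem SatL.lemF_sub (h : SatL v) (h3 : (3 : k) = 0) (hζ : IsPrimitiveRoot ζ 11) (hξ : IsPrimitiveRoot ξ 5)
    {S : Submodule k V} (i5 : ∀ u ∈ S, op v R [5] u ∈ S) (i6 : ∀ u ∈ S, op v R [6] u ∈ S)
    (i7 : ∀ u ∈ S, op v R [7] u ∈ S) (hn : finrank k S = 6)
    (hm : finrank k (S ⊓ End.eigenspace (op v R [5]) 1 : Submodule k V) = 1)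
    (hd : ∀ u ∈ S, op v R [5] u = u → op v R [6] u = u) :
    ∀ u ∈ S, op v R [5] u = u → op v R [7] u = u := by
  obtain ⟨p5, p6, p7⟩ := h.ev_pow
  have hS : ∀ i, i = 5 ∨ i = 6 ∨ i = 7 → v i ∈ stabS R S := by
    rintro i (rfl | rfl | rfl)
    · exact mem_stabS i5 p5
    · exact mem_stabS i6 p6
    · exact mem_stabS i7 p7
  have w5 : ∀ i ∈ ([5] : List ℕ), v i ∈ stabS R S := by
    intro i hi; rw [List.mem_singleton] at hi; subst hi; exact hS 5 (by norm_num)
  have w6 : ∀ i ∈ ([6] : List ℕ), v i ∈ stabS R S := by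
    intro i hi; rw [List.mem_singleton] at hi; subst hi; exact hS 6 (by norm_num)
  have w7 : ∀ i ∈ ([7] : List ℕ), v i ∈ stabS R S := by
    intro i hi; rw [List.mem_singleton] at hi; subst hi; exact hS 7 (by norm_num)
  have h' := h.toS hS
  obtain ⟨m, a, b, ha, hb, hm', hdim⟩ := h.eigen (R := R) hζ S i5 i6
  have hd' : ∀ u : S, op (vS R S v) (resS R S) [5] u = u → op (vS R S v) (resS R S) [6] u = u := by
    intro u hu
    apply Subtype.ext
    rw [op_resS w6]
    apply hd u u.2
    rw [← op_resS w5, hu]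
  have hm'' : finrank k (End.eigenspace (op (vS R S v) (resS R S) [5]) 1) = 1 := by
    rw [finrank_resS w5, hm]
  have hcase : b = 0 ∨ a = 0 := by omega
  have key : ∀ u : S, op (vS R S v) (resS R S) [5] u = u → op (vS R S v) (resS R S) [7] u = u := by
    rcases hcase with hb0 | ha0
    · refine h'.lemF h3 hζ hξ hn ?_ hm'' hd'
      intro c hc
      rw [finrank_resS w5, hb c hc, hb0]
    · have hζ' : IsPrimitiveRoot (ζ ^ 10) 11 := hζ.pow_of_coprime 10 (by norm_num)
      refine h'.lemF h3 hζ' hξ hn ?_ hm'' hd'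
      intro c hc
      rw [finrank_resS w5, ← pow_mul]
      have e : ζ ^ (10 * c) = ζ ^ ((10 * c) % 11) := pow_eq_pow_mod _ hζ.pow_eq_one
      rw [e]
      rw [ha _ (by rcases hc with rfl | rfl | rfl | rfl | rfl <;> norm_num), ha0]
  intro u hu hu'
  have h1 := key ⟨u, hu⟩ (by
    apply Subtype.ext
    rw [op_resS w5]
    exact hu')
  have h2 := congrArg (fun z : S => (z : V)) h1
  rw [op_resS w7] at h2
  exact h2

/-! ### `d` is trivial on the fixed space of `x` -/

theorem SatL.d_av (h : SatL v) (h11 : ((11 : ℕ) : k) ≠ 0) :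
    op v R [6] * av 11 (op v R [5]) = av 11 (op v R [5]) * op v R [6] := by
  have hX := h.pow_eleven (R := R)
  have r1 : op v R [6] * op v R [5] = op v R [5, 5, 5, 5] * op v R [6] := by
    rw [← op_append, ← op_append]
    exact h.op_eq (by decide +kernel)
  have r2 : op v R [5] * op v R [6] = op v R [6] * op v R [5, 5, 5] := by
    rw [← op_append, ← op_append]
    exact h.op_eq (by decide +kernel)
  have e4 : op v R [5, 5, 5, 5] = (op v R [5]) ^ 4 := op_replicate 4 5
  have e3 : op v R [5, 5, 5] = (op v R [5]) ^ 3 := op_replicate 3 5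
  have b2 : av 11 (op v R [5]) * (op v R [5]) ^ 4 = av 11 (op v R [5]) := by
    rw [← ((comm_av (Commute.refl (op v R [5]))).pow_left 4).eq, pow_mul_av hX]
  have a1 : av 11 (op v R [5]) * (op v R [6] * av 11 (op v R [5])) = op v R [6] * av 11 (op v R [5]) := by
    apply av_mul_of h11
    rw [← mul_assoc, r2, mul_assoc, e3, pow_mul_av hX]
  have a2 : (av 11 (op v R [5]) * op v R [6]) * av 11 (op v R [5]) = av 11 (op v R [5]) * op v R [6] := by
    apply mul_av_of h11
    rw [mul_assoc, r1, ← mul_assoc, e4, b2]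
  rw [← a1, ← mul_assoc, a2]

theorem Sat.d_trivial (h : Sat v) (h3 : (3 : k) = 0) (hξ : IsPrimitiveRoot ξ 5)
    (hm : finrank k (End.eigenspace (op v R [5]) 1) ≤ 2) : ∀ u, op v R [5] u = u → op v R [6] u = u := by
  have h5k := five_ne_of3 h3
  have h11k := eleven_ne_of3 h3
  have P5 := h.toL.pow_five (R := R)
  have hX := h.toL.pow_eleven (R := R)
  have hξ5 := hξ.pow_eq_one
  have hξ0 : ξ ≠ 0 := hξ.ne_zero (by norm_num)
  have hPx := isProj_av h11k hX
  have hcomm : Commute (op v R [6]) (av 11 (op v R [5])) := h.toL.d_av h11k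
  have td : ∀ j, (j = 1 ∨ j = 2 ∨ j = 3 ∨ j = 4) →
      LinearMap.trace k V (op v R [6] ^ j * av 11 (op v R [5])) = tw v R [6] := by
    intro j hj
    rw [← op_replicate, h.toL.trace_d h11k j hj]
    rcases hj with rfl | rfl | rfl | rfl
    · rfl
    · exact h.t_66
    · exact h.toL.t_666.trans h.t_66
    · exact h.toL.t_6666
  have hE : (fix (op v R [5]) : Submodule k V) = End.eigenspace (op v R [5]) 1 := rfl
  have cj : ∀ c : ℕ, 0 < c → c < 5 →
      5 * (finrank k (End.eigenspace (op v R [6]) (ξ ^ c) ⊓ fix (op v R [5]) : Submodule k V) : k) =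
        (finrank k (fix (op v R [5])) : k) - tw v R [6] := by
    intro c hc0 hc
    have hP := isProj_sp h5k hξ0 hξ5 P5 c
    have hcm : Commute (sp 5 ξ (op v R [6]) c) (av 11 (op v R [5])) := by
      unfold sp
      exact (comm_av ((hcomm.smul_left _).symm)).symm
    have hPP := IsProj.mul hP hPx hcm
    rw [← trace_isProj hPP, ← trace_isProj hPx]
    unfold sp
    rw [av, smul_mul_assoc, map_smul, smul_eq_mul, Finset.sum_mul, map_sum]
    have e0 : ∀ i : ℕ, LinearMap.trace k V (((ξ ^ c)⁻¹ • op v R [6]) ^ i * av 11 (op v R [5])) =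
        (ξ ^ c)⁻¹ ^ i * LinearMap.trace k V (op v R [6] ^ i * av 11 (op v R [5])) := by
      intro i
      rw [smul_pow, smul_mul_assoc, map_smul, smul_eq_mul]
    simp only [e0, Finset.sum_range_succ, Finset.sum_range_zero, zero_add, td 1 (by norm_num), td 2 (by norm_num),
      td 3 (by norm_num), td 4 (by norm_num), pow_zero, one_mul]
    have e1 : (ξ ^ c)⁻¹ ≠ 1 := by
      intro e
      have e2 : ξ ^ c = 1 := by rw [← inv_inv (ξ ^ c), e, inv_one]
      exact (hξ.pow_ne_one_of_pos_of_lt (by omega) hc) e2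
    have e3 : ((ξ ^ c)⁻¹) ^ 5 = 1 := by
      rw [inv_pow, ← pow_mul, mul_comm, pow_mul, hξ5, one_pow, inv_one]
    generalize (ξ ^ c)⁻¹ = η at *
    have e4 : 1 + η + η ^ 2 + η ^ 3 + η ^ 4 = 0 := by
      have h5 : (η - 1) * (1 + η + η ^ 2 + η ^ 3 + η ^ 4) = 0 := by
        linear_combination e3
      exact (mul_eq_zero.1 h5).resolve_left (sub_ne_zero.2 e1)
    have h5k' : (5 : k) ≠ 0 := by exact_mod_cast h5k
    push_cast
    rw [← mul_assoc, mul_inv_cancel₀ h5k', one_mul]
    linear_combination tw v R [6] * e4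
  have hle : ∀ c : ℕ, finrank k (End.eigenspace (op v R [6]) (ξ ^ c) ⊓ fix (op v R [5]) : Submodule k V) ≤ 2 :=
    fun c => (Submodule.finrank_mono inf_le_right).trans hm
  have heq : ∀ c : ℕ, 0 < c → c < 5 →
      finrank k (End.eigenspace (op v R [6]) (ξ ^ c) ⊓ fix (op v R [5]) : Submodule k V) =
      finrank k (End.eigenspace (op v R [6]) (ξ ^ 1) ⊓ fix (op v R [5]) : Submodule k V) := by
    intro c hc0 hc
    have h5k' : (5 : k) ≠ 0 := by exact_mod_cast h5k
    have h1 := mul_left_cancel₀ h5k' ((cj c hc0 hc).trans (cj 1 (by norm_num) (by norm_num)).symm)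
    have h2 := mod_three h3 h1
    have h4 := hle c
    have h5 := hle 1
    omega
  have hinv : ∀ u ∈ fix (op v R [5]), op v R [6] u ∈ fix (op v R [5]) := by
    intro u hu
    exact mem_of_comm hPx hcomm hu
  have hsum := finrank_eq_sum hξ (by norm_num) P5 (fix (op v R [5])) hinv
  rw [Fin.sum_univ_eq_sum_range
    (fun b => finrank k (fix (op v R [5]) ⊓ End.eigenspace (op v R [6]) (ξ ^ b) : Submodule k V)) 5] at hsum
  simp only [Finset.sum_range_succ, Finset.sum_range_zero, zero_add] at hsum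
  have hcm : ∀ b : ℕ, finrank k (fix (op v R [5]) ⊓ End.eigenspace (op v R [6]) (ξ ^ b) : Submodule k V) =
      finrank k (End.eigenspace (op v R [6]) (ξ ^ b) ⊓ fix (op v R [5]) : Submodule k V) := fun b => by rw [inf_comm]
  rw [hcm 1, hcm 2, hcm 3, hcm 4, heq 2 (by norm_num) (by norm_num), heq 3 (by norm_num) (by norm_num),
    heq 4 (by norm_num) (by norm_num)] at hsum
  have hm' : finrank k (fix (op v R [5])) ≤ 2 := hm
  have h0 : finrank k (fix (op v R [5]) ⊓ End.eigenspace (op v R [6]) (ξ ^ 0) : Submodule k V) =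
      finrank k (fix (op v R [5])) := by omega
  rw [pow_zero] at h0
  have h1 := le_of_finrank h0
  intro u hu
  have h2 := h1 (mem_fix.2 hu)
  rw [End.mem_eigenspace_iff, one_smul] at h2
  exact h2

/-- hyperplanes -/
theorem finrank_inf_ker (φ : V →ₗ[k] k) (U : Submodule k V) {x : V} (hx : x ∈ U) (hφ : φ x = 1) :
    finrank k (U ⊓ LinearMap.ker φ : Submodule k V) + 1 = finrank k U := by
  have h1 := LinearMap.finrank_range_add_finrank_ker (φ.domRestrict U)
  have h2 : LinearMap.range (φ.domRestrict U) = ⊤ := by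
    rw [LinearMap.range_eq_top]
    intro c
    exact ⟨c • ⟨x, hx⟩, by rw [map_smul, LinearMap.domRestrict_apply, hφ, smul_eq_mul, mul_one]⟩
  have h3 : Submodule.map U.subtype (LinearMap.ker (φ.domRestrict U)) = U ⊓ LinearMap.ker φ := by
    ext y
    rw [Submodule.mem_map, Submodule.mem_inf]
    constructor
    · rintro ⟨z, hz, rfl⟩
      exact ⟨z.2, hz⟩
    · rintro ⟨hy, hy'⟩
      exact ⟨⟨y, hy⟩, hy', rfl⟩
  rw [h2, finrank_top, Module.finrank_self] at h1
  rw [← h3, Submodule.finrank_map_subtype_eq]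
  omega

end Cfsg.Agent.H6.M11
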