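import Cfsg.Agent.H6.M11.Irr3

/-!
# Dual representation and invariant subspaces of `L₂(11)` (helper6)
-/

set_option autoImplicit false
set_option linter.unusedSectionVars false
set_option linter.unusedVariables false
set_option maxRecDepth 100000

namespace Cfsg.Agent.H6.M11

open Module LinearMap

variable {G : Type*} [Group G] {v : ℕ → G} {k : Type*} [Field k] {V : Type*} [AddCommGroup V] [Module k V]
  [FiniteDimensional k V] {R : G →* End k V} {ζ ξ : k}

/-- the dual representation -/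
noncomputable def dl (R : G →* End k V) : G →* End k (Module.Dual k V) where
  toFun g := (R g⁻¹).dualMap
  map_one' := by rw [inv_one, map_one]; rfl
  map_mul' a b := by rw [mul_inv_rev, map_mul]; rfl

theorem dl_apply (g : G) (ψ : Module.Dual k V) (u : V) : dl R g ψ u = ψ (R g⁻¹ u) := rfl

theorem comp_mem {S : Submodule k (Module.Dual k V)} {i m : ℕ} (hS : ∀ ψ ∈ S, op v (dl R) [i] ψ ∈ S)
    (hp : (ev v [i]) ^ (m + 1) = 1) {ψ : Module.Dual k V} (hψ : ψ ∈ S) : ψ ∘ₗ op v R [i] ∈ S := by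
  have h1 : ∀ n : ℕ, ((op v (dl R) [i]) ^ n) ψ ∈ S := by
    intro n
    induction n with
    | zero => exact hψ
    | succ n ih => rw [pow_succ', Module.End.mul_apply]; exact hS _ ih
  have h2 : ((op v (dl R) [i]) ^ m) ψ = ψ ∘ₗ op v R [i] := by
    unfold op
    rw [← map_pow]
    ext u
    rw [dl_apply, LinearMap.comp_apply]
    have h3 : (ev v [i] ^ m)⁻¹ = ev v [i] := by
      rw [inv_eq_iff_mul_eq_one, ← pow_succ, hp]
    rw [h3]
  rw [← h2]
  exact h1 m

theorem Irr.dual (h : Sat v) (irr : Irr v R) : Irr v (dl R) := by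
  intro S h5 h8
  have e5 : (ev v [5]) ^ (10 + 1) = 1 := by
    have h1 : ev v [5, 5, 5, 5, 5, 5, 5, 5, 5, 5, 5] = ev v [] := h.base (by decide +kernel)
    rw [ev_nil] at h1
    rw [← h1]
    simp only [ev_cons, ev_nil, mul_one]
    simp only [pow_succ, pow_zero, one_mul, mul_assoc]
  have e8 : (ev v [8]) ^ (1 + 1) = 1 := by
    have h1 : ev v [8, 8] = ev v [] := h.base (by decide +kernel)
    rw [ev_nil] at h1
    rw [← h1]
    simp only [ev_cons, ev_nil, mul_one]
    simp only [pow_succ, pow_zero, one_mul]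
  have h1 := irr S.dualCoannihilator (fun u hu => by
    rw [Submodule.mem_dualCoannihilator] at hu ⊢
    intro φ hφ
    exact hu _ (comp_mem h5 e5 hφ)) (fun u hu => by
    rw [Submodule.mem_dualCoannihilator] at hu ⊢
    intro φ hφ
    exact hu _ (comp_mem h8 e8 hφ))
  have h2 := Subspace.dualCoannihilator_dualAnnihilator_eq (W := S)
  rcases h1 with h1 | h1
  · right
    rw [← h2, h1, Submodule.dualAnnihilator_bot]
  · left
    rw [← h2, h1, Submodule.dualAnnihilator_top]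

/-- no invariant functional of `L₂(11)` -/
theorem Sat.no_dual (h : Sat v) (h3 : (3 : k) = 0) (irr : Irr v R) (hn : 2 ≤ finrank k V) {ψ : Module.Dual k V}
    (f5 : ∀ u, ψ (op v R [5] u) = ψ u) (f6 : ∀ u, ψ (op v R [6] u) = ψ u) (f7 : ∀ u, ψ (op v R [7] u) = ψ u) :
    ψ = 0 := by
  have key : ∀ i, (∀ u, ψ (op v R [i] u) = ψ u) → op v (dl R) [i] ψ = ψ := by
    intro i hi
    ext u
    show ψ (R (ev v [i])⁻¹ u) = ψ u
    rw [← hi (R (ev v [i])⁻¹ u)]
    unfold op
    rw [← Module.End.mul_apply, ← map_mul, mul_inv_cancel, map_one]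
    rfl
  refine h.no_fix h3 (irr.dual h) ?_ (key 5 f5) (key 6 f6) (key 7 f7)
  rw [Subspace.dual_finrank_eq]
  exact hn

/-- an invariant subspace of `L₂(11)` on which `x` is trivial -/
theorem Sat.bot_of (h : Sat v) (h3 : (3 : k) = 0) (irr : Irr v R) (hn : 2 ≤ finrank k V) {S : Submodule k V}
    (i6 : ∀ u ∈ S, op v R [6] u ∈ S) (i7 : ∀ u ∈ S, op v R [7] u ∈ S) (hX : ∀ u ∈ S, op v R [5] u = u) : S = ⊥ := by
  have r1 : op v R [7] = op v R [5, 7, 5, 7, 5] := by
    have e1 : op v R [5, 7, 5, 7, 5, 7] = op v R [] := h.toL.op_eq (by decide +kernel)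
    have e2 : op v R [7, 7] = op v R [] := h.toL.op_eq (by decide +kernel)
    calc op v R [7] = op v R [5, 7, 5, 7, 5, 7] * op v R [7] := by rw [e1, op_nil, one_mul]
      _ = op v R [5, 7, 5, 7, 5] * op v R [7, 7] := by rw [← op_append, ← op_append]; rfl
      _ = op v R [5, 7, 5, 7, 5] := by rw [e2, op_nil, mul_one]
  have r2 : op v R [7, 5, 5, 7] = op v R [5, 5, 5, 5, 5, 7, 5, 5, 5, 5, 5, 5, 5, 5, 5, 6] :=
    h.toL.op_eq (by decide +kernel)
  have hW : ∀ u ∈ S, op v R [7] u = u := by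
    intro u hu
    have h1 := congrArg (fun f : End k V => f u) r1
    simp only [op_cons v R 5 [7, 5, 7, 5], op_cons v R 7 [5, 7, 5], op_cons v R 5 [7, 5], op_cons v R 7 [5],
      Module.End.mul_apply] at h1
    rw [hX u hu, hX _ (i7 u hu), h.toL.w_sq, hX u hu] at h1
    exact h1
  have hD : ∀ u ∈ S, op v R [6] u = u := by
    intro u hu
    have h1 := congrArg (fun f : End k V => f u) r2
    have e1 : ∀ y ∈ S, op v R [7, 5, 5, 7] y = y := fun y hy => op_fix _ (by
      intro j hj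
      fin_cases hj
      · exact hW y hy
      · exact hX y hy
      · exact hX y hy
      · exact hW y hy)
    have e2 : ∀ y ∈ S, op v R [5, 5, 5, 5, 5, 7, 5, 5, 5, 5, 5, 5, 5, 5, 5] y = y := fun y hy => op_fix _ (by
      intro j hj
      have hj' : j = 5 ∨ j = 7 := by
        fin_cases hj <;> simp
      rcases hj' with rfl | rfl
      · exact hX y hy
      · exact hW y hy)
    rw [e1 u hu, show ([5, 5, 5, 5, 5, 7, 5, 5, 5, 5, 5, 5, 5, 5, 5, 6] : List ℕ) =
      [5, 5, 5, 5, 5, 7, 5, 5, 5, 5, 5, 5, 5, 5, 5] ++ [6] from rfl, op_append, Module.End.mul_apply,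
      e2 _ (i6 u hu)] at h1
    exact h1.symm
  rw [eq_bot_iff]
  intro u hu
  exact h.no_fix h3 irr hn (hX u hu) (hD u hu) (hW u hu)

/-- an invariant subspace of `L₂(11)` with `x` trivial on the quotient -/
theorem Sat.top_of (h : Sat v) (h3 : (3 : k) = 0) (irr : Irr v R) (hn : 2 ≤ finrank k V) {S : Submodule k V}
    (i7 : ∀ u ∈ S, op v R [7] u ∈ S) (hX : ∀ u, op v R [5] u - u ∈ S) : S = ⊤ := by
  by_contra hS
  have r1 : op v R [7] = op v R [5, 7, 5, 7, 5] := by
    have e1 : op v R [5, 7, 5, 7, 5, 7] = op v R [] := h.toL.op_eq (by decide +kernel)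
    have e2 : op v R [7, 7] = op v R [] := h.toL.op_eq (by decide +kernel)
    calc op v R [7] = op v R [5, 7, 5, 7, 5, 7] * op v R [7] := by rw [e1, op_nil, one_mul]
      _ = op v R [5, 7, 5, 7, 5] * op v R [7, 7] := by rw [← op_append, ← op_append]; rfl
      _ = op v R [5, 7, 5, 7, 5] := by rw [e2, op_nil, mul_one]
  have r2 : op v R [7, 5, 5, 7] = op v R [5, 5, 5, 5, 5, 7, 5, 5, 5, 5, 5, 5, 5, 5, 5, 6] :=
    h.toL.op_eq (by decide +kernel)
  obtain ⟨ψ', hψ'⟩ : ∃ ψ' : Module.Dual k (V ⧸ S), ψ' ≠ 0 := by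
    have hnt : Nontrivial (V ⧸ S) := Submodule.Quotient.nontrivial_iff.2 hS
    exact exists_ne 0
  let q := S.mkQ
  have qX : ∀ u, q (op v R [5] u) = q u := fun u => (Submodule.Quotient.eq S).2 (hX u)
  have qc : ∀ a b, q a = q b → q (op v R [7] a) = q (op v R [7] b) := by
    intro a b hab
    refine (Submodule.Quotient.eq S).2 ?_
    rw [← map_sub]
    exact i7 _ ((Submodule.Quotient.eq S).1 hab)
  have qW : ∀ u, q (op v R [7] u) = q u := by
    intro u
    have h1 := congrArg (fun f : End k V => f u) r1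
    simp only [op_cons v R 5 [7, 5, 7, 5], op_cons v R 7 [5, 7, 5], op_cons v R 5 [7, 5], op_cons v R 7 [5],
      Module.End.mul_apply] at h1
    rw [h1, qX, qc _ _ (qX _), h.toL.w_sq, qX]
  have qD : ∀ u, q (op v R [6] u) = q u := by
    intro u
    have h1 := congrArg (fun f : End k V => q (f u)) r2
    have e : ∀ (i : ℕ) (w : List ℕ) (y : V), (∀ z, q (op v R [i] z) = q z) → q (op v R (i :: w) y) = q (op v R w y) := by
      intro i w y hi
      rw [op_cons, Module.End.mul_apply, hi]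
    rw [e 7 _ _ qW, e 5 _ _ qX, e 5 _ _ qX, qW, e 5 _ _ qX, e 5 _ _ qX, e 5 _ _ qX, e 5 _ _ qX, e 5 _ _ qX,
      e 7 _ _ qW, e 5 _ _ qX, e 5 _ _ qX, e 5 _ _ qX, e 5 _ _ qX, e 5 _ _ qX, e 5 _ _ qX, e 5 _ _ qX, e 5 _ _ qX,
      e 5 _ _ qX] at h1
    exact h1.symm
  have h4 : ψ' ∘ₗ q = 0 := by
    refine h.no_dual h3 irr hn (ψ := ψ' ∘ₗ q) ?_ ?_ ?_
    · intro u; show ψ' (q _) = ψ' (q _); rw [qX]
    · intro u; show ψ' (q _) = ψ' (q _); rw [qD]
    · intro u; show ψ' (q _) = ψ' (q _); rw [qW]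
  apply hψ'
  ext u
  exact congrArg (fun f : Module.Dual k V => f u) h4

end Cfsg.Agent.H6.M11
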