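import Cfsg.Agent.H6.M11.Rel
import Cfsg.Agent.H6.M11.Lin

/-!
# The elementary abelian subgroup of order 9 (helper6)

`R : G → End V`, `v` letters satisfying the relations of the Mathieu group of degree 11, characteristic not 3.
All non-trivial characters of `E = ⟨e₁, e₂⟩` have the same multiplicity; it is 1 if `dim V ≤ 12`.
-/

set_option autoImplicit false
set_option linter.unusedSectionVars false
set_option maxRecDepth 100000

namespace Cfsg.Agent.H6.M11

open Module LinearMap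

section op

variable {G : Type*} [Group G] (v : ℕ → G) {k : Type*} [Field k] {V : Type*} [AddCommGroup V] [Module k V]
  (R : G →* End k V)

/-- operator of a word -/
noncomputable def op (w : List ℕ) : End k V := R (ev v w)

/-- trace of a word -/
noncomputable def tw (w : List ℕ) : k := LinearMap.trace k V (op v R w)

theorem op_append (u w : List ℕ) : op v R (u ++ w) = op v R u * op v R w := by
  unfold op
  rw [ev_append, map_mul]

theorem op_nil : op v R [] = 1 := by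
  unfold op
  rw [ev_nil, map_one]

theorem op_cons (i : ℕ) (w : List ℕ) : op v R (i :: w) = op v R [i] * op v R w := op_append v R [i] w

theorem op_injective (w : List ℕ) : Function.Injective (op v R w) := by
  have h : R (ev v w)⁻¹ * R (ev v w) = 1 := by rw [← map_mul, inv_mul_cancel, map_one]
  intro a b hab
  have h1 := congrArg (R (ev v w)⁻¹) hab
  unfold op at h1
  rw [← Module.End.mul_apply, ← Module.End.mul_apply, h] at h1
  exact h1

variable {v R}

theorem Sat.op_eq (h : Sat v) {a b : List ℕ} (hr : (a, b) ∈ baseL) : op v R a = op v R b := by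
  unfold op
  rw [h.base hr]

theorem tw_of_conj {a b c : List ℕ} (h : ev v c * ev v a = ev v b * ev v c) : tw v R a = tw v R b := by
  unfold tw op
  have h1 : ev v a = (ev v c)⁻¹ * (ev v b * ev v c) := by rw [← h, inv_mul_cancel_left]
  rw [h1, map_mul, LinearMap.trace_mul_comm, ← map_mul, mul_assoc, mul_inv_cancel, mul_one]

theorem Sat.tw_eq (h : Sat v) {a b : List ℕ} (c : List ℕ) (hr : (c, a, b) ∈ certL) : tw v R a = tw v R b :=
  tw_of_conj (h.cert hr)

theorem Sat.tw_base (h : Sat v) {a b : List ℕ} (hr : (a, b) ∈ baseL) : tw v R a = tw v R b := by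
  unfold tw
  rw [h.op_eq hr]

theorem Sat.pow_three (h : Sat v) (i : ℕ) (hi : i = 0 ∨ i = 1 ∨ i = 4) : (op v R [i]) ^ 3 = 1 := by
  have h1 : op v R [i, i, i] = 1 := by
    rw [← op_nil v R]
    rcases hi with rfl | rfl | rfl
    · exact h.op_eq (by decide +kernel)
    · exact h.op_eq (by decide +kernel)
    · exact h.op_eq (by decide +kernel)
  rw [op_cons v R i [i, i], op_cons v R i [i]] at h1
  rw [pow_succ, pow_succ, pow_one, mul_assoc]
  exact h1

end op

theorem finrank_le_of_mapsTo {k : Type*} [Field k] {V : Type*} [AddCommGroup V] [Module k V] [FiniteDimensional k V]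
    {f : End k V} (hf : Function.Injective f) {S T : Submodule k V} (h : ∀ v ∈ S, f v ∈ T) :
    finrank k S ≤ finrank k T := by
  refine LinearMap.finrank_le_finrank_of_injective (f := f.restrict h) ?_
  intro a b hab
  apply Subtype.ext
  apply hf
  exact congrArg Subtype.val hab

section E

variable {G : Type*} [Group G] {v : ℕ → G} {k : Type*} [Field k] {V : Type*} [AddCommGroup V] [Module k V]
  [FiniteDimensional k V] {R : G →* End k V} {ω : k}

variable (v R) in
/-- weight spaces of `E` -/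
noncomputable def Wt (μ ν : k) : Submodule k V := End.eigenspace (op v R [0]) μ ⊓ End.eigenspace (op v R [1]) ν

theorem mem_Wt {μ ν : k} {u : V} : u ∈ Wt v R μ ν ↔ op v R [0] u = μ • u ∧ op v R [1] u = ν • u := by
  rw [Wt, Submodule.mem_inf, End.mem_eigenspace_iff, End.mem_eigenspace_iff]

theorem Sat.y_mem (h : Sat v) {μ ν : k} {u : V} (hu : u ∈ Wt v R μ ν) :
    op v R [2] u ∈ Wt v R (μ ^ 2 * ν) (μ ^ 2 * ν ^ 2) := by
  rw [mem_Wt] at hu ⊢
  obtain ⟨h0, h1⟩ := hu
  have r0 : op v R [0, 2] = op v R [2, 0, 0, 1] := h.op_eq (by decide +kernel)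
  have r1 : op v R [1, 2] = op v R [2, 0, 0, 1, 1] := h.op_eq (by decide +kernel)
  constructor
  · rw [← Module.End.mul_apply, ← op_cons, r0, op_cons, op_cons v R 0, op_cons v R 0 [1]]
    simp only [Module.End.mul_apply, h1, h0, map_smul, smul_smul]
    congr 1
    ring
  · rw [← Module.End.mul_apply, ← op_cons, r1, op_cons, op_cons v R 0, op_cons v R 0 [1, 1], op_cons v R 1 [1]]
    simp only [Module.End.mul_apply, h1, h0, map_smul, smul_smul]
    congr 1
    ring

theorem Sat.s_mem (h : Sat v) {μ ν : k} {u : V} (hu : u ∈ Wt v R μ ν) : op v R [3] u ∈ Wt v R μ (ν ^ 2) := by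
  rw [mem_Wt] at hu ⊢
  obtain ⟨h0, h1⟩ := hu
  have r0 : op v R [3, 0] = op v R [0, 3] := h.op_eq (by decide +kernel)
  have r1 : op v R [1, 3] = op v R [3, 1, 1] := h.op_eq (by decide +kernel)
  constructor
  · rw [← Module.End.mul_apply, ← op_cons, ← r0, op_cons]
    simp only [Module.End.mul_apply, h0, map_smul]
  · rw [← Module.End.mul_apply, ← op_cons, r1, op_cons, op_cons v R 1]
    simp only [Module.End.mul_apply, h1, map_smul, smul_smul]
    congr 1
    ring

theorem Sat.D_le (h : Sat v) (hω : ω ^ 3 = 1) (i j i' j' : ℕ) (h1 : (2 * i + j) % 3 = i' % 3)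
    (h2 : (2 * i + 2 * j) % 3 = j' % 3) :
    finrank k (Wt v R (ω ^ i) (ω ^ j)) ≤ finrank k (Wt v R (ω ^ i') (ω ^ j')) := by
  have e1 : (ω ^ i) ^ 2 * ω ^ j = ω ^ i' := by
    rw [← pow_mul, ← pow_add, mul_comm i 2, pow_eq_pow_mod _ hω, h1, ← pow_eq_pow_mod _ hω]
  have e2 : (ω ^ i) ^ 2 * (ω ^ j) ^ 2 = ω ^ j' := by
    rw [← pow_mul, ← pow_mul, ← pow_add, mul_comm i 2, mul_comm j 2, pow_eq_pow_mod _ hω, h2, ← pow_eq_pow_mod _ hω]
  refine finrank_le_of_mapsTo (op_injective v R [2]) ?_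
  intro u hu
  rw [← e1, ← e2]
  exact h.y_mem hu

theorem Sat.comm01 (h : Sat v) : op v R [0] * op v R [1] = op v R [1] * op v R [0] := by
  rw [← op_cons, ← op_cons]
  exact h.op_eq (by decide +kernel)

/-- all non-trivial characters of `E` have the same multiplicity -/
theorem Sat.finrank_eq (h : Sat v) (hω : IsPrimitiveRoot ω 3) :
    finrank k V = finrank k (Wt v R 1 1) + 8 * finrank k (Wt v R ω 1) := by
  have h3 := hω.pow_eq_one
  have hX := h.pow_three (R := R) 0 (Or.inl rfl)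
  have hY := h.pow_three (R := R) 1 (Or.inr (Or.inl rfl))
  have hsub : ∀ i : ℕ, finrank k (End.eigenspace (op v R [0]) (ω ^ i)) =
      finrank k (Wt v R (ω ^ i) (ω ^ 0)) + finrank k (Wt v R (ω ^ i) (ω ^ 1)) + finrank k (Wt v R (ω ^ i) (ω ^ 2)) := by
    intro i
    rw [finrank_eq_sum hω (by norm_num) hY (End.eigenspace (op v R [0]) (ω ^ i)) ?_, Fin.sum_univ_three]
    · rfl
    · intro u hu
      rw [End.mem_eigenspace_iff] at hu ⊢
      rw [← Module.End.mul_apply, h.comm01, Module.End.mul_apply, hu, map_smul]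
  rw [finrank_top_eq_sum hω (by norm_num) hX, Fin.sum_univ_three]
  have e0 : ((0 : Fin 3) : ℕ) = 0 := rfl
  have e1 : ((1 : Fin 3) : ℕ) = 1 := rfl
  have e2 : ((2 : Fin 3) : ℕ) = 2 := rfl
  rw [e0, e1, e2, hsub, hsub, hsub]
  have s1 := h.D_le (R := R) h3 1 0 2 2 rfl rfl
  have s2 := h.D_le (R := R) h3 2 2 0 2 rfl rfl
  have s3 := h.D_le (R := R) h3 0 2 2 1 rfl rfl
  have s4 := h.D_le (R := R) h3 2 1 2 0 rfl rfl
  have s5 := h.D_le (R := R) h3 2 0 1 1 rfl rfl
  have s6 := h.D_le (R := R) h3 1 1 0 1 rfl rfl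
  have s7 := h.D_le (R := R) h3 0 1 1 2 rfl rfl
  have s8 := h.D_le (R := R) h3 1 2 1 0 rfl rfl
  have t0 : Wt v R (ω ^ 0) (ω ^ 0) = Wt v R 1 1 := by rw [pow_zero]
  have t1 : Wt v R (ω ^ 1) (ω ^ 0) = Wt v R ω 1 := by rw [pow_zero, pow_one]
  rw [← t0, ← t1]
  omega

theorem Sat.wt_pos (h : Sat v) (hω : IsPrimitiveRoot ω 3) (hE : op v R [0] ≠ 1) : 0 < finrank k (Wt v R ω 1) := by
  by_contra hc
  have h1 := h.finrank_eq (R := R) hω
  have h2 : finrank k (Wt v R 1 1) = finrank k V := by omega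
  apply hE
  have h3 := Submodule.eq_top_of_finrank_eq h2
  ext u
  have h4 : u ∈ Wt v R 1 1 := by rw [h3]; trivial
  have h5 := (mem_Wt.1 h4).1
  rw [one_smul] at h5
  exact h5

theorem Sat.wt_one (h : Sat v) (hω : IsPrimitiveRoot ω 3) (hE : op v R [0] ≠ 1) (hn : finrank k V ≤ 12) :
    finrank k (Wt v R ω 1) = 1 := by
  have h1 := h.finrank_eq (R := R) hω
  have h2 := h.wt_pos (R := R) hω hE
  omega

theorem Sat.wt_zero (h : Sat v) (hω : IsPrimitiveRoot ω 3) (hE : op v R [0] ≠ 1) (hn : finrank k V ≤ 12) :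
    finrank k V = finrank k (Wt v R 1 1) + 8 := by
  have h1 := h.finrank_eq (R := R) hω
  have h2 := h.wt_one (R := R) hω hE hn
  omega

/-- projections to the weight spaces -/
noncomputable def pr (v : ℕ → G) (R : G →* End k V) (ω : k) (i j : ℕ) : End k V :=
  sp 3 ω (op v R [0]) i * sp 3 ω (op v R [1]) j

theorem Sat.isProj_pr (h : Sat v) (hω : IsPrimitiveRoot ω 3) (i j : ℕ) :
    IsProj (Wt v R (ω ^ i) (ω ^ j)) (pr v R ω i j) := by
  have h3 := hω.pow_eq_one
  have hX := h.pow_three (R := R) 0 (Or.inl rfl)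
  have hY := h.pow_three (R := R) 1 (Or.inr (Or.inl rfl))
  have hω0 : ω ≠ 0 := hω.ne_zero (by norm_num)
  have h3k : ((3 : ℕ) : k) ≠ 0 := (hω.neZero').out
  have hc : Commute (op v R [0]) (op v R [1]) := h.comm01
  exact IsProj.mul (isProj_sp h3k hω0 h3 hX i) (isProj_sp h3k hω0 h3 hY j)
    (av_comm (Commute.smul_left (Commute.smul_right hc _) _))

theorem sum_three {M : Type*} [AddCommMonoid M] (f : ℕ → M) : ∑ i ∈ Finset.range 3, f i = f 0 + f 1 + f 2 := by
  rw [Finset.sum_range_succ, Finset.sum_range_succ, Finset.sum_range_one]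

/-- the trace of a word times a projection -/
theorem Sat.trace_pr (_h : Sat v) (h3 : (3 : k) ≠ 0) (i j : ℕ) (u : List ℕ) :
    9 * LinearMap.trace k V (op v R u * pr v R ω i j) =
      (tw v R u + (ω ^ j)⁻¹ * tw v R (u ++ [1]) + (ω ^ j)⁻¹ ^ 2 * tw v R (u ++ [1, 1])) +
      (ω ^ i)⁻¹ * (tw v R (u ++ [0]) + (ω ^ j)⁻¹ * tw v R (u ++ [0, 1]) + (ω ^ j)⁻¹ ^ 2 * tw v R (u ++ [0, 1, 1])) +
      (ω ^ i)⁻¹ ^ 2 * (tw v R (u ++ [0, 0]) + (ω ^ j)⁻¹ * tw v R (u ++ [0, 0, 1]) +
        (ω ^ j)⁻¹ ^ 2 * tw v R (u ++ [0, 0, 1, 1])) := by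
  have h9 : (9 : k) * (((3 : ℕ) : k)⁻¹ * ((3 : ℕ) : k)⁻¹) = 1 := by
    have h3' : ((3 : ℕ) : k) = 3 := by norm_num
    rw [h3', ← mul_inv, show (3 : k) * 3 = 9 by norm_num]
    exact mul_inv_cancel₀ (by rw [show (9 : k) = 3 * 3 by norm_num]; exact mul_ne_zero h3 h3)
  have key : LinearMap.trace k V (op v R u * pr v R ω i j) = ((3 : ℕ) : k)⁻¹ * ((3 : ℕ) : k)⁻¹ *
      ((tw v R u + (ω ^ j)⁻¹ * tw v R (u ++ [1]) + (ω ^ j)⁻¹ ^ 2 * tw v R (u ++ [1, 1])) +
      (ω ^ i)⁻¹ * (tw v R (u ++ [0]) + (ω ^ j)⁻¹ * tw v R (u ++ [0, 1]) + (ω ^ j)⁻¹ ^ 2 * tw v R (u ++ [0, 1, 1])) +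
      (ω ^ i)⁻¹ ^ 2 * (tw v R (u ++ [0, 0]) + (ω ^ j)⁻¹ * tw v R (u ++ [0, 0, 1]) +
        (ω ^ j)⁻¹ ^ 2 * tw v R (u ++ [0, 0, 1, 1]))) := by
    unfold pr sp av
    rw [sum_three, sum_three]
    have a1 : op v R [1, 1] = op v R [1] * op v R [1] := op_cons v R 1 [1]
    have a2 : op v R [0, 0] = op v R [0] * op v R [0] := op_cons v R 0 [0]
    have a3 : op v R [0, 1] = op v R [0] * op v R [1] := op_cons v R 0 [1]
    have a4 : op v R [0, 1, 1] = op v R [0] * (op v R [1] * op v R [1]) := by rw [op_cons, a1]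
    have a5 : op v R [0, 0, 1] = op v R [0] * (op v R [0] * op v R [1]) := by rw [op_cons, a3]
    have a6 : op v R [0, 0, 1, 1] = op v R [0] * (op v R [0] * (op v R [1] * op v R [1])) := by rw [op_cons, a4]
    unfold tw
    simp only [op_append, a1, a2, a3, a4, a5, a6]
    simp only [pow_zero, pow_one, pow_two, mul_add, add_mul, smul_mul_assoc, mul_smul_comm, mul_one, one_mul, map_add,
      map_smul, smul_eq_mul, mul_assoc]
    ring
  rw [key, ← mul_assoc, h9, one_mul]

end E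

end Cfsg.Agent.H6.M11
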