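import Cfsg.Agent.H6.M11.AB
import Cfsg.Agent.H6.M11.Two

/-!
# The fixed space of `E` (helper6)
-/

set_option autoImplicit false
set_option linter.unusedSectionVars false
set_option maxRecDepth 100000

namespace Cfsg.Agent.H6.M11

open Module LinearMap

variable {G : Type*} [Group G] {v : ℕ → G} {k : Type*} [Field k] {V : Type*} [AddCommGroup V] [Module k V]
  [FiniteDimensional k V] {R : G →* End k V} {ω : k}

variable (v R) in
/-- the projection to the fixed space of `E` -/
noncomputable def pE : End k V := av 3 (op v R [0]) * av 3 (op v R [1])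

theorem pr_eq : pr v R ω 0 0 = pE v R := by
  unfold pr sp pE
  rw [pow_zero, inv_one, one_smul, one_smul]

theorem Sat.isProj_pE (h : Sat v) (hω : IsPrimitiveRoot ω 3) : IsProj (Wt v R 1 1) (pE v R) := by
  have h1 := h.isProj_pr (R := R) hω 0 0
  rwa [pr_eq, pow_zero] at h1

theorem pE_mul (h3 : (3 : k) ≠ 0) {Q : End k V} (h0 : op v R [0] * Q = Q) (h1 : op v R [1] * Q = Q) :
    pE v R * Q = Q := by
  have h3' : ((3 : ℕ) : k) ≠ 0 := by exact_mod_cast h3
  rw [pE, mul_assoc, av_mul_of h3' h1, av_mul_of h3' h0]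

theorem mul_pE (h3 : (3 : k) ≠ 0) {Q : End k V} (h0 : Q * op v R [0] = Q) (h1 : Q * op v R [1] = Q) :
    Q * pE v R = Q := by
  have h3' : ((3 : ℕ) : k) ≠ 0 := by exact_mod_cast h3
  rw [pE, ← mul_assoc, mul_av_of h3' h0, mul_av_of h3' h1]

theorem Sat.zero_pE (h : Sat v) : op v R [0] * pE v R = pE v R := by
  rw [pE, ← mul_assoc, mul_av (h.pow_three 0 (Or.inl rfl))]

theorem Sat.one_pE (h : Sat v) : op v R [1] * pE v R = pE v R := by
  have h1 : Commute (op v R [1]) (av 3 (op v R [0])) := comm_av h.comm01.symm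
  rw [pE, ← mul_assoc, h1.eq, mul_assoc, mul_av (h.pow_three 1 (Or.inr (Or.inl rfl)))]

theorem Sat.pE_zero (h : Sat v) : pE v R * op v R [0] = pE v R := by
  have h1 : Commute (op v R [0]) (av 3 (op v R [1])) := comm_av h.comm01
  rw [pE, mul_assoc, ← h1.eq, ← mul_assoc, av_mul_self_right (h.pow_three 0 (Or.inl rfl))]

theorem Sat.pE_one (h : Sat v) : pE v R * op v R [1] = pE v R := by
  rw [pE, mul_assoc, av_mul_self_right (h.pow_three 1 (Or.inr (Or.inl rfl)))]

theorem Sat.comm_two (h : Sat v) (h3 : (3 : k) ≠ 0) : op v R [2] * pE v R = pE v R * op v R [2] := by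
  have r1 : op v R [0] * op v R [2] = op v R [2] * (op v R [0] * (op v R [0] * op v R [1])) := by
    have : op v R [0, 2] = op v R [2, 0, 0, 1] := h.op_eq (by decide +kernel)
    rwa [op_cons v R 0 [2], op_cons v R 2 [0, 0, 1], op_cons v R 0 [0, 1], op_cons v R 0 [1]] at this
  have r2 : op v R [1] * op v R [2] = op v R [2] * (op v R [0] * (op v R [0] * (op v R [1] * op v R [1]))) := by
    have : op v R [1, 2] = op v R [2, 0, 0, 1, 1] := h.op_eq (by decide +kernel)
    rwa [op_cons v R 1 [2], op_cons v R 2 [0, 0, 1, 1], op_cons v R 0 [0, 1, 1], op_cons v R 0 [1, 1], op_cons v R 1 [1]] at this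
  have r3 : op v R [2] * op v R [0] = op v R [0] * op v R [1] * op v R [2] := by
    have : op v R [2, 0] = op v R [0, 1, 2] := h.op_eq (by decide +kernel)
    rwa [op_cons, op_cons v R 0 [1, 2], op_cons v R 1 [2], ← mul_assoc] at this
  have r4 : op v R [2] * op v R [1] = op v R [0] * op v R [0] * op v R [1] * op v R [2] := by
    have : op v R [2, 1] = op v R [0, 0, 1, 2] := h.op_eq (by decide +kernel)
    rwa [op_cons, op_cons v R 0 [0, 1, 2], op_cons v R 0 [1, 2], op_cons v R 1 [2], ← mul_assoc, ← mul_assoc] at this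
  have a1 : pE v R * (op v R [2] * pE v R) = op v R [2] * pE v R := by
    apply pE_mul h3
    · rw [← mul_assoc, r1, mul_assoc, mul_assoc, mul_assoc, h.one_pE, h.zero_pE, h.zero_pE]
    · rw [← mul_assoc, r2, mul_assoc, mul_assoc, mul_assoc, mul_assoc, h.one_pE, h.one_pE, h.zero_pE, h.zero_pE]
  have a2 : (pE v R * op v R [2]) * pE v R = pE v R * op v R [2] := by
    apply mul_pE h3
    · rw [mul_assoc, r3, ← mul_assoc, ← mul_assoc, h.pE_zero, h.pE_one]
    · rw [mul_assoc, r4, ← mul_assoc, ← mul_assoc, ← mul_assoc, h.pE_zero, h.pE_zero, h.pE_one]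
  rw [← a1, ← mul_assoc, a2]

theorem Sat.comm_three (h : Sat v) (h3 : (3 : k) ≠ 0) : op v R [3] * pE v R = pE v R * op v R [3] := by
  have r1 : op v R [3] * op v R [0] = op v R [0] * op v R [3] := by
    have : op v R [3, 0] = op v R [0, 3] := h.op_eq (by decide +kernel)
    rwa [op_cons, op_cons v R 0 [3]] at this
  have r2 : op v R [1] * op v R [3] = op v R [3] * (op v R [1] * op v R [1]) := by
    have : op v R [1, 3] = op v R [3, 1, 1] := h.op_eq (by decide +kernel)
    rwa [op_cons, op_cons v R 3 [1, 1], op_cons v R 1 [1]] at this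
  have r4 : op v R [3] * op v R [1] = op v R [1] * op v R [1] * op v R [3] := by
    have : op v R [3, 1] = op v R [1, 1, 3] := h.op_eq (by decide +kernel)
    rwa [op_cons, op_cons v R 1 [1, 3], op_cons v R 1 [3], ← mul_assoc] at this
  have a1 : pE v R * (op v R [3] * pE v R) = op v R [3] * pE v R := by
    apply pE_mul h3
    · rw [← mul_assoc, ← r1, mul_assoc, h.zero_pE]
    · rw [← mul_assoc, r2, mul_assoc, mul_assoc, h.one_pE, h.one_pE]
  have a2 : (pE v R * op v R [3]) * pE v R = pE v R * op v R [3] := by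
    apply mul_pE h3
    · rw [mul_assoc, r1, ← mul_assoc, h.pE_zero]
    · rw [mul_assoc, r4, ← mul_assoc, ← mul_assoc, h.pE_one, h.pE_one]
  rw [← a1, ← mul_assoc, a2]

theorem Sat.comm_word (h : Sat v) (h3 : (3 : k) ≠ 0) (w : List ℕ) (hw : ∀ i ∈ w, i = 2 ∨ i = 3) :
    op v R w * pE v R = pE v R * op v R w := by
  induction w with
  | nil => rw [op_nil, one_mul, mul_one]
  | cons i w ih =>
    rw [op_cons, mul_assoc, ih (fun j hj => hw j (List.mem_cons_of_mem _ hj)), ← mul_assoc]
    rcases hw i List.mem_cons_self with rfl | rfl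
    · rw [h.comm_two h3, mul_assoc]
    · rw [h.comm_three h3, mul_assoc]

variable (v R) in
/-- trace of a word on the fixed space of `E` -/
noncomputable def tE (w : List ℕ) : k := LinearMap.trace k V (op v R w * pE v R)

theorem Sat.nine_tE (h : Sat v) (h3 : (3 : k) ≠ 0) (u : List ℕ) :
    9 * tE v R u = (tw v R u + tw v R (u ++ [1]) + tw v R (u ++ [1, 1])) +
      (tw v R (u ++ [0]) + tw v R (u ++ [0, 1]) + tw v R (u ++ [0, 1, 1])) +
      (tw v R (u ++ [0, 0]) + tw v R (u ++ [0, 0, 1]) + tw v R (u ++ [0, 0, 1, 1])) := by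
  have h1 := h.trace_pr (R := R) (ω := (1 : k)) h3 0 0 u
  rw [pr_eq] at h1
  simp only [pow_zero, inv_one, one_mul, one_pow] at h1
  exact h1

theorem nine_ne (h3 : (3 : k) ≠ 0) : (9 : k) ≠ 0 := by
  rw [show (9 : k) = 3 * 3 by norm_num]
  exact mul_ne_zero h3 h3

section tab

variable (h : Sat v) (h3 : (3 : k) ≠ 0)

include h h3

theorem Sat.tE_z : tE v R [2, 2, 2, 2] = tw v R [3] := by
  have h1 := h.nine_tE (R := R) h3 [2, 2, 2, 2]
  simp only [List.cons_append, List.nil_append, h.t_2222, h.t_22221, h.t_222211, h.t_22220, h.t_222201, h.t_2222011,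
    h.t_222200, h.t_2222001, h.t_22220011] at h1
  apply mul_left_cancel₀ (nine_ne h3)
  linear_combination h1

theorem Sat.tE_yy : tE v R [2, 2] = tw v R [2, 2] := by
  have h1 := h.nine_tE (R := R) h3 [2, 2]
  simp only [List.cons_append, List.nil_append, h.t_221, h.t_2211, h.t_220, h.t_2201, h.t_22011,
    h.t_2200, h.t_22001, h.t_220011] at h1
  apply mul_left_cancel₀ (nine_ne h3)
  linear_combination h1

theorem Sat.tE_y6 : tE v R [2, 2, 2, 2, 2, 2] = tw v R [2, 2] := by
  have h1 := h.nine_tE (R := R) h3 [2, 2, 2, 2, 2, 2]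
  simp only [List.cons_append, List.nil_append, h.t_222222, h.t_2222221, h.t_22222211, h.t_2222220, h.t_22222201,
    h.t_222222011, h.t_22222200, h.t_222222001, h.t_2222220011] at h1
  apply mul_left_cancel₀ (nine_ne h3)
  linear_combination h1

theorem Sat.tE_y : tE v R [2] = tw v R [2] := by
  have h1 := h.nine_tE (R := R) h3 [2]
  simp only [List.cons_append, List.nil_append, h.t_21, h.t_211, h.t_20, h.t_201, h.t_2011,
    h.t_200, h.t_2001, h.t_20011] at h1
  apply mul_left_cancel₀ (nine_ne h3)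
  linear_combination h1

theorem Sat.tE_y5 : tE v R [2, 2, 2, 2, 2] = tw v R [2, 2, 2, 2, 2, 2, 2] := by
  have h1 := h.nine_tE (R := R) h3 [2, 2, 2, 2, 2]
  simp only [List.cons_append, List.nil_append, h.t_22222, h.t_222221, h.t_2222211, h.t_222220, h.t_2222201,
    h.t_22222011, h.t_2222200, h.t_22222001, h.t_222220011] at h1
  apply mul_left_cancel₀ (nine_ne h3)
  linear_combination h1

theorem Sat.tE_q : tE v R [3, 2] = tw v R [2, 2] := by
  have h1 := h.nine_tE (R := R) h3 [3, 2]
  simp only [List.cons_append, List.nil_append, h.t_32, h.t_321, h.t_3211, h.t_320, h.t_3201, h.t_32011,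
    h.t_3200, h.t_32001, h.t_320011] at h1
  apply mul_left_cancel₀ (nine_ne h3)
  linear_combination h1

theorem Sat.tE_q5 : tE v R [3, 2, 2, 2, 2, 2] = tw v R [2, 2] := by
  have h1 := h.nine_tE (R := R) h3 [3, 2, 2, 2, 2, 2]
  simp only [List.cons_append, List.nil_append, h.t_322222, h.t_3222221, h.t_32222211, h.t_3222220, h.t_32222201,
    h.t_322222011, h.t_32222200, h.t_322222001, h.t_3222220011] at h1
  apply mul_left_cancel₀ (nine_ne h3)
  linear_combination h1

theorem Sat.tE_s : 3 * tE v R [3] = tw v R [3] + 2 * tw v R [3, 0] := by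
  have h1 := h.nine_tE (R := R) h3 [3]
  simp only [List.cons_append, List.nil_append, h.t_31, h.t_311, h.t_301, h.t_3011,
    h.t_300, h.t_3001, h.t_30011] at h1
  apply mul_left_cancel₀ h3
  linear_combination h1

theorem Sat.tE_sz : 3 * tE v R [3, 2, 2, 2, 2] = tw v R [3] + 2 * tw v R [3, 0] := by
  have h1 := h.nine_tE (R := R) h3 [3, 2, 2, 2, 2]
  simp only [List.cons_append, List.nil_append, h.t_32222, h.t_322221, h.t_3222211, h.t_322220, h.t_3222201,
    h.t_32222011, h.t_3222200, h.t_32222001, h.t_322220011] at h1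
  apply mul_left_cancel₀ h3
  linear_combination h1

theorem Sat.tE_one : 9 * tE v R [] = tw v R [] + 8 * tw v R [0] := by
  have h1 := h.nine_tE (R := R) h3 []
  simp only [List.nil_append, h.t_1, h.t_11, h.t_01, h.t_011, h.t_00, h.t_001, h.t_0011] at h1
  linear_combination h1

end tab

theorem tw_nil : tw v R [] = (finrank k V : k) := by
  rw [tw, op_nil, Module.End.one_eq_id, LinearMap.trace_id]

theorem Sat.tE_nil (h : Sat v) (hω : IsPrimitiveRoot ω 3) : tE v R [] = (finrank k (Wt v R 1 1) : k) := by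
  rw [tE, op_nil, one_mul, trace_isProj (h.isProj_pE hω)]

end Cfsg.Agent.H6.M11
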