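import Cfsg.Agent.H6.M11.Reps
import Cfsg.Agent.H354.TwoM12

/-!
# Real elements of the Mathieu group of degree 12 (helper6)
-/

set_option autoImplicit false
set_option maxRecDepth 100000

namespace Cfsg.Agent.H6.M11

open Cfsg Cfsg.Agent.CoThreeStd.MTwelve
open scoped Pointwise

/-- the centralizer of `p r`: words and conjugating words to the inverse -/
def CV : List (List ℕ × List ℕ) := [
  ([], []), ([1,5,3,4,3,1,0,5,2,1], [0]), ([1,2,5,3,4,3,1,0,5,1], [0]),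
  ([2,3,1,2], []), ([0,5,4,2,5,3,1,0], []), ([2,5,2,3,4,5,1,0,5,2], [1,5,4,2,5,1]),
  ([3,4,2,5,3,2,5,1,5,0], [1,5,4,2,5,1]), ([3,0,5,4,2,5], [1,0]), ([4,3,5,1,5,2,1,0,5,2], [1,5,4,2,5,1]),
  ([4,5,4,1,2,1,5,4,1], [1]), ([5,4,1,5,1,5,0,5,4,2], []), ([5,1,2,5,4,3,5,1,5,0], [5,4,1,5]),
  ([5,1,5,2,3,5,4,2,3,1], [1,5,4,2,5,1]), ([4,1,5,4,1,2,1,5,4], [1]), ([5,1,2,3,4,5,4,0,5,2], []),
  ([4,5,1,2,0,5,3,4,5,2], [0,5,4,2,5,0]), ([5,4,2,5,3,0], [1,0]), ([2,5,4,3,5,2,1,0,5,4], [0,5,4,2,5,0]),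
  ([5,2,3,4,1,0,5,2,3,0], [5,4,1,5]), ([1,5,4,2,5,1], []), ([4,2,5,3,1,0,5,4,2,1], []),
  ([2,5,3,4,3,1,0,5,0], []), ([4,2,1,5,3,1,0,5,4,1], []), ([5,4,0,5,1,0,5,4,0,5,1,0], []),
  ([4,5,3,1,0,5,4,3,2,1], []), ([0], []), ([2,3,1,2,0], []),
  ([4,5,3,1,0,5,4,1,2,3], []), ([5,1,5,0,5,1,2,5,4,3], [0,5,4,2,5,0]), ([4,0,5,4,1,2,1,5,4,1], [1,0]),
  ([5,0,5,1,5,3,1,5,3,4], [0]), ([3,2,5,4,3,1,2,0,5], [1,5,4,2,5,1]), ([5,4,2,5,3,1,0], [0]),
  ([4,5,0,5,2,1,5,0,5,3], [5,4,2,5]), ([4,2,5,3,2,5,1,5,1,0], [5,4,2,5]), ([3,5,4,2,5], [1]),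
  ([0,5,4,2,5,3,0], [1]), ([5,1,5,3,4,1,2,5,3,2], [5,2,3,1,2,5]), ([5,1,5,3,4,5,2,1,5], [1,0,5,4,2,5,1,0]),
  ([1,0,5,4,2,5,1], [0]), ([5,1,5,2,3,5,4,2,3], [0,5,4,2,5,0]), ([5,4,5,1,2,5,0,5,4,2], [1,0]),
  ([5,4,1,5,4,2,3,2,0,5], [0]), ([5,3,4,1,2,5,4,5,3,2], [1,5,4,2,5,1]), ([5,3,4,3,1,0,5,2], [0]),
  ([5,4,2,5,0,5,4,2,5,1,0], [0]), ([5,2,0,5,3,1,5,2,0,5,0], [0]), ([2,5,3,4,3,1,0,5,3,1], [0]),
  ([5,2,1,5,0,5,1,5,3,4], [0,5,4,2,5,0]), ([3,0,5,4,2,5,0], [1]), ([0,5,4,2,5,3,1], [0]),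
  ([3,4,2,5,3,2,5,1,5], [0,5,4,2,5,0]), ([4,1,5,4,1,2,1,5,4,1], []), ([3,5,1,5,0,5,1,2,5,4], [1,0,5,4,2,5,1,0]),
  ([2,5,4,3,1,2,0,5,1], [5,4,2,5]), ([2,1,5,0,5,2,3,1,5,4], [1]), ([1], []),
  ([5,3,4,3,1,0,5,2,1], [1,0]), ([1,2,3,1,2], [1]), ([2,5,3,4,3,1,0,5,1], [1,0]),
  ([4,2,5,3,1,0,5,4,2], []), ([4,5,3,1,0,5,4,3,2], [1]), ([5,2,0,5,3,0,5,2,0,5,0], [0]),
  ([4,5,3,1,0,5,4,1,2], [1]), ([4,5,2,3,5,4,5,4,3,2], [1,5,4,2,5,1]), ([3,5,4,2,5,1,0], [0]),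
  ([5,4,2,5,1], [1]), ([5,2,3,4,1,0,5,2,1], [1,5,4,2,5,1]), ([4,5,4,1,2,1,5,4], []),
  ([3,5,1,5,2,3,5,4,2], [1,0,5,4,2,5,1,0]), ([5,3,4,2,5,4,1,5,1,2], [5,4,2,5]), ([3,4,0,5,4,1,2,1,5,4,0], [1]),
  ([4,5,3,1,5,1,5,1,0,5], [0]), ([3,5,1,5,2,1,0,5,4,2], [5,4,2,5]), ([5,1,2,5,4,3,5,1,5], [1,0,5,4,2,5,1,0]),
  ([4,5,4,1,2,1,5,4,1,0], [1,0]), ([4,5,2,1,5,0,5,1,5,3], [1,0,5,4,2,5,1,0]), ([3,5,4,2,5,0], [1,0]),
  ([5,4,2,5,3,1], []), ([4,2,5,3,2,5,1,5,1], [2,5,3,1,5,2]), ([2,3,4,5,3,1,0,5,4], [1]),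
  ([1,0], []), ([5,3,4,3,1,0,5,2,1,0], [1]), ([1,2,3,1,2,0], [1]),
  ([1,5,3,4,3,1,0,5,2], [1,0]), ([5,4,2,5,0,5,4,2,5,0], [0]), ([3,2,5,3,4,3,1,0,5], [1,0]),
  ([5,4,0,5,1,0,5,4,0,5], []), ([4,0,5,4,1,2,1,5,4], [0]), ([5,1,5,2,3,5,4,2,0], [5,4,2,5]),
  ([2,3,1,5,4,3,1,2,0,5], [1,0,5,4,2,5,1,0]), ([3,4,5,4,1,2,1,5,4,0], [1,0]), ([2,1,5,4,1,5,4,2,3,5], [5,4,2,5]),
  ([3,0,5,4,2,5,1,0], []), ([0,5,4,2,5,1], [1,0]), ([5,2,3,4,1,0,5,2,0], [5,4,2,5]),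
  ([4,1,5,4,1,2,1,5,4,0], [1,0]), ([2,3,5,4,2,3,1,5,1,5], [5,2,3,1,2,5]), ([1,5,1,5,2,3,5,4,2,1], [5,4,2,5]),
  ([5,2,3,4,2,0,5,4,1,5], [0]), ([1,5,2,3,4,1,0,5,2], [5,4,2,5]), ([0,5,4,2,5,3], [1,0]),
  ([1,0,5,4,2,5,1,0], []), ([4,5,3,2,1,5,4,0,5,4], [5,4,2,5]), ([1,2,5,3,4,3,1,0,5], [1,0]),
  ([5,2,0,5,3,0,5,2,0,5], []), ([3,5,3,4,3,1,0,5,2], [1,0]), ([4,2,5,3,1,0,5,4,2,0], [0]),
  ([4,2,1,5,3,1,0,5,4], [1]), ([2,3,1,2,1,0], [1]), ([2,5,3,4,3,1,0,5,3,0], [1]),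
  ([3,0], []), ([4,5,4,1,2,1,5,4,3,0], [1,0]), ([2,5,4,3,1,2,0,5], [1,5,4,1,5,1]),
  ([5,1,5,0,5,1,2,5,4,0], [5,4,2,5]), ([3,4,0,5,4,1,2,1,5,4,1], [0]), ([4,2,5,3,2,5,1,5,3], [1,0,5,4,2,5,1,0]),
  ([5,4,2,5], []), ([1,5,4,2,5,0], [1,0]), ([4,5,2,1,5,0,5,1,5,1], [1,0,5,4,2,5,1,0]),
  ([5,2,3,4,1,0,5,2,3], [1,5,4,2,5,1]), ([5,4,2,5,3], [1]), ([1,5,4,2,5,1,0], [0]),
  ([2,3,5,4,5,4,2,3,1,5], [1,5,4,2,5,1]), ([4,5,3,1,2,5,0,5,1,2], [1]), ([4,5,4,0,5,1,2,3,5,4], [5,4,2,5]),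
  ([1,5,1,5,2,3,5,4,2], [2,5,3,1,5,2]), ([4,5,4,1,2,1,5,4,3,1], []), ([5,4,0,5,1,0,5,4,0,5,0], [0]),
  ([1,5,3,4,3,1,0,5,2,0], [1]), ([5,4,2,5,0,5,4,2,5], []), ([3,2,5,3,4,3,1,0,5,0], [1]),
  ([2,3,1,2,1], [1]), ([2,5,3,4,3,1,0,5,3], [1,0]), ([3], []),
  ([5,3,4,3,1,0,5,2,3], [1,0]), ([4,2,5,3,2,5,1,5,0], [0,5,4,2,5,0]), ([0,5,4,2,5], [0]),
  ([1,0,5,4,2,5,0], [1]), ([4,5,0,5,2,1,5,0,5], [0,5,4,2,5,0]), ([4,0,5,4,1,2,1,5,4,3,0], [1]),
  ([2,5,4,3,1,2,0,5,3], [5,4,2,5]), ([5,1,5,2,1,0,5,4,2,0], [1,0,5,4,2,5,1,0]), ([3,4,5,4,1,2,1,5,4,1], []),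
  ([5,2,0,5,3,1,5,2,0,5], []), ([5,3,4,3,1,0,5,2,0], []), ([3,4,5,3,1,0,5,4,3,2], []),
  ([5,4,2,5,0,5,4,2,5,1], []), ([3,5,4,2,5,1], []), ([0,5,2,3,4,1,0,5,2], [0,5,4,2,5,0]),
  ([2,3,4,1,5,3,2,5,1,5], [0,5,4,2,5,0]), ([5,4,2,5,1,0], [1,0]), ([5,1,5,2,3,5,4,3,1,2], [0,5,4,2,5,0]),
  ([4,0,5,4,1,2,1,5,4,0], []), ([3,4,5,4,1,2,1,5,4], [1]), ([5,1,5,2,3,5,4,2], [1,5,4,2,5,1]),
  ([2,5,4,3,1,2,0,5,0], [0,5,4,2,5,0]), ([4,5,3,1,2,5,0,5,1,2,3], []), ([4,5,4,1,2,1,5,4,3], [1]),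
  ([5,1,5,0,5,1,2,5,4], [1,5,4,2,5,1]), ([1,0,5,4,2,5], [1,0]), ([4,2,5,3,2,5,1,5], [1,5,4,2,5,1]),
  ([4,5,2,1,5,0,5,1,5], [1,5,4,2,5,1]), ([0,5,4,2,5,0], []), ([1,2,3,1,2,1], []),
  ([3,2,5,3,4,3,1,0,5,1], [0]), ([3,5,3,4,3,1,0,5,2,1], [0]), ([3,1], []),
  ([2,5,3,4,3,1,0,5], [0]), ([5,4,0,5,1,0,5,4,0,5,1], [0]), ([4,2,5,3,1,0,5,4,2,1,0], [0]),
  ([5,3,4,3,1,0,5,2,3,1], [0]), ([2,5,3,4,5,4,2,5,4,2], [1,5,4,2,5,1]), ([4,5,4,1,2,1,5,4,0], [0]),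
  ([3,4,0,5,4,1,2,1,5,4], [1,0]), ([5,1,5,2,3,5,4,2,1], [0,5,4,2,5,0]), ([3,0,5,4,2,5,1], [0]),
  ([5,2,3,4,1,0,5,2], [1,5,4,1,5,1]), ([5,2,3,4,1,0,5,3,1,2], [1,0,5,4,2,5,1,0]), ([0,5,4,2,5,1,0], [1]),
  ([1,5,4,2,5], [1]), ([4,2,0,5,3,2,5,1,5], [5,4,2,5]), ([4,5,0,5,2,1,5,0,5,1], [5,4,2,5]),
  ([5,4,2,5,0], [0]), ([1,2,5,4,3,1,2,0,5], [1,5,4,2,5,1]), ([3,4,5,4,1,2,1,5,4,1,0], [0]),
  ([4,0,5,4,1,2,1,5,4,3], [1,0]), ([5,1,5,2,1,0,5,4,2], [0,5,4,2,5,0]), ([4,5,3,1,0,5,4,1,2,1], []),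
  ([1,2,3,1,2,1,0], []), ([3,1,0], []), ([4,5,3,1,0,5,4,2,3,2], [])]

/-- a Sylow 3-subgroup: words in two generators, conjugating words to the inverse -/
def CT : List (List ℕ × List ℕ) := [
  ([], []), ([0,0,1,1], [1,5,4,2,5,1]), ([1,0], [1,5,4,2,5,1]),
  ([0,1,0], [0,5,2,3,1]), ([0], [2]), ([1,1], [4,1,0]),
  ([1,0,1], [0,5,2,3,1]), ([0,1,0,0], [1,5,2,0,5,0]), ([0,1,0,1,1], [4,3,5,3,4]),
  ([0,0,1,1,0,1], [0,5,4,5,1,5]), ([0,1,1,0], [5,2,3,1,2,5]), ([0,1], [2,5,4,2,5,2]),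
  ([1,1,0], [1,2,1,5,3,2,0]), ([1], [4,1,0]), ([0,1,1,0,1], [5,2,0,5]),
  ([0,0,1], [1,2,1,5,3,2,0]), ([1,1,0,1], [4,3,5,3,4]), ([0,0,1,1,0], [5,3,0,5,4,0]),
  ([1,0,0], [3,2,5,3,4,3,0]), ([1,0,1,1], [5,2,0,5]), ([0,0,1,0,1], [1,5,2,0,5,0]),
  ([0,1,1], [3,2,5,3,4,3,0]), ([0,0,1,0], [5,3,0,5,4,0]), ([0,0], [2]),
  ([0,0,1,0,1,1], [0,5,4,5,1,5]), ([0,1,0,1], [2,5,4,2,5,2]), ([0,0,1,0,0], [5,2,3,1,2,5])]

/-- right multiplication by the generators -/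
def RT : ℕ → List ℕ
  | 0 => [4,17,18,7,23,12,1,11,24,16,20,3,25,2,9,22,14,6,13,8,21,10,26,0,19,5,15]
  | _ => [13,23,6,25,11,0,19,17,3,7,14,21,16,5,18,1,26,9,10,2,24,4,20,15,22,8,12]

/-- the generators of the Sylow 3-subgroup -/
def GT : ℕ → List ℕ
  | 0 => [2,3]
  | _ => [1,0,5,4]

/-- strictly increasing signatures -/
def incrS (f : List ℕ → List ℕ) : ℕ → List (List ℕ × List ℕ) → Bool
  | _, [] => true
  | a, x :: l => Nat.blt a (sig (f x.1) 24) && incrS f (sig (f x.1) 24) l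

theorem incrS_lt {f : List ℕ → List ℕ} : ∀ {l : List (List ℕ × List ℕ)} {a : ℕ}, incrS f a l = true →
    ∀ m ∈ l, a < sig (f m.1) 24
  | [], _, _, m, hm => by simp at hm
  | m' :: l, a, h, m, hm => by
    rw [incrS, Bool.and_eq_true] at h
    have h1 : a < sig (f m'.1) 24 := by simpa [Nat.blt] using h.1
    rcases List.mem_cons.mp hm with rfl | hm
    · exact h1
    · exact h1.trans (incrS_lt h.2 m hm)

theorem incrS_pairwise {f : List ℕ → List ℕ} : ∀ {l : List (List ℕ × List ℕ)} {a : ℕ}, incrS f a l = true →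
    l.Pairwise (fun m m' => sig (f m.1) 24 < sig (f m'.1) 24)
  | [], _, _ => List.Pairwise.nil
  | m :: l, a, h => by
    rw [incrS, Bool.and_eq_true] at h
    exact List.Pairwise.cons (fun m' hm' => incrS_lt h.2 m' hm') (incrS_pairwise h.2)

theorem incrS_inj {f : List ℕ → List ℕ} {l : List (List ℕ × List ℕ)} {a : ℕ} (h : incrS f a l = true) :
    Function.Injective fun i : Fin l.length => wd (f (l[i.1]).1) := by
  have hp := List.pairwise_iff_getElem.mp (incrS_pairwise h)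
  intro i j hij
  have h5 := sig_eq hij 24 le_rfl
  by_contra hne
  rcases lt_or_gt_of_ne (fun h6 => hne (Fin.ext h6)) with h6 | h6
  · exact absurd h5 (hp i.1 j.1 i.2 j.2 h6).ne
  · exact absurd h5 (hp j.1 i.1 j.2 i.2 h6).ne'

/-- real elements -/
def Rl {G : Type*} [Group G] (g : G) : Prop := ∃ c, c⁻¹ * g * c = g⁻¹

theorem Rl.conj {G : Type*} [Group G] {g : G} (m : G) (h : Rl g) : Rl (m⁻¹ * g * m) := by
  obtain ⟨c, hc⟩ := h
  refine ⟨m⁻¹ * c * m, ?_⟩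
  calc (m⁻¹ * c * m)⁻¹ * (m⁻¹ * g * m) * (m⁻¹ * c * m) = m⁻¹ * (c⁻¹ * g * c) * m := by group
    _ = (m⁻¹ * g * m)⁻¹ := by rw [hc]; group

theorem Rl.of_conj {G : Type*} [Group G] {g : G} (m : G) (h : Rl (m * g * m⁻¹)) : Rl g := by
  have h1 := h.conj m
  have h2 : m⁻¹ * (m * g * m⁻¹) * m = g := by group
  rwa [h2] at h1

theorem rl_of_word {w c : List ℕ} (h : eqW (cj w c) w.reverse = true) : Rl (wd w) :=
  ⟨wd c, by rw [← wd_cj, wd_eq h, wd_reverse]⟩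

theorem CV_len : CV.length = 192 := by decide +kernel
theorem CV_comm : (CV.all fun x => eqW ([1, 3] ++ x.1) (x.1 ++ [1, 3])) = true := by decide +kernel
theorem CV_real : (CV.all fun x => eqW (cj x.1 x.2) x.1.reverse) = true := by decide +kernel
theorem CV_incr : incrS (fun w => w) 0 CV = true := by decide +kernel

theorem real_cent_v {g : H} (hg : g ∈ (Subgroup.centralizer {p * r} : Subgroup H)) : Rl g := by
  let f : Fin CV.length → (Subgroup.centralizer {p * r} : Subgroup H) := fun i => ⟨wd (CV[i.1]).1, by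
    rw [Subgroup.mem_centralizer_iff]
    rintro _ rfl
    have h1 := List.all_eq_true.1 CV_comm _ (List.getElem_mem i.2)
    have h2 := wd_eq h1
    rwa [wd_append, wd_append, wd_pr] at h2⟩
  have hf : Function.Injective f := by
    intro i j hij
    exact incrS_inj CV_incr (congrArg Subtype.val hij)
  have hb := Function.Injective.bijective_of_nat_card_le hf (by
    rw [card_cent_v, Nat.card_eq_fintype_card, Fintype.card_fin, CV_len])
  obtain ⟨i, hi⟩ := hb.2 ⟨g, hg⟩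
  have h1 : wd (CV[i.1]).1 = g := congrArg Subtype.val hi
  rw [← h1]
  exact rl_of_word (List.all_eq_true.1 CV_real _ (List.getElem_mem i.2))

theorem real_cent_y {g : H} (hg : g * y = y * g) : Rl g := by
  obtain ⟨σ, hσ⟩ := cent_y g hg
  obtain ⟨τ, hτ⟩ : ∃ τ : Equiv.Perm (Fin 5), τ * σ * τ⁻¹ = σ⁻¹ := by
    have h1 : IsConj σ σ⁻¹ := by
      rw [Equiv.Perm.isConj_iff_cycleType_eq, Equiv.Perm.cycleType_inv]
    exact isConj_iff.1 h1
  have h2 : w τ * w σ * (w τ)⁻¹ = (w σ)⁻¹ := by rw [← map_mul, ← map_inv, ← map_mul, hτ, map_inv]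
  have hyy : y⁻¹ = y := inv_eq_of_mul_eq_one_left y_sq
  rcases hσ with rfl | rfl
  · exact ⟨(w τ)⁻¹, by rw [inv_inv]; exact h2⟩
  · refine ⟨(w τ)⁻¹, ?_⟩
    rw [inv_inv, mul_inv_rev, hyy]
    calc w τ * (y * w σ) * (w τ)⁻¹ = (w τ * y) * w σ * (w τ)⁻¹ := by group
      _ = y * (w τ * w σ * (w τ)⁻¹) := by rw [← y_comm]; group
      _ = (w σ)⁻¹ * y := by rw [h2, ← map_inv, y_comm]

/-! ### 3-elements -/

/-- word of a word in the generators of the Sylow 3-subgroup -/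
def ex3 (w : List ℕ) : List ℕ := w.flatMap GT

theorem CT_len : CT.length = 27 := by decide +kernel
theorem CT_letters : (CT.all fun x => x.1.all fun i => Nat.blt i 2) = true := by decide +kernel
theorem CT_real : (CT.all fun x => eqW (cj (ex3 x.1) x.2) (ex3 x.1).reverse) = true := by decide +kernel
theorem CT_incr : incrS ex3 0 CT = true := by decide +kernel
theorem CT_mul : ∀ n : Fin 27, ∀ i : Fin 2,
    eqW (ex3 (CT.getD n.1 ([], [])).1 ++ GT i.1) (ex3 (CT.getD ((RT i.1).getD n.1 0) ([], [])).1) = true ∧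
      (RT i.1).getD n.1 0 < 27 := by decide +kernel
theorem CT_one : ∃ n : Fin 27, eqW (ex3 (CT.getD n.1 ([], [])).1) [] = true := by decide +kernel

/-- a Sylow 3-subgroup -/
def K3 : Subgroup H := Subgroup.closure {wd (GT 0), wd (GT 1)}

theorem cube_GT : ∀ i : Fin 2, eqW (GT i.1 ++ (GT i.1 ++ GT i.1)) [] = true := by decide +kernel

theorem mem_K3 {g : H} (hg : g ∈ K3) : ∃ n : Fin 27, wd (ex3 (CT.getD n.1 ([], [])).1) = g := by
  have step : ∀ (i : Fin 2) (x : H), (∃ n : Fin 27, wd (ex3 (CT.getD n.1 ([], [])).1) = x) →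
      ∃ n : Fin 27, wd (ex3 (CT.getD n.1 ([], [])).1) = x * wd (GT i.1) := by
    rintro i x ⟨n, rfl⟩
    obtain ⟨h1, h2⟩ := CT_mul n i
    refine ⟨⟨_, h2⟩, ?_⟩
    have h3 := wd_eq h1
    rw [wd_append] at h3
    exact h3.symm
  have hinv : ∀ i : Fin 2, (wd (GT i.1))⁻¹ = wd (GT i.1) * wd (GT i.1) := by
    intro i
    have h1 := wd_eq (cube_GT i)
    rw [wd_append, wd_append, wd_nil] at h1
    exact inv_eq_of_mul_eq_one_right h1
  induction hg using Subgroup.closure_induction_right with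
  | one =>
    obtain ⟨n, hn⟩ := CT_one
    exact ⟨n, wd_eq hn⟩
  | mul_right x hx s hs ih =>
    rcases hs with rfl | hs
    · exact step 0 x ih
    · rw [Set.mem_singleton_iff.1 hs]
      exact step 1 x ih
  | mul_inv_cancel x hx s hs ih =>
    rcases hs with rfl | hs
    · have h1 := step 0 _ (step 0 x ih)
      rw [mul_assoc] at h1
      show ∃ n : Fin 27, _ = x * (wd (GT (0 : Fin 2).1))⁻¹
      rw [hinv 0]
      exact h1
    · rw [Set.mem_singleton_iff.1 hs]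
      have h1 := step 1 _ (step 1 x ih)
      rw [mul_assoc] at h1
      show ∃ n : Fin 27, _ = x * (wd (GT (1 : Fin 2).1))⁻¹
      rw [hinv 1]
      exact h1

theorem ex3_mem (w : List ℕ) : (∀ i ∈ w, i < 2) → wd (ex3 w) ∈ K3 := by
  induction w with
  | nil => intro _; exact one_mem _
  | cons i w ih =>
    intro hw
    rw [ex3, List.flatMap_cons, wd_append]
    refine mul_mem ?_ (ih fun j hj => hw j (List.mem_cons_of_mem _ hj))
    have hi : i < 2 := hw i List.mem_cons_self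
    interval_cases i
    · exact Subgroup.subset_closure (by simp)
    · exact Subgroup.subset_closure (by simp)

theorem card_K3 : Nat.card K3 = 27 := by
  apply le_antisymm
  · have h1 : Function.Surjective fun n : Fin 27 => (⟨wd (ex3 (CT.getD n.1 ([], [])).1), by
        have hn : n.1 < CT.length := by rw [CT_len]; exact n.2
        rw [List.getD_eq_getElem _ _ hn]
        apply ex3_mem
        intro i hi
        have h2 := List.all_eq_true.1 (List.all_eq_true.1 CT_letters _ (List.getElem_mem hn)) i hi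
        simpa [Nat.blt] using h2⟩ : K3) := by
      rintro ⟨g, hg⟩
      obtain ⟨n, hn⟩ := mem_K3 hg
      exact ⟨n, Subtype.ext hn⟩
    have h2 := Nat.card_le_card_of_surjective _ h1
    rwa [Nat.card_eq_fintype_card (α := Fin 27), Fintype.card_fin] at h2
  · let f : Fin CT.length → K3 := fun i => ⟨wd (ex3 (CT[i.1]).1), by
      apply ex3_mem
      intro j hj
      have h2 := List.all_eq_true.1 (List.all_eq_true.1 CT_letters _ (List.getElem_mem i.2)) j hj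
      simpa [Nat.blt] using h2⟩
    have hf : Function.Injective f := by
      intro i j hij
      exact incrS_inj CT_incr (congrArg Subtype.val hij)
    have h2 := Nat.card_le_card_of_injective f hf
    rwa [Nat.card_eq_fintype_card, Fintype.card_fin, CT_len] at h2

theorem real_K3 {g : H} (hg : g ∈ K3) : Rl g := by
  obtain ⟨n, rfl⟩ := mem_K3 hg
  have hn : n.1 < CT.length := by rw [CT_len]; exact n.2
  rw [List.getD_eq_getElem _ _ hn]
  exact rl_of_word (List.all_eq_true.1 CT_real _ (List.getElem_mem hn))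

/-- conjugation into a subgroup of full `p`-part -/
theorem conj_into {p n : ℕ} [hp : Fact p.Prime] {K : Subgroup H} (hK : Nat.card K = p ^ n)
    (hn : ¬ p ^ (n + 1) ∣ 95040) {g : H} {j : ℕ} (hg : orderOf g = p ^ j) : ∃ m : H, m * g * m⁻¹ ∈ K := by
  have h1 : IsPGroup p K := IsPGroup.of_card hK
  obtain ⟨Q, hQ⟩ := h1.exists_le_sylow
  have hQK : K = Q := by
    apply Subgroup.eq_of_le_of_card_ge hQ
    obtain ⟨m, hm⟩ := IsPGroup.iff_card.1 Q.2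
    rw [hm, hK]
    refine Nat.pow_le_pow_right hp.out.pos ?_
    by_contra hlt
    apply hn
    rw [← card_H]
    exact (pow_dvd_pow p (by omega)).trans (hm ▸ Subgroup.card_subgroup_dvd_card (Q : Subgroup H))
  have hz : IsPGroup p (Subgroup.zpowers g) := IsPGroup.of_card (n := j) (by rw [Nat.card_zpowers, hg])
  obtain ⟨R, hR⟩ := hz.exists_le_sylow
  obtain ⟨c, hc⟩ := MulAction.exists_smul_eq H R Q
  refine ⟨c, ?_⟩
  rw [hQK, ← hc, Sylow.coe_subgroup_smul]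
  exact Subgroup.smul_mem_pointwise_smul g (MulAut.conj c) (R : Subgroup H) (hR (Subgroup.mem_zpowers g))

/-- the real elements of the group of degree 12 -/
theorem real_H (g : H) (h11 : orderOf g ≠ 11) : Rl g := by
  obtain ⟨Δ, _, S⟩ := H354.TwoM12.exists_sh (T := H) ⟨MulEquiv.refl _⟩
  have hpos : 0 < orderOf g := orderOf_pos g
  have hdvd : orderOf g ∣ 95040 := by rw [← card_H]; exact orderOf_dvd_natCard g
  by_cases h2 : 2 ∣ orderOf g
  · -- even order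
    obtain ⟨m, hm⟩ := h2
    have hm0 : 0 < m := by omega
    have hz1 : g ^ m ≠ 1 := by
      intro h
      have := orderOf_dvd_of_pow_eq_one h
      have := Nat.le_of_dvd hm0 this
      omega
    have hz2 : g ^ m * g ^ m = 1 := by rw [← pow_add, ← two_mul, ← hm, pow_orderOf_eq_one]
    have hcomm : g * g ^ m = g ^ m * g := (Commute.refl g).pow_right m
    have key : ∀ (u c : H), c⁻¹ * u * c = g ^ m → (c * g * c⁻¹) * u = u * (c * g * c⁻¹) := by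
      intro u c hc
      have hu : u = c * g ^ m * c⁻¹ := by rw [← hc]; group
      rw [hu]
      calc c * g * c⁻¹ * (c * g ^ m * c⁻¹) = c * (g * g ^ m) * c⁻¹ := by group
        _ = c * (g ^ m * g) * c⁻¹ := by rw [hcomm]
        _ = _ := by group
    rcases inv_class (g ^ m) hz1 hz2 with ⟨c, hc⟩ | ⟨c, hc⟩
    · exact Rl.of_conj c (real_cent_y (key _ _ hc))
    · refine Rl.of_conj c (real_cent_v ?_)
      rw [Subgroup.mem_centralizer_iff]
      rintro _ rfl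
      exact (key _ _ hc).symm
  · -- odd order
    have hodd : Nat.Coprime (orderOf g) 64 := by
      have h3 : Nat.Coprime (orderOf g) 2 := ((Nat.Prime.coprime_iff_not_dvd Nat.prime_two).2 h2).symm
      exact Nat.Coprime.pow_right 6 h3
    have h1485 : orderOf g ∣ 1485 := by
      have : orderOf g ∣ 64 * 1485 := by norm_num; exact hdvd
      exact hodd.dvd_of_dvd_mul_left this
    have hmem : ∀ q m : ℕ, orderOf g = q * m → orderOf (g ^ m) = q := by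
      intro q m h
      have hm0 : m ≠ 0 := by rintro rfl; omega
      rw [orderOf_pow_of_dvd hm0 ⟨q, by rw [h, mul_comm]⟩, h, Nat.mul_div_cancel _ (Nat.pos_of_ne_zero hm0)]
    have hcent : ∀ m : ℕ, orderOf g ∣ Nat.card (Subgroup.centralizer ({g ^ m} : Set H)) := by
      intro m
      have h3 : g ∈ Subgroup.centralizer ({g ^ m} : Set H) := by
        rw [Subgroup.mem_centralizer_iff]
        rintro _ rfl
        exact ((Commute.refl g).pow_left m)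
      have h4 := orderOf_dvd_natCard (⟨g, h3⟩ : Subgroup.centralizer ({g ^ m} : Set H))
      rwa [Subgroup.orderOf_mk] at h4
    by_cases h11' : 11 ∣ orderOf g
    · exfalso
      obtain ⟨m, hm⟩ := h11'
      have h3 := hcent m
      rw [S.cent_eleven (hmem 11 m hm)] at h3
      exact h11 (Nat.dvd_antisymm h3 ⟨m, hm⟩)
    by_cases h5 : 5 ∣ orderOf g
    · obtain ⟨m, hm⟩ := h5
      have h3 := (hcent m).trans (S.cent_five (hmem 5 m hm))
      have h4 : orderOf g ∣ 5 := by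
        have h5 : Nat.Coprime (orderOf g) 4 := by
          have h3 : Nat.Coprime (orderOf g) 2 := ((Nat.Prime.coprime_iff_not_dvd Nat.prime_two).2 h2).symm
          exact Nat.Coprime.pow_right 2 h3
        exact h5.dvd_of_dvd_mul_left (n := 5) h3
      have h6 : orderOf g = 5 := Nat.dvd_antisymm h4 ⟨m, hm⟩
      have hd5 : orderOf (ev vH [6]) = 5 := by
        have : Fact (Nat.Prime 5) := ⟨Nat.prime_five⟩
        apply orderOf_eq_prime
        · rw [ev_pow, ← ev_nil vH]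
          exact sat_H.base (by decide +kernel)
        · intro h
          rw [ev_vH] at h
          exact wd_ne (l' := []) 1 (by norm_num) (by decide +kernel) h
      have : Fact (Nat.Prime 5) := ⟨Nat.prime_five⟩
      obtain ⟨c, hc⟩ := conj_into (p := 5) (n := 1) (K := Subgroup.zpowers (ev vH [6])) (by
        rw [Nat.card_zpowers, hd5, pow_one]) (by norm_num) (g := g) (j := 1) (by rw [h6, pow_one])
      obtain ⟨k, hk⟩ := Subgroup.mem_zpowers_iff.1 hc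
      apply Rl.of_conj c
      rw [← hk]
      refine ⟨ev vH [7], ?_⟩
      have e1 : (ev vH [7])⁻¹ * ev vH [6] * ev vH [7] = (ev vH [6])⁻¹ := by
        have e2 : ev vH [7, 6] = ev vH [6, 6, 6, 6, 7] := sat_H.base (by decide +kernel)
        have e3 : ev vH [6, 6, 6, 6, 6] = ev vH [] := sat_H.base (by decide +kernel)
        have e4 : ev vH [7, 7] = ev vH [] := sat_H.base (by decide +kernel)
        have e5 : ev vH [6] * ev vH [6, 6, 6, 6] = 1 := by rw [← ev_append]; exact e3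
        have e6 : (ev vH [7])⁻¹ = ev vH [7] := by
          apply inv_eq_of_mul_eq_one_left
          rw [← ev_append]; exact e4
        have e7 : ev vH [6, 6, 6, 6] = (ev vH [6])⁻¹ := eq_inv_of_mul_eq_one_right e5
        rw [e6]
        calc ev vH [7] * ev vH [6] * ev vH [7] = ev vH [7, 6] * ev vH [7] := by rw [← ev_append]; rfl
          _ = ev vH [6, 6, 6, 6] * ev vH [7, 7] := by rw [e2, ← ev_append, ← ev_append]; rfl
          _ = _ := by rw [e4, e7, ev_nil, mul_one]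
      calc (ev vH [7])⁻¹ * ev vH [6] ^ k * ev vH [7] = ((ev vH [7])⁻¹ * ev vH [6] * ev vH [7]) ^ k := by
            have := conj_zpow (a := (ev vH [7])⁻¹) (b := ev vH [6]) (i := k)
            rw [inv_inv] at this
            exact this.symm
        _ = (ev vH [6] ^ k)⁻¹ := by rw [e1, inv_zpow]
    · have h27 : orderOf g ∣ 3 ^ 3 := by
        have c55 : Nat.Coprime (orderOf g) 55 := by
          have a1 : Nat.Coprime (orderOf g) 5 := ((Nat.Prime.coprime_iff_not_dvd Nat.prime_five).2 h5).symm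
          have a2 : Nat.Coprime (orderOf g) 11 := ((Nat.Prime.coprime_iff_not_dvd (by norm_num)).2 h11').symm
          exact a1.mul_right a2
        have : orderOf g ∣ 55 * 3 ^ 3 := by norm_num; exact h1485
        exact c55.dvd_of_dvd_mul_left this
      obtain ⟨j, -, hj⟩ := (Nat.dvd_prime_pow Nat.prime_three).1 h27
      have : Fact (Nat.Prime 3) := ⟨Nat.prime_three⟩
      obtain ⟨c, hc⟩ := conj_into (p := 3) (n := 3) card_K3 (by norm_num) hj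
      exact Rl.of_conj c (real_K3 hc)

/-- class functions on the powers of an element of order 11 -/
theorem fun_pow {G α : Type*} [Group G] {x d : G} (hx11 : x ^ 11 = 1) (hdx : d * x * d⁻¹ = x ^ 4) (χ : G → α)
    (hχ : ∀ g m : G, χ (m * g * m⁻¹) = χ g) (hx : χ x⁻¹ = χ x) (k : ℕ) (hk : k % 11 ≠ 0) : χ (x ^ k) = χ x := by
  have h4 : ∀ k : ℕ, χ (x ^ (4 * k)) = χ (x ^ k) := by
    intro k
    rw [pow_mul, ← hdx, conj_pow, hχ]
  have hm : ∀ k : ℕ, x ^ k = x ^ (k % 11) := by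
    intro k
    conv_lhs => rw [← Nat.div_add_mod k 11, pow_add, pow_mul, hx11, one_pow, one_mul]
  have e1 : χ (x ^ 1) = χ x := by rw [pow_one]
  have e10 : χ (x ^ 10) = χ x := by
    have h1 : x ^ 10 = x⁻¹ := eq_inv_of_mul_eq_one_left (by rw [← pow_succ]; exact hx11)
    rw [h1, hx]
  have st : ∀ a b : ℕ, (4 * a) % 11 = b → χ (x ^ a) = χ x → χ (x ^ b) = χ x := by
    intro a b hab h1
    rw [← hab, ← hm, h4, h1]
  have e4 := st 1 4 (by norm_num) e1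
  have e5 := st 4 5 (by norm_num) e4
  have e9 := st 5 9 (by norm_num) e5
  have e3 := st 9 3 (by norm_num) e9
  have e7 := st 10 7 (by norm_num) e10
  have e6 := st 7 6 (by norm_num) e7
  have e2 := st 6 2 (by norm_num) e6
  have e8 := st 2 8 (by norm_num) e2
  rw [hm]
  have hlt : k % 11 < 11 := Nat.mod_lt _ (by norm_num)
  generalize k % 11 = n at *
  interval_cases n
  · exact absurd rfl hk
  · exact e1
  · exact e2
  · exact e3
  · exact e4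
  · exact e5
  · exact e6
  · exact e7
  · exact e8
  · exact e9
  · exact e10

/-- class functions real on an element of order 11 are real -/
theorem real_fun {α : Type*} (χ : H → α) (hχ : ∀ g m : H, χ (m * g * m⁻¹) = χ g)
    (hx : χ (ev vH [5])⁻¹ = χ (ev vH [5])) (g : H) : χ g⁻¹ = χ g := by
  by_cases h11 : orderOf g = 11
  · have ho : orderOf (ev vH [5]) = 11 := by
      have : Fact (Nat.Prime 11) := ⟨by norm_num⟩
      apply orderOf_eq_prime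
      · rw [ev_pow, ← ev_nil vH]
        exact sat_H.base (by decide +kernel)
      · intro h
        rw [ev_vH] at h
        exact wd_ne (l' := []) 1 (by norm_num) (by decide +kernel) h
    have : Fact (Nat.Prime 11) := ⟨by norm_num⟩
    obtain ⟨c, hc⟩ := conj_into (p := 11) (n := 1) (K := Subgroup.zpowers (ev vH [5])) (by
      rw [Nat.card_zpowers, ho, pow_one]) (by norm_num) (g := g) (j := 1) (by rw [h11, pow_one])
    have hx11 : (ev vH [5]) ^ 11 = 1 := by rw [← ho]; exact pow_orderOf_eq_one _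
    have hdx : ev vH [6] * ev vH [5] * (ev vH [6])⁻¹ = ev vH [5] ^ 4 := by
      have e2 : ev vH [6, 5] = ev vH [5, 5, 5, 5, 6] := sat_H.base (by decide +kernel)
      rw [mul_inv_eq_iff_eq_mul, ← ev_append, ev_pow, ← ev_append]
      exact e2
    have key : ∀ z : H, z ≠ 1 → z ∈ Subgroup.zpowers (ev vH [5]) → χ z = χ (ev vH [5]) := by
      intro z hz hzm
      obtain ⟨k, hk⟩ := (mem_powers_iff_mem_zpowers.2 hzm)
      have hk' : ev vH [5] ^ k = z := hk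
      rw [← hk']
      refine fun_pow hx11 hdx χ hχ hx k ?_
      intro h0
      apply hz
      rw [← hk']
      obtain ⟨m, rfl⟩ := Nat.dvd_of_mod_eq_zero h0
      rw [pow_mul, hx11, one_pow]
    have hg1 : g ≠ 1 := by
      rintro rfl
      rw [orderOf_one] at h11
      norm_num at h11
    have k1 := key (c * g * c⁻¹) (fun h => hg1 (by
      have : g = c⁻¹ * (c * g * c⁻¹) * c := by group
      rw [this, h]; group)) hc
    have k2 := key (c * g⁻¹ * c⁻¹) (fun h => hg1 (by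
      have : g = c⁻¹ * (c * g⁻¹ * c⁻¹)⁻¹ * c := by group
      rw [this, h]; group)) (by
      have e : c * g⁻¹ * c⁻¹ = (c * g * c⁻¹)⁻¹ := by group
      rw [e]
      exact inv_mem hc)
    rw [hχ] at k1 k2
    rw [k1, k2]
  · obtain ⟨c, hc⟩ := real_H g h11
    rw [← hc]
    have := hχ g c⁻¹
    rwa [inv_inv] at this

end Cfsg.Agent.H6.M11
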