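import Cfsg.Agent.H932.MtCov
import Cfsg.Agent.H6.M11.Real12

/-!
# Words in the double cover of the Mathieu group of degree 12 (helper6)

* `gG i` : lifts of the generators `y, p, q, r, s, b` of `CoThreeStd.MTwelve` to helper932's group `Γ`, `gG 6 = -1`;
* `GW` : value of a word, `GW_eq` : equality test, `sig_GW : sig (GW w) = wd w`;
* `vG` : the letters of the group of degree 11, `sat_G`.
-/

set_option autoImplicit false
set_option maxRecDepth 100000

namespace Cfsg.Agent.H6.M11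

open Cfsg Cfsg.Agent.CoThreeStd.MTwelve Cfsg.Agent.H932.Mt

/-- words of the lifts in helper932's generators -/
def wG : ℕ → List ℕ
  | 0 => [0, 1, 2, 2, 2, 2, 2, 1, 2, 1, 2, 1, 0, 1, 0]
  | 1 => [0, 0, 0, 1, 2, 1, 2, 1, 0, 0, 0, 1, 0, 0, 0, 0, 1]
  | 2 => [2, 1, 0, 1, 0, 0, 1, 2, 2, 2, 2, 2, 1, 0, 0, 0]
  | 3 => [1, 2, 1, 0, 0, 1, 0, 0, 0, 0, 0, 1, 0, 0, 0, 0]
  | 4 => [0, 1, 0, 0, 1, 0, 1, 0, 0, 0, 1, 0, 0, 0, 1, 0, 1, 2]
  | 5 => [0, 0, 1, 2, 2, 1, 2, 1, 0, 1, 0, 1, 0, 0, 0]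
  | _ => [0, 0, 0, 0, 0, 0, 0, 0, 0, 0, 0]

/-- lifts of the generators -/
def gG (i : ℕ) : Γ := el (wG i)

/-- value of a word -/
def GW (w : List ℕ) : Γ := (w.map gG).prod

theorem GW_nil : GW [] = 1 := rfl
theorem GW_cons (i : ℕ) (w : List ℕ) : GW (i :: w) = gG i * GW w := by simp [GW]
theorem GW_append (u w : List ℕ) : GW (u ++ w) = GW u * GW w := by simp [GW]

theorem gG_six : gG 6 = neg := rfl

theorem GW_six (w : List ℕ) : GW (6 :: w) = neg * GW w := by rw [GW_cons, gG_six]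

/-- packed tables of the signed permutations -/
def qS : ℕ → ℕ
  | 0 => 0x9c9cfb5d6aad109845ac214e600462
  | 1 => 0xad2d77b98d94e304256a10c2039885
  | 2 => 0x52c6284672004a4bd8e64258da55ee
  | 3 => 0xa56f673c859c8203986252e304258d
  | 4 => 0x52d28846726b1cfbda9510c2039885
  | 5 => 0x94d28bd98d10e30292950814b7b8c7
  | _ => 0xb5e9594e1173d8d52d0931c8510c01

/-- the action on the signed points -/
def aS : List ℕ → ℕ → ℕ
  | [], x => x
  | i :: l, x => (qS i >>> (5 * aS l x)) % 32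

theorem gG_apply (i : ℕ) (k : Fin 24) : ((gG i).1.1 k : ℕ) = (qS i >>> (5 * (k : ℕ))) % 32 := by
  have h : ∀ k : Fin 24, ∀ i : Fin 7, ((gG i.1).1.1 k : ℕ) = (qS i.1 >>> (5 * (k : ℕ))) % 32 := by decide +kernel
  rcases Nat.lt_or_ge i 6 with hi | hi
  · exact h k ⟨i, by omega⟩
  · obtain ⟨m, rfl⟩ := Nat.exists_eq_add_of_le hi
    have h6 : gG (6 + m) = gG 6 := by rw [Nat.add_comm]; rfl
    have h7 : qS (6 + m) = qS 6 := by rw [Nat.add_comm]; rfl
    rw [h6, h7]
    exact h k ⟨6, by omega⟩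

theorem GW_apply (w : List ℕ) (k : Fin 24) : ((GW w).1.1 k : ℕ) = aS w k := by
  induction w with
  | nil => rfl
  | cons i w ih =>
    rw [GW_cons]
    change ((gG i).1.1 ((GW w).1.1 k) : ℕ) = (qS i >>> (5 * aS w k)) % 32
    rw [gG_apply, ih]

/-- test for equality -/
def eqG (w w' : List ℕ) : Bool := allB (fun x => Nat.beq (aS w x) (aS w' x)) 24

theorem GW_eq {w w' : List ℕ} (h : eqG w w' = true) : GW w = GW w' := by
  apply gext
  apply Equiv.ext
  intro k
  apply Fin.ext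
  rw [GW_apply, GW_apply]
  exact Nat.eq_of_beq_eq_true (allB_spec _ 24 h k k.2)

theorem sig_gG (i : ℕ) : sig (gG i) = gen i := by
  rcases Nat.lt_or_ge i 6 with hi | hi
  · have h : ∀ i : Fin 6, ∀ p : GolayPt, (gG i.1).1.2 p = (gen i.1).1 p := by decide +kernel
    apply Subtype.ext
    apply Equiv.ext
    exact h ⟨i, hi⟩
  · obtain ⟨m, rfl⟩ := Nat.exists_eq_add_of_le hi
    have h6 : gG (6 + m) = gG 6 := by rw [Nat.add_comm]; rfl
    have h7 : gen (6 + m) = 1 := by rw [Nat.add_comm]; rfl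
    rw [h6, h7, gG_six, sig_neg]

theorem sig_GW (w : List ℕ) : sig (GW w) = wd w := by
  induction w with
  | nil => exact map_one _
  | cons i w ih => rw [GW_cons, map_mul, sig_gG, ih, wd_cons]

theorem eq_or_of_sig {a b : Γ} (h : sig a = sig b) : a = b ∨ a = neg * b := by
  have h1 : sig (a * b⁻¹) = 1 := by rw [map_mul, map_inv, h, mul_inv_cancel]
  rcases eq_of_sig h1 with h2 | h2
  · left; rwa [mul_inv_eq_one] at h2
  · right; rw [← h2, inv_mul_cancel_right]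

/-- lifts of the letters of the group of degree 11 -/
def WG : ℕ → List ℕ
  | 0 => [6, 5, 2, 3, 4, 5, 1, 0, 5]
  | 1 => [6, 0, 5, 2, 3, 1, 5, 1, 5, 3]
  | 2 => [6, 3, 4, 5, 1, 5, 4, 1]
  | 3 => [6, 2, 3, 1, 2]
  | 4 => [1, 5, 4, 5, 1, 5, 1, 2, 3, 0]
  | 5 => [6, 2, 5, 1, 2, 3, 4, 5]
  | 6 => [6, 4, 3, 5, 3, 4, 1]
  | 7 => [2, 5, 3, 1, 0, 5, 2, 1]
  | 8 => [6, 5, 1, 2, 3, 4, 2, 3, 2, 1, 5]
  | _ => []

/-- the letters in the double cover -/
def vG (i : ℕ) : Γ := GW (WG i)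

theorem ev_vG (w : List ℕ) : ev vG w = GW (w.flatMap WG) := by
  induction w with
  | nil => rfl
  | cons i w ih => rw [ev_cons, ih, List.flatMap_cons, GW_append]; rfl

theorem sat_G_sp0 : ((relL.take 120).all fun r => eqG (r.1.flatMap WG) (r.2.flatMap WG)) = true := by decide +kernel
theorem sat_G_sp1 : (((relL.drop 120).take 130).all fun r => eqG (r.1.flatMap WG) (r.2.flatMap WG)) = true := by
  decide +kernel
theorem sat_G_sp2 : (((relL.drop 120).drop 130).all fun r => eqG (r.1.flatMap WG) (r.2.flatMap WG)) = true := by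
  decide +kernel

theorem sat_G : Sat vG := by
  have h : (relL.all fun r => eqG (r.1.flatMap WG) (r.2.flatMap WG)) = true := by
    rw [← List.take_append_drop 120 relL, List.all_append, sat_G_sp0, Bool.true_and,
      ← List.take_append_drop 130 (relL.drop 120), List.all_append, sat_G_sp1, Bool.true_and, sat_G_sp2]
  intro r hr
  rw [ev_vG, ev_vG]
  exact GW_eq (List.all_eq_true.1 h r hr)

theorem vG_zero_ne : vG 0 ≠ 1 := by
  intro h
  have h1 : sig (vG 0) = 1 := by rw [h, map_one]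
  rw [vG, sig_GW] at h1
  exact wd_ne (l := WG 0) (l' := []) 1 (by norm_num) (by decide +kernel) h1

end Cfsg.Agent.H6.M11
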