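import Cfsg.Agent.H6.M11.GamTypes

/-!
# Class functions on the double cover of the Mathieu group of degree 12 (helper6)
-/

set_option autoImplicit false
set_option maxRecDepth 100000

namespace Cfsg.Agent.H6.M11

open Cfsg Cfsg.Agent.H932.Mt

theorem neg_neg : neg * neg = 1 := neg_mul_neg'

theorem isConj_neg {a b : Γ} (h : IsConj a b) : IsConj (neg * a) (neg * b) := by
  obtain ⟨c, hc⟩ := isConj_iff.1 h
  rw [isConj_iff]
  refine ⟨c, ?_⟩
  rw [← mul_assoc, ← neg_comm c, mul_assoc neg, mul_assoc neg, hc]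

theorem isConj_pow' {G : Type*} [Group G] {a b : G} (h : IsConj a b) (n : ℕ) : IsConj (a ^ n) (b ^ n) := by
  obtain ⟨c, hc⟩ := isConj_iff.1 h
  rw [isConj_iff]
  exact ⟨c, by rw [← hc, conj_pow]⟩

theorem isConj_inv' {G : Type*} [Group G] {a b : G} (h : IsConj a b) : IsConj a⁻¹ b⁻¹ := by
  obtain ⟨c, hc⟩ := isConj_iff.1 h
  rw [isConj_iff]
  exact ⟨c, by rw [← hc]; group⟩

theorem neg_mul_pow (g : Γ) {n : ℕ} (hn : n % 2 = 1) : (neg * g) ^ n = neg * g ^ n := by
  have hc : Commute neg g := neg_comm g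
  rw [hc.mul_pow]
  congr 1
  obtain ⟨m, rfl⟩ : ∃ m, n = 2 * m + 1 := ⟨n / 2, by omega⟩
  rw [pow_succ, pow_mul, pow_two, neg_neg, one_pow, one_mul]

theorem neg_inv : (neg : Γ)⁻¹ = neg := inv_eq_of_mul_eq_one_left neg_neg

theorem neg_mul_inv (g : Γ) : (neg * g)⁻¹ = neg * g⁻¹ := by
  rw [mul_inv_rev, neg_inv, neg_comm]

theorem dvd_orderOf_neg {p : ℕ} (hp : p.Prime) (h2 : p ≠ 2) {g : Γ} (h : p ∣ orderOf (neg * g)) : p ∣ orderOf g := by
  have h1 : (neg * g) ^ (2 * orderOf g) = 1 := by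
    have hc : Commute neg g := neg_comm g
    rw [hc.mul_pow, pow_mul, pow_two, neg_neg, one_pow, one_mul, mul_comm, pow_mul, pow_orderOf_eq_one, one_pow]
  have h3 := h.trans (orderOf_dvd_of_pow_eq_one h1)
  rcases (Nat.Prime.dvd_mul hp).1 h3 with h4 | h4
  · exact absurd ((Nat.prime_dvd_prime_iff_eq hp Nat.prime_two).1 h4) h2
  · exact h4

theorem isConj_orderOf {G : Type*} [Group G] {a b : G} (h : IsConj a b) : orderOf a = orderOf b := by
  obtain ⟨c, hc⟩ := isConj_iff.1 h
  rw [← hc]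
  exact (orderOf_injective (MulAut.conj c).toMonoidHom (MulAut.conj c).injective a).symm

theorem g20_pow : g20 ^ 10 = neg := by
  have h1 : GW (w20 ++ (w20 ++ (w20 ++ (w20 ++ (w20 ++ (w20 ++ (w20 ++ (w20 ++ (w20 ++ w20))))))))) = GW [6] :=
    GW_eq (by decide +kernel)
  simp only [GW_append] at h1
  have h2 : GW [6] = neg := by rw [GW_six, GW_nil, mul_one]
  rw [← h2, ← h1, g20]
  simp only [pow_succ, pow_zero, one_mul, mul_assoc]

theorem g20_cube : IsConj (g20 ^ 3) g20 := by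
  have h1 : GW ([3, 1, 2] ++ (w20 ++ (w20 ++ w20))) = GW (w20 ++ [3, 1, 2]) := GW_eq (by decide +kernel)
  rw [GW_append, GW_append, GW_append, GW_append] at h1
  rw [isConj_iff]
  refine ⟨GW [3, 1, 2], ?_⟩
  rw [mul_inv_eq_iff_eq_mul, g20, ← h1]
  simp only [pow_succ, pow_zero, one_mul, mul_assoc]

theorem g20_pow' : g20 ^ 20 = 1 := by
  rw [show 20 = 10 * 2 from rfl, pow_mul, g20_pow, pow_two, neg_neg]

section

variable {F : Type*} [Field F] {χ θ : Γ → F} {p : ℕ}

/-- class functions on the powers of an element of order 20 -/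
theorem fun_pow20 {G : Type*} [Group G] {g z : G} (hz : g ^ 10 = z) (hz2 : z * z = 1) (hcube : IsConj (g ^ 3) g)
    {χ : G → F} (hχ : ∀ a b, IsConj a b → χ a = χ b) (hn : ∀ g, χ (z * g) = - χ g) (h0 : χ g = 0) {j : ℕ}
    (hj : j.Coprime 20) : χ (g ^ j) = 0 := by
  have h20 : g ^ 20 = 1 := by rw [show 20 = 10 * 2 from rfl, pow_mul, hz, pow_two, hz2]
  have h3 : ∀ a, χ (g ^ (3 * a)) = χ (g ^ a) := by
    intro a
    rw [pow_mul]
    exact hχ _ _ (isConj_pow' hcube a)
  have hm : ∀ a, g ^ a = g ^ (a % 20) := by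
    intro a
    conv_lhs => rw [← Nat.div_add_mod a 20, pow_add, pow_mul, h20, one_pow, one_mul]
  have h10 : ∀ a, χ (g ^ (10 + a)) = - χ (g ^ a) := by
    intro a
    rw [pow_add, hz, hn]
  have e1 : χ (g ^ 1) = 0 := by rw [pow_one]; exact h0
  have e3 : χ (g ^ 3) = 0 := by rw [show 3 = 3 * 1 from rfl, h3]; exact e1
  have e9 : χ (g ^ 9) = 0 := by rw [show 9 = 3 * 3 from rfl, h3]; exact e3
  have e7 : χ (g ^ 7) = 0 := by
    have h4 : χ (g ^ 27) = 0 := by rw [show 27 = 3 * 9 from rfl, h3]; exact e9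
    rw [hm 27] at h4
    exact h4
  have e11 : χ (g ^ 11) = 0 := by rw [show 11 = 10 + 1 from rfl, h10, e1, neg_zero]
  have e13 : χ (g ^ 13) = 0 := by rw [show 13 = 10 + 3 from rfl, h10, e3, neg_zero]
  have e17 : χ (g ^ 17) = 0 := by rw [show 17 = 10 + 7 from rfl, h10, e7, neg_zero]
  have e19 : χ (g ^ 19) = 0 := by rw [show 19 = 10 + 9 from rfl, h10, e9, neg_zero]
  rw [hm]
  have hlt : j % 20 < 20 := Nat.mod_lt _ (by norm_num)
  have hc : (j % 20).gcd 20 = 1 := by
    rw [← Nat.gcd_rec]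
    exact hj.symm
  have hcase : j % 20 = 1 ∨ j % 20 = 3 ∨ j % 20 = 7 ∨ j % 20 = 9 ∨ j % 20 = 11 ∨ j % 20 = 13 ∨ j % 20 = 17 ∨
      j % 20 = 19 := by
    revert hc hlt
    generalize j % 20 = n
    intro hlt hc
    interval_cases n <;> first | omega | (exfalso; revert hc; decide)
  rcases hcase with h | h | h | h | h | h | h | h <;> rw [h] <;> assumption

/-- traces on the powers of the element of order 20 -/
theorem fun_g20 (hχ : ∀ a b, IsConj a b → χ a = χ b) (hn : ∀ g, χ (neg * g) = - χ g) (h0 : χ g20 = 0) {j : ℕ}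
    (hj : j.Coprime 20) : χ (g20 ^ j) = 0 := fun_pow20 g20_pow neg_neg g20_cube hχ hn h0 hj

/-- **the class function is determined up to conjugation** -/
theorem fun_types (hp : p.Prime) (hp5 : 5 ≤ p) (hχ : ∀ a b, IsConj a b → χ a = χ b)
    (hn : ∀ g, χ (neg * g) = - χ g) (h2 : (2 : F) ≠ 0) (hx : χ (ev vG [5])⁻¹ = χ (ev vG [5]))
    (h20 : p ≠ 5 → χ g20 = 0)
    (hθ : ((p % 8 = 1 ∨ p % 8 = 3) ∧ θ = χ) ∨ ((p % 8 = 5 ∨ p % 8 = 7) ∧ θ = fun g => χ g⁻¹)) (g : Γ)
    (hreg : ¬ p ∣ orderOf g) : χ (g ^ p) = θ g := by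
  have hodd : p % 2 = 1 := by
    rcases hp.eq_two_or_odd with h | h
    · omega
    · exact h
  have hθc : ∀ a b, IsConj a b → θ a = θ b := by
    intro a b h
    rcases hθ with ⟨-, rfl⟩ | ⟨-, rfl⟩
    · exact hχ a b h
    · exact hχ _ _ (isConj_inv' h)
  have hθn : ∀ g, θ (neg * g) = - θ g := by
    intro g
    rcases hθ with ⟨-, rfl⟩ | ⟨-, rfl⟩
    · exact hn g
    · show χ (neg * g)⁻¹ = - χ g⁻¹
      rw [neg_mul_inv, hn]
  have hθr : ∀ g, χ g⁻¹ = χ g → θ g = χ g := by
    intro g h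
    rcases hθ with ⟨-, rfl⟩ | ⟨-, rfl⟩
    · rfl
    · exact h
  have hz : ∀ g, IsConj g (neg * g) → χ g = 0 := by
    intro g h
    have h1 := hχ _ _ h
    rw [hn] at h1
    have h3 : 2 * χ g = 0 := by linear_combination h1
    exact (mul_eq_zero.1 h3).resolve_left h2
  -- the statement
  let S : Γ → Prop := fun g => ¬ p ∣ orderOf g → χ (g ^ p) = θ g
  have hSconj : ∀ a b, IsConj a b → S a → S b := by
    intro a b hab ha hb
    rw [← isConj_orderOf hab] at hb
    rw [← hχ _ _ (isConj_pow' hab p), ← hθc _ _ hab]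
    exact ha hb
  have hSneg : ∀ a, S a → S (neg * a) := by
    intro a ha hb
    have h1 : ¬ p ∣ orderOf a := by
      intro h
      apply hb
      have h3 : a = neg * (neg * a) := by rw [← mul_assoc, neg_neg, one_mul]
      rw [h3] at h
      exact dvd_orderOf_neg hp (by omega) h
    rw [neg_mul_pow a hodd, hn, hθn, ha h1]
  have hSten : ∀ a : Γ, a ^ 10 = 1 → IsConj a (a ^ 3) → S a := by
    intro a h10 h3 hr
    have hm : ∀ n, a ^ n = a ^ (n % 10) := by
      intro n
      conv_lhs => rw [← Nat.div_add_mod n 10, pow_add, pow_mul, h10, one_pow, one_mul]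
    have e3 : χ (a ^ 3) = χ a := (hχ _ _ h3).symm
    have e9 : χ (a ^ 9) = χ a := by
      have h4 := hχ _ _ (isConj_pow' h3 3)
      rw [← pow_mul] at h4
      rw [← e3, h4]
    have e7 : χ (a ^ 7) = χ a := by
      have h4 := hχ _ _ (isConj_pow' h3 9)
      rw [← pow_mul, hm (3 * 9)] at h4
      rw [← e9, h4]
    have ei : a⁻¹ = a ^ 9 := by
      rw [inv_eq_iff_mul_eq_one, ← pow_succ']
      exact h10
    rw [hθr a (by rw [ei, e9])]
    by_cases hp5' : p = 5
    · subst hp5'
      have h4 : orderOf a ∣ 2 := by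
        have h5 : orderOf a ∣ 5 * 2 := orderOf_dvd_of_pow_eq_one h10
        exact ((Nat.Prime.coprime_iff_not_dvd Nat.prime_five).2 hr).symm.dvd_of_dvd_mul_left h5
      have h5 : a ^ 2 = 1 := orderOf_dvd_iff_pow_eq_one.1 h4
      rw [show 5 = 2 * 2 + 1 from rfl, pow_succ, pow_mul, h5, one_pow, one_mul]
    · rw [hm]
      have hlt : p % 10 < 10 := Nat.mod_lt _ (by norm_num)
      have h5 : p % 5 ≠ 0 := by
        intro h
        exact hp5' ((Nat.prime_dvd_prime_iff_eq Nat.prime_five hp).1 (Nat.dvd_of_mod_eq_zero h)).symm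
      have hcase : p % 10 = 1 ∨ p % 10 = 3 ∨ p % 10 = 7 ∨ p % 10 = 9 := by omega
      rcases hcase with h | h | h | h <;> rw [h]
      · rw [pow_one]
      · exact e3
      · exact e7
      · exact e9
  have hSg20 : S g20 := by
    intro hr
    have hp5' : p ≠ 5 := by
      rintro rfl
      apply hr
      -- 5 divides the order
      by_contra h5
      have h6 : (g20 ^ 4) ^ 5 = 1 := by rw [← pow_mul]; exact g20_pow'
      have h7 : orderOf (g20 ^ 4) ∣ 5 := orderOf_dvd_of_pow_eq_one h6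
      have h8 : orderOf (g20 ^ 4) ∣ orderOf g20 := orderOf_pow_dvd 4
      rcases (Nat.dvd_prime Nat.prime_five).1 h7 with h9 | h9
      · rw [orderOf_eq_one_iff] at h9
        have h10 : g20 ^ 10 = g20 ^ 2 := by
          rw [show 10 = 4 * 2 + 2 from rfl, pow_add, pow_mul, h9, one_pow, one_mul]
        have h11 : g20 ^ 4 = 1 := h9
        have h12 : GW (w20 ++ (w20 ++ (w20 ++ w20))) = 1 := by
          rw [← h11, g20]
          simp only [GW_append, pow_succ, pow_zero, one_mul, mul_assoc]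
        have h13 := congrArg (fun x : Γ => ((x.1.1 0 : Fin 24) : ℕ)) h12
        simp only [GW_apply] at h13
        revert h13
        decide +kernel
      · rw [h9] at h8
        exact h5 h8
    have h20' := h20 hp5'
    have hcop : p.Coprime 20 := by
      rw [Nat.Prime.coprime_iff_not_dvd hp]
      intro h
      have h1 : p ∣ 2 * 2 * 5 := h
      rcases (Nat.Prime.dvd_mul hp).1 h1 with h3 | h3
      · rcases (Nat.Prime.dvd_mul hp).1 h3 with h4 | h4 <;>
        · have := Nat.le_of_dvd (by norm_num) h4; omega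
      · exact hp5' ((Nat.prime_dvd_prime_iff_eq hp Nat.prime_five).1 h3)
    have hi : g20⁻¹ = g20 ^ 19 := by
      rw [inv_eq_iff_mul_eq_one, ← pow_succ']
      exact g20_pow'
    rw [fun_g20 hχ hn h20' hcop, hθr g20 (by rw [hi, fun_g20 hχ hn h20' (by norm_num), h20']), h20']
  have hSty : ∀ a, Ty a → S a := by
    intro a ha
    rcases ha with h | ⟨h6, h⟩ | ⟨h8, h3, -⟩ | ⟨h10, h3⟩ | h | h
    · intro _
      have h1 : χ (a ^ p) = 0 := hz _ (by
        have := isConj_pow' h p
        rwa [neg_mul_pow a hodd] at this)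
      have h3 : χ a = 0 := hz _ h
      have h4 : χ a⁻¹ = 0 := hz _ (by
        have := isConj_inv' h
        rwa [neg_mul_inv] at this)
      rw [h1, hθr a (by rw [h3, h4]), h3]
    · intro _
      have h1 : χ a⁻¹ = χ a := hχ _ _ h
      rw [hθr a h1]
      have hm : a ^ p = a ^ (p % 6) := by
        conv_lhs => rw [← Nat.div_add_mod p 6, pow_add, pow_mul, h6, one_pow, one_mul]
      have h3 : p % 3 ≠ 0 := by
        intro h
        have := (Nat.prime_dvd_prime_iff_eq Nat.prime_three hp).1 (Nat.dvd_of_mod_eq_zero h)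
        omega
      have hcase : p % 6 = 1 ∨ p % 6 = 5 := by omega
      rcases hcase with h | h
      · rw [hm, h, pow_one]
      · have ei : a⁻¹ = a ^ 5 := by
          rw [inv_eq_iff_mul_eq_one, ← pow_succ']
          exact h6
        rw [hm, h, ← ei, h1]
    · intro _
      have hm : a ^ p = a ^ (p % 8) := by
        conv_lhs => rw [← Nat.div_add_mod p 8, pow_add, pow_mul, h8, one_pow, one_mul]
      have ei : a⁻¹ = a ^ 7 := by
        rw [inv_eq_iff_mul_eq_one, ← pow_succ']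
        exact h8
      rw [hm]
      rcases hθ with ⟨h | h, rfl⟩ | ⟨h | h, rfl⟩ <;> rw [h]
      · rw [pow_one]
      · exact (hχ _ _ h3).symm
      · show χ (a ^ 5) = χ a⁻¹
        have h4 := hχ _ _ (isConj_inv' h3)
        have h5 : (a ^ 3)⁻¹ = a ^ 5 := by
          rw [inv_eq_iff_mul_eq_one, ← pow_add]
          exact h8
        rw [h4, h5]
      · show χ (a ^ 7) = χ a⁻¹
        rw [ei]
    · exact hSten a h10 h3
    · exact hSconj _ _ h.symm hSg20
    · exact hSconj _ _ h.symm (hSneg _ hSg20)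
  refine gam_induct S hSconj hSneg hSty ?_ ?_ g hreg
  · intro k
    have h5 : ev vG [6] ^ 5 = 1 := by
      rw [ev_pow, ← ev_nil vG]
      exact sat_G.base (by decide +kernel)
    have h1 : IsConj (ev vG [6]) (ev vG [6] ^ 3) := by
      have h3 := sat_G.cert (c := [3, 2, 1]) (a := [6, 6, 6]) (b := [6]) (by decide +kernel)
      rw [isConj_comm, isConj_iff]
      refine ⟨ev vG [3, 2, 1], ?_⟩
      rw [mul_inv_eq_iff_eq_mul, ev_pow]
      exact h3
    apply hSten
    · rw [← zpow_natCast, ← zpow_mul, mul_comm, zpow_mul, zpow_natCast, show 10 = 5 * 2 from rfl, pow_mul, h5, one_pow,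
        one_zpow]
    · obtain ⟨c, hc⟩ := isConj_iff.1 h1
      rw [isConj_iff]
      refine ⟨c, ?_⟩
      rw [← conj_zpow, hc, ← zpow_natCast, ← zpow_natCast, ← zpow_mul, ← zpow_mul, mul_comm]
  · intro k hr
    have hx11 : (ev vG [5]) ^ 11 = 1 := by
      rw [ev_pow, ← ev_nil vG]
      exact sat_G.base (by decide +kernel)
    have hdx : ev vG [6] * ev vG [5] * (ev vG [6])⁻¹ = ev vG [5] ^ 4 := by
      have e2 : ev vG [6, 5] = ev vG [5, 5, 5, 5, 6] := sat_G.base (by decide +kernel)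
      rw [mul_inv_eq_iff_eq_mul, ← ev_append, ev_pow, ← ev_append]
      exact e2
    have hfun := fun_pow hx11 hdx χ (fun g m => (hχ _ _ (isConj_iff.2 ⟨m, rfl⟩)).symm) hx
    have hm : ∀ n : ℕ, ev vG [5] ^ n = ev vG [5] ^ (n % 11) := by
      intro n
      conv_lhs => rw [← Nat.div_add_mod n 11, pow_add, pow_mul, hx11, one_pow, one_mul]
    obtain ⟨n, hn'⟩ : ∃ n : ℕ, ev vG [5] ^ n = ev vG [5] ^ k := by
      have h1 : ev vG [5] ^ k ∈ Subgroup.zpowers (ev vG [5]) := ⟨k, rfl⟩
      have hfin : IsOfFinOrder (ev vG [5]) := isOfFinOrder_iff_pow_eq_one.2 ⟨11, by norm_num, hx11⟩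
      exact hfin.mem_powers_iff_mem_zpowers.2 h1
    rw [← hn'] at hr ⊢
    by_cases h0 : n % 11 = 0
    · have h1 : ev vG [5] ^ n = 1 := by rw [hm, h0, pow_zero]
      rw [h1, one_pow, hθr 1 (by rw [inv_one])]
    · have hinv : (ev vG [5] ^ n)⁻¹ = ev vG [5] ^ (n * 10) := by
        rw [inv_eq_iff_mul_eq_one, ← pow_add, show n + n * 10 = 11 * n by ring, pow_mul, hx11, one_pow]
      have hne : (n * 10) % 11 ≠ 0 := by omega
      rw [hθr _ (by rw [hinv, hfun _ hne, hfun _ h0]), hfun _ h0, ← pow_mul]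
      by_cases hp11 : p = 11
      · exfalso
        subst hp11
        apply hr
        have h11 : (ev vG [5] ^ n) ^ 11 = 1 := by rw [← pow_mul, mul_comm, pow_mul, hx11, one_pow]
        rcases (Nat.dvd_prime hp).1 (orderOf_dvd_of_pow_eq_one h11) with h1 | h1
        · exfalso
          rw [orderOf_eq_one_iff] at h1
          have hox : orderOf (ev vG [5]) = 11 := by
            have : Fact (Nat.Prime 11) := ⟨hp⟩
            apply orderOf_eq_prime hx11
            intro h
            rw [ev_vG] at h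
            have h13 := congrArg (fun x : Γ => ((x.1.1 2 : Fin 24) : ℕ)) h
            simp only [GW_apply] at h13
            revert h13
            decide +kernel
          have h3 := orderOf_dvd_of_pow_eq_one h1
          rw [hox] at h3
          exact h0 (Nat.mod_eq_zero_of_dvd h3)
        · rw [h1]
      · apply hfun
        intro h
        rcases (Nat.Prime.dvd_mul (by norm_num : Nat.Prime 11)).1 (Nat.dvd_of_mod_eq_zero h) with h1 | h1
        · exact h0 (Nat.mod_eq_zero_of_dvd h1)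
        · exact hp11 ((Nat.prime_dvd_prime_iff_eq (by norm_num) hp).1 h1).symm

end

end Cfsg.Agent.H6.M11
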