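import Cfsg.Agent.H6.M11.Gam

/-!
# Types of the elements of the double cover of the Mathieu group of degree 12 (helper6)

Generated lists: `(w, t, c, c')`, `w` a word, `t` the type, `c, c'` conjugating words.
Types: 0 : `g ~ -g`; 1 : `g^6 = 1, g ~ g⁻¹`; 2 : `g^8 = 1, g ~ g³, g⁻¹ ~ -g`; 3 : `g^10 = 1, g ~ g³`; 4 : `g ~ ± g20`.
-/

set_option autoImplicit false
set_option maxRecDepth 100000

namespace Cfsg.Agent.H6.M11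

open Cfsg Cfsg.Agent.CoThreeStd.MTwelve Cfsg.Agent.H932.Mt

/-- the centralizer of `p r` -/
def LV : List (List ℕ × ℕ × List ℕ × List ℕ) := [
  ([], 1, [], []), ([1,5,3,4,3,1,0,5,2,1], 0, [1,2,1,0], []),
  ([1,2,5,3,4,3,1,0,5,1], 0, [1,2,1,0], []), ([2,3,1,2], 1, [], []),
  ([0,5,4,2,5,3,1,0], 1, [], []), ([2,5,2,3,4,5,1,0,5,2], 1, [1,5,4,2,5,1], []),
  ([3,4,2,5,3,2,5,1,5,0], 1, [1,5,4,2,5,1], []), ([3,0,5,4,2,5], 0, [5,4,0,5], []),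
  ([4,3,5,1,5,2,1,0,5,2], 1, [1,5,4,2,5,1], []), ([4,5,4,1,2,1,5,4,1], 0, [1,2,3,1,2], []),
  ([5,4,1,5,1,5,0,5,4,2], 1, [], []), ([5,1,2,5,4,3,5,1,5,0], 1, [5,4,1,5], []),
  ([5,1,5,2,3,5,4,2,3,1], 1, [1,5,4,2,5,1], []), ([4,1,5,4,1,2,1,5,4], 0, [1,2,3,1,2], []),
  ([5,1,2,3,4,5,4,0,5,2], 1, [], []), ([4,5,1,2,0,5,3,4,5,2], 1, [0,5,4,2,5,0], []),
  ([5,4,2,5,3,0], 0, [5,4,0,5], []), ([2,5,4,3,5,2,1,0,5,4], 1, [0,5,4,2,5,0], []),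
  ([5,2,3,4,1,0,5,2,3,0], 1, [5,4,1,5], []), ([1,5,4,2,5,1], 1, [], []),
  ([4,2,5,3,1,0,5,4,2,1], 1, [], []), ([2,5,3,4,3,1,0,5,0], 1, [], []),
  ([4,2,1,5,3,1,0,5,4,1], 1, [], []), ([5,4,0,5,1,0,5,4,0,5,1,0], 1, [], []),
  ([4,5,3,1,0,5,4,3,2,1], 1, [], []), ([0], 0, [1], []),
  ([2,3,1,2,0], 0, [1,2,1], []), ([4,5,3,1,0,5,4,1,2,3], 1, [], []),
  ([5,1,5,0,5,1,2,5,4,3], 1, [0,5,4,2,5,0], []), ([4,0,5,4,1,2,1,5,4,1], 2, [4,5,4,1,2,1,5,4], [1,0]),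
  ([5,0,5,1,5,3,1,5,3,4], 2, [1,2,3,1,2,0], [0]), ([3,2,5,4,3,1,2,0,5], 1, [1,5,4,2,5,1], []),
  ([5,4,2,5,3,1,0], 2, [1,2,3,1,2], [0]), ([4,5,0,5,2,1,5,0,5,3], 1, [5,4,2,5], []),
  ([4,2,5,3,2,5,1,5,1,0], 1, [5,4,2,5], []), ([3,5,4,2,5], 2, [0,5,4,2,5,0], [1]),
  ([0,5,4,2,5,3,0], 2, [5,4,2,5], [1]), ([5,1,5,3,4,1,2,5,3,2], 1, [5,2,3,1,2,5], []),
  ([5,1,5,3,4,5,2,1,5], 1, [1,0,5,4,2,5,1,0], []), ([1,0,5,4,2,5,1], 2, [5,4,2,5], [0]),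
  ([5,1,5,2,3,5,4,2,3], 1, [0,5,4,2,5,0], []), ([5,4,5,1,2,5,0,5,4,2], 2, [3,4,5,4,1,2,1,5,4,1], [1,0]),
  ([5,4,1,5,4,2,3,2,0,5], 2, [1,2,3,1,2,0], [0]), ([5,3,4,1,2,5,4,5,3,2], 1, [1,5,4,2,5,1], []),
  ([5,3,4,3,1,0,5,2], 0, [2,0], []), ([5,4,2,5,0,5,4,2,5,1,0], 0, [1], []),
  ([5,2,0,5,3,1,5,2,0,5,0], 0, [1,0], []), ([2,5,3,4,3,1,0,5,3,1], 0, [2], []),
  ([5,2,1,5,0,5,1,5,3,4], 1, [0,5,4,2,5,0], []), ([3,0,5,4,2,5,0], 2, [5,4,2,5], [1]),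
  ([0,5,4,2,5,3,1], 2, [1,2,3,1,2], [0]), ([3,4,2,5,3,2,5,1,5], 1, [0,5,4,2,5,0], []),
  ([4,1,5,4,1,2,1,5,4,1], 1, [], []), ([3,5,1,5,0,5,1,2,5,4], 1, [1,0,5,4,2,5,1,0], []),
  ([2,5,4,3,1,2,0,5,1], 1, [5,4,2,5], []), ([2,1,5,0,5,2,3,1,5,4], 0, [1,2,3,1,2], []),
  ([1], 0, [0], []), ([5,3,4,3,1,0,5,2,1], 2, [1,2,3,1,2,0], [1,0]),
  ([1,2,3,1,2], 0, [0], []), ([2,5,3,4,3,1,0,5,1], 2, [1,2,3,1,2,0], [1,0]),
  ([4,2,5,3,1,0,5,4,2], 0, [2,3,1,2,0], []), ([4,5,3,1,0,5,4,3,2], 2, [1,2,3,1,2], [1]),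
  ([5,2,0,5,3,0,5,2,0,5,0], 0, [1,0], []), ([4,5,3,1,0,5,4,1,2], 2, [1,2,3,1,2], [1]),
  ([4,5,2,3,5,4,5,4,3,2], 1, [1,5,4,2,5,1], []), ([3,5,4,2,5,1,0], 2, [5,4,2,5], [0]),
  ([5,4,2,5,1], 2, [0,5,4,2,5,0], [1]), ([5,2,3,4,1,0,5,2,1], 1, [1,5,4,2,5,1], []),
  ([4,5,4,1,2,1,5,4], 1, [], []), ([3,5,1,5,2,3,5,4,2], 1, [1,0,5,4,2,5,1,0], []),
  ([5,3,4,2,5,4,1,5,1,2], 1, [5,4,2,5], []), ([3,4,0,5,4,1,2,1,5,4,0], 0, [1,2,3,1,2], []),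
  ([4,5,3,1,5,1,5,1,0,5], 2, [1,2,3,1,2,0], [0]), ([3,5,1,5,2,1,0,5,4,2], 1, [5,4,2,5], []),
  ([5,1,2,5,4,3,5,1,5], 1, [1,0,5,4,2,5,1,0], []), ([4,5,4,1,2,1,5,4,1,0], 2, [3,4,5,4,1,2,1,5,4,1], [1,0]),
  ([4,5,2,1,5,0,5,1,5,3], 1, [1,0,5,4,2,5,1,0], []), ([3,5,4,2,5,0], 0, [0,5,2,0,5,3], []),
  ([5,4,2,5,3,1], 1, [], []), ([4,2,5,3,2,5,1,5,1], 1, [2,5,3,1,5,2], []),
  ([2,3,4,5,3,1,0,5,4], 2, [1,2,3,1,2], [1]), ([1,0], 0, [0], []),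
  ([5,3,4,3,1,0,5,2,1,0], 2, [1,2,3,1,2], [1]), ([1,2,3,1,2,0], 0, [0], []),
  ([1,5,3,4,3,1,0,5,2], 2, [1,2,3,1,2,0], [1,0]), ([5,4,2,5,0,5,4,2,5,0], 0, [1], []),
  ([3,2,5,3,4,3,1,0,5], 2, [1,2,3,1,2,0], [1,0]), ([5,4,0,5,1,0,5,4,0,5], 0, [5,2,0,5], []),
  ([4,0,5,4,1,2,1,5,4], 2, [1,2,3,1,2,0], [0]), ([5,1,5,2,3,5,4,2,0], 1, [5,4,2,5], []),
  ([2,3,1,5,4,3,1,2,0,5], 1, [1,0,5,4,2,5,1,0], []), ([3,4,5,4,1,2,1,5,4,0], 2, [4,5,4,1,2,1,5,4], [1,0]),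
  ([2,1,5,4,1,5,4,2,3,5], 1, [5,4,2,5], []), ([3,0,5,4,2,5,1,0], 1, [], []),
  ([0,5,4,2,5,1], 0, [0,5,2,0,5,0], []), ([5,2,3,4,1,0,5,2,0], 1, [5,4,2,5], []),
  ([4,1,5,4,1,2,1,5,4,0], 2, [4,5,4,1,2,1,5,4], [1,0]), ([2,3,5,4,2,3,1,5,1,5], 1, [5,2,3,1,2,5], []),
  ([1,5,1,5,2,3,5,4,2,1], 1, [5,4,2,5], []), ([5,2,3,4,2,0,5,4,1,5], 2, [1,2,3,1,2,0], [0]),
  ([1,5,2,3,4,1,0,5,2], 1, [5,4,2,5], []), ([0,5,4,2,5,3], 0, [0,5,2,0,5,3], []),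
  ([1,0,5,4,2,5,1,0], 1, [], []), ([4,5,3,2,1,5,4,0,5,4], 1, [5,4,2,5], []),
  ([1,2,5,3,4,3,1,0,5], 2, [1,2,3,1,2,0], [1,0]), ([5,2,0,5,3,0,5,2,0,5], 0, [5,1,5], []),
  ([3,5,3,4,3,1,0,5,2], 2, [1,2,3,1,2,0], [1,0]), ([4,2,5,3,1,0,5,4,2,0], 0, [1], []),
  ([4,2,1,5,3,1,0,5,4], 2, [1,2,3,1,2], [1]), ([2,3,1,2,1,0], 0, [0], []),
  ([2,5,3,4,3,1,0,5,3,0], 2, [1,2,3,1,2], [1]), ([3,0], 0, [0], []),
  ([4,5,4,1,2,1,5,4,3,0], 2, [3,4,5,4,1,2,1,5,4,1], [1,0]), ([2,5,4,3,1,2,0,5], 1, [1,5,4,1,5,1], []),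
  ([5,1,5,0,5,1,2,5,4,0], 1, [5,4,2,5], []), ([3,4,0,5,4,1,2,1,5,4,1], 2, [1,2,3,1,2,0], [0]),
  ([4,2,5,3,2,5,1,5,3], 1, [1,0,5,4,2,5,1,0], []), ([5,4,2,5], 1, [], []),
  ([1,5,4,2,5,0], 0, [0,5,2,0,5,0], []), ([4,5,2,1,5,0,5,1,5,1], 1, [1,0,5,4,2,5,1,0], []),
  ([5,2,3,4,1,0,5,2,3], 1, [1,5,4,2,5,1], []), ([5,4,2,5,3], 2, [0,5,4,2,5,0], [1]),
  ([1,5,4,2,5,1,0], 2, [5,4,2,5], [0]), ([2,3,5,4,5,4,2,3,1,5], 1, [1,5,4,2,5,1], []),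
  ([4,5,3,1,2,5,0,5,1,2], 0, [1,2,3,1,2], []), ([4,5,4,0,5,1,2,3,5,4], 1, [5,4,2,5], []),
  ([1,5,1,5,2,3,5,4,2], 1, [2,5,3,1,5,2], []), ([4,5,4,1,2,1,5,4,3,1], 1, [], []),
  ([5,4,0,5,1,0,5,4,0,5,0], 0, [1,0], []), ([1,5,3,4,3,1,0,5,2,0], 2, [1,2,3,1,2], [1]),
  ([5,4,2,5,0,5,4,2,5], 0, [2,3,1,2,0], []), ([3,2,5,3,4,3,1,0,5,0], 2, [1,2,3,1,2], [1]),
  ([2,3,1,2,1], 0, [0], []), ([2,5,3,4,3,1,0,5,3], 2, [1,2,3,1,2,0], [1,0]),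
  ([3], 0, [0], []), ([5,3,4,3,1,0,5,2,3], 2, [1,2,3,1,2,0], [1,0]),
  ([4,2,5,3,2,5,1,5,0], 1, [0,5,4,2,5,0], []), ([0,5,4,2,5], 2, [1,2,3,1,2], [0]),
  ([1,0,5,4,2,5,0], 2, [5,4,2,5], [1]), ([4,5,0,5,2,1,5,0,5], 1, [0,5,4,2,5,0], []),
  ([4,0,5,4,1,2,1,5,4,3,0], 0, [1,2,3,1,2], []), ([2,5,4,3,1,2,0,5,3], 1, [5,4,2,5], []),
  ([5,1,5,2,1,0,5,4,2,0], 1, [1,0,5,4,2,5,1,0], []), ([3,4,5,4,1,2,1,5,4,1], 1, [], []),
  ([5,2,0,5,3,1,5,2,0,5], 1, [], []), ([5,3,4,3,1,0,5,2,0], 1, [], []),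
  ([3,4,5,3,1,0,5,4,3,2], 1, [], []), ([5,4,2,5,0,5,4,2,5,1], 1, [], []),
  ([3,5,4,2,5,1], 1, [], []), ([0,5,2,3,4,1,0,5,2], 1, [0,5,4,2,5,0], []),
  ([2,3,4,1,5,3,2,5,1,5], 1, [0,5,4,2,5,0], []), ([5,4,2,5,1,0], 0, [5,2,0,5], []),
  ([5,1,5,2,3,5,4,3,1,2], 1, [0,5,4,2,5,0], []), ([4,0,5,4,1,2,1,5,4,0], 1, [], []),
  ([3,4,5,4,1,2,1,5,4], 0, [1,2,3,1,2], []), ([5,1,5,2,3,5,4,2], 1, [1,5,4,2,5,1], []),
  ([2,5,4,3,1,2,0,5,0], 1, [0,5,4,2,5,0], []), ([4,5,3,1,2,5,0,5,1,2,3], 1, [], []),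
  ([4,5,4,1,2,1,5,4,3], 0, [1,2,3,1,2], []), ([5,1,5,0,5,1,2,5,4], 1, [1,5,4,2,5,1], []),
  ([1,0,5,4,2,5], 0, [5,2,0,5], []), ([4,2,5,3,2,5,1,5], 1, [1,5,4,2,5,1], []),
  ([4,5,2,1,5,0,5,1,5], 1, [1,5,4,2,5,1], []), ([0,5,4,2,5,0], 1, [], []),
  ([1,2,3,1,2,1], 1, [], []), ([3,2,5,3,4,3,1,0,5,1], 0, [1,2,1], []),
  ([3,5,3,4,3,1,0,5,2,1], 0, [1,2,1], []), ([3,1], 1, [], []),
  ([2,5,3,4,3,1,0,5], 0, [2,0], []), ([5,4,0,5,1,0,5,4,0,5,1], 0, [1,0], []),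
  ([4,2,5,3,1,0,5,4,2,1,0], 0, [1], []), ([5,3,4,3,1,0,5,2,3,1], 0, [2], []),
  ([2,5,3,4,5,4,2,5,4,2], 1, [1,5,4,2,5,1], []), ([4,5,4,1,2,1,5,4,0], 2, [1,2,3,1,2,0], [0]),
  ([3,4,0,5,4,1,2,1,5,4], 2, [3,4,5,4,1,2,1,5,4,1], [1,0]), ([5,1,5,2,3,5,4,2,1], 1, [0,5,4,2,5,0], []),
  ([3,0,5,4,2,5,1], 2, [5,4,2,5], [0]), ([5,2,3,4,1,0,5,2], 1, [1,5,4,1,5,1], []),
  ([5,2,3,4,1,0,5,3,1,2], 1, [1,0,5,4,2,5,1,0], []), ([0,5,4,2,5,1,0], 2, [5,4,2,5], [1]),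
  ([1,5,4,2,5], 2, [0,5,4,2,5,0], [1]), ([4,2,0,5,3,2,5,1,5], 1, [5,4,2,5], []),
  ([4,5,0,5,2,1,5,0,5,1], 1, [5,4,2,5], []), ([5,4,2,5,0], 2, [1,2,3,1,2], [0]),
  ([1,2,5,4,3,1,2,0,5], 1, [1,5,4,2,5,1], []), ([3,4,5,4,1,2,1,5,4,1,0], 2, [1,2,3,1,2,0], [0]),
  ([4,0,5,4,1,2,1,5,4,3], 2, [4,5,4,1,2,1,5,4], [1,0]), ([5,1,5,2,1,0,5,4,2], 1, [0,5,4,2,5,0], []),
  ([4,5,3,1,0,5,4,1,2,1], 1, [], []), ([1,2,3,1,2,1,0], 0, [2], []),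
  ([3,1,0], 0, [1], []), ([4,5,3,1,0,5,4,2,3,2], 1, [], [])]

/-- the centralizer of `y` -/
def LY : List (List ℕ × ℕ × List ℕ × List ℕ) := [
  ([], 1, [], []), ([4,1], 1, [], []), ([2,3,4,1,2,3,1,2,1], 0, [0], []),
  ([1,2,3,4,1,2,3,1,2], 0, [0], []), ([1,2,3,4,1], 0, [0], []), ([2,3,4,2,3,2], 1, [], []),
  ([1,2,3], 0, [0], []), ([3,4,2,3,2,1], 3, [3,2,1], []), ([2,3,1,2], 1, [], []),
  ([3,4,3,1,2], 0, [0], []), ([4,3,1,2,1], 0, [0], []), ([2,3,4,1,2,1], 3, [3,2,1], []),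
  ([2,3,4,3,1], 0, [0], []), ([4,2,3], 0, [0], []), ([1,2,3,4,2,3], 3, [3,2,1], []),
  ([3,4,1,2,3,1], 1, [], []), ([4,1,2,3,1,2], 3, [3,2,1], []), ([3,4,2], 0, [0], []),
  ([1,2,3,4,3,1,2,1], 1, [], []), ([3,2,1], 0, [0], []), ([1,2,3,4,1,2,3,1,2,0], 0, [0], []),
  ([0], 0, [1], []), ([2,3,4,1,2,3,1,2,1,0], 0, [0], []), ([4,1,0], 0, [1], []),
  ([2,3,1,2,0], 0, [1,2,1], []), ([2,3,4,1,2,1,0], 4, [2,1], []), ([4,3,1,2,1,0], 0, [0], []),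
  ([3,4,3,1,2,0], 0, [0], []), ([4,1,2,3,1,2,0], 4, [4,2], []), ([3,2,1,0], 0, [0], []),
  ([3,4,2,0], 0, [0], []), ([1,2,3,4,3,1,2,1,0], 0, [2], []), ([2,3,4,3,1,0], 0, [0], []),
  ([3,4,1,2,3,1,0], 0, [3,4,3], []), ([4,2,3,0], 0, [0], []), ([1,2,3,4,2,3,0], 4, [3], []),
  ([1,2,3,4,1,0], 0, [0], []), ([2,3,4,2,3,2,0], 0, [3], []), ([3,4,2,3,2,1,0], 4, [3,4,1], []),
  ([1,2,3,0], 0, [0], []), ([1,2,3,4,1,2,3,1,2,1], 1, [], []), ([2,3,4,1,2,3,1,2], 1, [], []),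
  ([1], 0, [0], []), ([4], 0, [0], []), ([4,2,3,1,2], 0, [0], []),
  ([2,3,4,3,1,2,1], 0, [0], []), ([3,1,2,1], 1, [3], []), ([3,4,1,2], 3, [1,2,3,1,2], []),
  ([1,2,3,4,3,1], 1, [1,2,1], []), ([3,4,2,3,1], 0, [0], []), ([4,1,2,3], 3, [4,3,2], []),
  ([2,3,4,2,3], 0, [0], []), ([1,2,3,1,2], 0, [0], []), ([4,3,2,1], 3, [2,3,1], []),
  ([1,2,3,4,1,2,1], 0, [0], []), ([3,4,3,2], 1, [2], []), ([2,3,4,1], 3, [1,2,3], []),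
  ([3,4,1,2,3,2,1], 0, [0], []), ([1,2,3,4,2,3,2], 0, [0], []), ([2,3], 1, [2], []),
  ([4,0], 0, [0], []), ([1,2,3,4,1,2,3,1,2,1,0], 0, [2,3,2], []), ([1,0], 0, [0], []),
  ([2,3,4,1,2,3,1,2,0], 0, [1,2,3,2,1], []), ([1,2,3,4,3,1,0], 0, [2,3,2], []), ([2,3,4,2,3,0], 0, [0], []),
  ([4,1,2,3,0], 4, [4], []), ([3,4,2,3,1,0], 0, [0], []), ([2,3,4,1,0], 4, [1], []),
  ([2,3,0], 0, [1,2,3,4,3,2,1], []), ([3,4,1,2,3,2,1,0], 0, [0], []), ([1,2,3,4,2,3,2,0], 0, [0], []),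
  ([1,2,3,1,2,0], 0, [0], []), ([3,4,3,2,0], 0, [1,2,3,2,1], []), ([4,3,2,1,0], 4, [3,4,3,1], []),
  ([1,2,3,4,1,2,1,0], 0, [0], []), ([4,2,3,1,2,0], 0, [0], []), ([2,3,4,3,1,2,1,0], 0, [0], []),
  ([3,4,1,2,0], 4, [1,2], []), ([3,1,2,1,0], 0, [2,3,4,3,2], []), ([3,4,3,1,2,1,0], 0, [2,3,2], []),
  ([4,3,1,2,0], 4, [3,4,3], []), ([2,3,1,2,1,0], 0, [0], []), ([2,3,4,1,2,0], 0, [0], []),
  ([3,4,2,3,0], 0, [2,3,2], []), ([1,2,3,4,3,0], 0, [0], []), ([2,3,4,2,3,1,0], 4, [3,1], []),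
  ([4,1,2,3,1,0], 0, [0], []), ([2,3,4,3,2,0], 0, [0], []), ([4,2,3,2,1,0], 0, [0], []),
  ([1,2,3,2,0], 0, [3,4,3], []), ([1,2,3,4,2,1,0], 0, [2], []), ([3,0], 0, [0], []),
  ([2,3,4,1,2,3,2,1,0], 4, [2,3,4], []), ([3,4,1,0], 0, [0], []), ([1,2,3,4,1,2,3,2,0], 4, [3,2], []),
  ([4,2,0], 0, [2], []), ([1,2,3,4,2,3,1,2,1,0], 0, [0], []), ([3,4,1,2,3,1,2,0], 0, [0], []),
  ([2,1,0], 0, [4], []), ([3,4,2,3,2], 0, [0], []), ([1,2,3,4], 3, [2,3,1], []),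
  ([2,3,4,2,3,2,1], 0, [0], []), ([1,2,3,1], 1, [3], []), ([3,4,1,2,1], 0, [0], []),
  ([3,1,2], 0, [0], []), ([4,2,3,1,2,1], 3, [2,3,4], []), ([2,3,4,3,1,2], 1, [], []),
  ([1,2,3,4,2,3,1,2], 3, [1,2,3,1,2], []), ([2], 0, [0], []), ([3,4,1,2,3,1,2,1], 3, [1,2,3], []),
  ([4,2,1], 0, [0], []), ([2,3,2,1], 1, [1], []), ([2,3,4,2], 1, [4], []),
  ([4,1,2,3,2], 0, [0], []), ([1,2,3,4,3,2,1], 0, [0], []), ([2,3,4,1,2,3,1], 0, [0], []),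
  ([4,3], 1, [3], []), ([3,4,3,1], 1, [], []), ([1,2,3,4,1,2,3], 0, [0], []),
  ([3,4,3,1,2,1], 1, [1,2,1], []), ([2,3,4,1,2], 0, [0], []), ([2,3,1,2,1], 0, [0], []),
  ([4,3,1,2], 3, [1,2,3], []), ([3,4,2,3], 1, [], []), ([4,1,2,3,1], 0, [0], []),
  ([2,3,4,2,3,1], 3, [2,3,4], []), ([1,2,3,4,3], 0, [0], []), ([4,2], 1, [], []),
  ([1,2,3,4,2,3,1,2,1], 0, [0], []), ([2,1], 1, [1], []), ([3,4,1,2,3,1,2], 0, [0], []),
  ([3], 0, [0], []), ([2,3,4,1,2,3,2,1], 3, [1,2,3,1,2], []), ([1,2,3,4,1,2,3,2], 3, [4,3,2], []),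
  ([3,4,1], 0, [0], []), ([2,3,4,3,2], 0, [0], []), ([4,2,3,2,1], 0, [0], []),
  ([1,2,3,4,2,1], 1, [4], []), ([1,2,3,2], 1, [1], []), ([3,4,1,2,3], 0, [0], []),
  ([1,2,3,4,2,3,1], 0, [0], []), ([2,3,4,3], 1, [2], []), ([4,2,3,1], 3, [1,2,3,1,2], []),
  ([3,4,3,2,1], 0, [0], []), ([1,2,3,1,2,1], 1, [], []), ([4,3,2], 0, [0], []),
  ([1,2,3,4,1,2], 3, [2,3,4], []), ([4,1,2,3,2,1], 1, [4], []), ([1,2,3,4,3,2], 1, [1], []),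
  ([2,3,4,2,1], 0, [0], []), ([2,3,2], 0, [0], []), ([1,2,3,4,1,2,3,2,1], 0, [0], []),
  ([3,1], 1, [], []), ([3,4], 1, [3], []), ([2,3,4,1,2,3,2], 0, [0], []),
  ([2,3,4,2,3,1,2,1], 3, [4,3,2], []), ([4,1,2], 0, [0], []), ([3,4,2,3,1,2], 3, [2,3,1], []),
  ([1,2,1], 0, [0], []), ([3,4,2,1,0], 4, [1,2,1], []), ([4,1,2,3,1,2,1,0], 0, [0], []),
  ([1,2,3,4,3,1,2,0], 0, [0], []), ([3,2,0], 0, [1,2,3,4,3,2,1], []), ([3,4,1,2,3,2,0], 4, [3,4], []),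
  ([1,2,3,4,2,3,2,1,0], 0, [3], []), ([2,3,1,0], 0, [0], []), ([2,3,4,0], 0, [0], []),
  ([1,2,3,4,2,0], 0, [0], []), ([1,2,3,2,1,0], 0, [0], []), ([2,3,4,3,2,1,0], 0, [3], []),
  ([4,2,3,2,0], 0, [1,2,1], []), ([1,2,0], 0, [4], []), ([2,3,4,2,3,1,2,0], 0, [0], []),
  ([3,4,2,3,1,2,1,0], 0, [0], []), ([4,1,2,1,0], 0, [4], []), ([4,3,1,0], 0, [0], []),
  ([1,2,3,4,1,2,3,1,0], 4, [2,3], []), ([2,3,4,1,2,3,0], 4, [2,3,1], []), ([3,4,3,0], 0, [0], []),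
  ([3,4,1,2,3,0], 0, [0], []), ([4,2,3,1,0], 4, [4,1], []), ([1,2,3,4,2,3,1,0], 0, [0], []),
  ([2,3,4,3,0], 0, [1,2,3,2,1], []), ([3,4,3,2,1,0], 0, [0], []), ([1,2,3,4,1,2,0], 4, [2], []),
  ([1,2,3,1,2,1,0], 0, [2], []), ([4,3,2,0], 0, [0], []), ([1,2,3,4,1,2,3,2,1,0], 0, [0], []),
  ([3,1,0], 0, [1], []), ([2,3,4,1,2,3,2,0], 0, [0], []), ([3,4,0], 0, [1], []),
  ([2,3,4,2,3,1,2,1,0], 4, [2,3,2,1], []), ([4,1,2,0], 0, [0], []), ([1,2,1,0], 0, [0], []),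
  ([3,4,2,3,1,2,0], 4, [3,1,2], []), ([4,1,2,3,2,1,0], 0, [2], []), ([1,2,3,4,3,2,0], 0, [3], []),
  ([2,3,4,2,1,0], 0, [0], []), ([2,3,2,0], 0, [0], []), ([3,4,2,1], 3, [4,3,2], []),
  ([1,2,3,4,3,1,2], 0, [0], []), ([3,2], 1, [2], []), ([4,1,2,3,1,2,1], 0, [0], []),
  ([3,4,1,2,3,2], 3, [2,3,4], []), ([2,3,1], 0, [0], []), ([2,3,4], 0, [0], []),
  ([1,2,3,4,2,3,2,1], 1, [], []), ([4,3,1], 0, [0], []), ([1,2,3,4,1,2,3,1], 3, [1,2,3], []),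
  ([2,3,4,1,2,3], 3, [2,3,1], []), ([3,4,3], 0, [0], []), ([1,2,3,4,2], 0, [0], []),
  ([1,2,3,2,1], 0, [0], []), ([4,2,3,2], 1, [4], []), ([2,3,4,3,2,1], 1, [1], []),
  ([1,2], 1, [1], []), ([2,3,4,2,3,1,2], 0, [0], []), ([4,1,2,1], 1, [], []),
  ([3,4,2,3,1,2,1], 0, [0], []), ([3,4,2,3,2,0], 0, [0], []), ([1,2,3,4,0], 4, [], []),
  ([1,2,3,1,0], 0, [2,3,4,3,2], []), ([2,3,4,2,3,2,1,0], 0, [0], []), ([3,4,1,2,1,0], 0, [0], []),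
  ([3,1,2,0], 0, [0], []), ([2,3,4,3,1,2,0], 0, [1,2,1], []), ([4,2,3,1,2,1,0], 4, [4,2,1], []),
  ([1,2,3,4,2,3,1,2,0], 4, [2,3,2], []), ([2,0], 0, [0], []), ([4,2,1,0], 0, [0], []),
  ([3,4,1,2,3,1,2,1,0], 4, [2,3,4,2], []), ([2,3,4,1,2,3,1,0], 0, [0], []), ([4,3,0], 0, [1], []),
  ([3,4,3,1,0], 0, [1], []), ([1,2,3,4,1,2,3,0], 0, [0], []), ([2,3,2,1,0], 0, [3,4,3], []),
  ([2,3,4,2,0], 0, [1,2,1], []), ([4,1,2,3,2,0], 0, [0], []), ([1,2,3,4,3,2,1,0], 0, [0], [])]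

/-- the Sylow 3-subgroup, words in the two generators -/
def LT : List (List ℕ × ℕ × List ℕ × List ℕ) := [
  ([], 1, [], []), ([0,0,1,1], 1, [1,5,4,2,5,1], []), ([1,0], 1, [1,5,4,2,5,1], []),
  ([0,1,0], 1, [0,5,2,3,1], []), ([0], 1, [2], []), ([1,1], 1, [4,1,0], []),
  ([1,0,1], 1, [0,5,2,3,1], []), ([0,1,0,0], 1, [1,5,2,0,5,0], []), ([0,1,0,1,1], 1, [4,3,5,3,4], []),
  ([0,0,1,1,0,1], 1, [0,5,4,5,1,5], []), ([0,1,1,0], 1, [5,2,3,1,2,5], []), ([0,1], 1, [2,5,4,2,5,2], []),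
  ([1,1,0], 1, [1,2,1,5,3,2,0], []), ([1], 1, [4,1,0], []), ([0,1,1,0,1], 1, [5,2,0,5], []),
  ([0,0,1], 1, [1,2,1,5,3,2,0], []), ([1,1,0,1], 1, [4,3,5,3,4], []), ([0,0,1,1,0], 1, [5,3,0,5,4,0], []),
  ([1,0,0], 1, [3,2,5,3,4,3,0], []), ([1,0,1,1], 1, [5,2,0,5], []), ([0,0,1,0,1], 1, [1,5,2,0,5,0], []),
  ([0,1,1], 1, [3,2,5,3,4,3,0], []), ([0,0,1,0], 1, [5,3,0,5,4,0], []), ([0,0], 1, [2], []),
  ([0,0,1,0,1,1], 1, [0,5,4,5,1,5], []), ([0,1,0,1], 1, [2,5,4,2,5,2], []), ([0,0,1,0,0], 1, [5,2,3,1,2,5], [])]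

/-- the element of order 20 -/
def w20 : List ℕ := [6,0,1,2,3,4]

/-- the test -/
def tyB (w : List ℕ) (t : ℕ) (c c' : List ℕ) : Bool :=
  match t with
  | 0 => eqG (c ++ w) (6 :: (w ++ c))
  | 1 => eqG (w ++ (w ++ (w ++ (w ++ (w ++ w))))) [] && eqG c (w ++ (c ++ w))
  | 2 => eqG (w ++ (w ++ (w ++ (w ++ (w ++ (w ++ (w ++ w))))))) [] && eqG (c ++ w) (w ++ (w ++ (w ++ c))) &&
      eqG c' (6 :: (w ++ (c' ++ w)))
  | 3 => eqG (w ++ (w ++ (w ++ (w ++ (w ++ (w ++ (w ++ (w ++ (w ++ w))))))))) [] && eqG (c ++ w) (w ++ (w ++ (w ++ c)))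
  | _ => eqG (c ++ w) (w20 ++ c) || eqG (c ++ w) (6 :: (w20 ++ c))

/-- the element of order 20 -/
def g20 : Γ := GW w20

/-- the types -/
def Ty (g : Γ) : Prop :=
  IsConj g (neg * g) ∨ (g ^ 6 = 1 ∧ IsConj g⁻¹ g) ∨ (g ^ 8 = 1 ∧ IsConj g (g ^ 3) ∧ IsConj g⁻¹ (neg * g)) ∨
    (g ^ 10 = 1 ∧ IsConj g (g ^ 3)) ∨ (IsConj g g20 ∨ IsConj g (neg * g20))

theorem ty_of {w : List ℕ} {t : ℕ} {c c' : List ℕ} (h : tyB w t c c' = true) : Ty (GW w) := by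
  unfold tyB at h
  split at h
  · left
    have h1 := GW_eq h
    rw [GW_append, GW_six, GW_append] at h1
    rw [isConj_iff]
    exact ⟨GW c, by rw [h1]; group⟩
  · right; left
    rw [Bool.and_eq_true] at h
    have h1 := GW_eq h.1
    have h2 := GW_eq h.2
    simp only [GW_append, GW_nil] at h1 h2
    refine ⟨?_, ?_⟩
    · rw [← h1]; simp only [pow_succ, pow_zero, one_mul, mul_assoc]
    · rw [isConj_iff]
      refine ⟨GW c, ?_⟩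
      calc GW c * (GW w)⁻¹ * (GW c)⁻¹ = (GW w * (GW c * GW w)) * (GW w)⁻¹ * (GW c)⁻¹ := by rw [← h2]
        _ = GW w := by group
  · right; right; left
    rw [Bool.and_eq_true, Bool.and_eq_true] at h
    have h1 := GW_eq h.1.1
    have h2 := GW_eq h.1.2
    have h3 := GW_eq h.2
    simp only [GW_append, GW_nil, GW_six] at h1 h2 h3
    refine ⟨?_, ?_, ?_⟩
    · rw [← h1]; simp only [pow_succ, pow_zero, one_mul, mul_assoc]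
    · rw [isConj_iff]
      refine ⟨GW c, ?_⟩
      rw [h2]
      simp only [pow_succ, pow_zero, one_mul, mul_assoc, mul_inv_cancel, mul_one]
    · rw [isConj_iff]
      refine ⟨GW c', ?_⟩
      calc GW c' * (GW w)⁻¹ * (GW c')⁻¹ = (neg * (GW w * (GW c' * GW w))) * (GW w)⁻¹ * (GW c')⁻¹ := by rw [← h3]
        _ = neg * GW w := by group
  · right; right; right; left
    rw [Bool.and_eq_true] at h
    have h1 := GW_eq h.1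
    have h2 := GW_eq h.2
    simp only [GW_append, GW_nil] at h1 h2
    refine ⟨?_, ?_⟩
    · rw [← h1]; simp only [pow_succ, pow_zero, one_mul, mul_assoc]
    · rw [isConj_iff]
      refine ⟨GW c, ?_⟩
      rw [h2]
      simp only [pow_succ, pow_zero, one_mul, mul_assoc, mul_inv_cancel, mul_one]
  · right; right; right; right
    rw [Bool.or_eq_true] at h
    rcases h with h | h
    · left
      have h1 := GW_eq h
      rw [GW_append, GW_append] at h1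
      rw [isConj_iff]
      exact ⟨GW c, by rw [h1, g20]; group⟩
    · right
      have h1 := GW_eq h
      rw [GW_append, GW_six, GW_append] at h1
      rw [isConj_iff]
      exact ⟨GW c, by rw [h1, g20]; group⟩

theorem LV_len : LV.length = 192 := by decide +kernel
theorem LV_comm : (LV.all fun x => eqW ([1, 3] ++ x.1) (x.1 ++ [1, 3])) = true := by decide +kernel
theorem LV_ty : (LV.all fun x => tyB x.1 x.2.1 x.2.2.1 x.2.2.2) = true := by decide +kernel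
theorem LY_len : LY.length = 240 := by decide +kernel
theorem LY_comm : (LY.all fun x => eqW ([0] ++ x.1) (x.1 ++ [0])) = true := by decide +kernel
theorem LY_ty : (LY.all fun x => tyB x.1 x.2.1 x.2.2.1 x.2.2.2) = true := by decide +kernel
theorem LT_ty : (LT.all fun x => tyB (ex3 x.1) x.2.1 x.2.2.1 x.2.2.2) = true := by decide +kernel
theorem LT_eq : LT.map (fun x => x.1) = CT.map fun x => x.1 := by decide +kernel

/-- strictly increasing signatures -/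
def incrT : ℕ → List (List ℕ × ℕ × List ℕ × List ℕ) → Bool
  | _, [] => true
  | a, x :: l => Nat.blt a (CoThreeStd.MTwelve.sig x.1 24) && incrT (CoThreeStd.MTwelve.sig x.1 24) l

theorem incrT_lt : ∀ {l : List (List ℕ × ℕ × List ℕ × List ℕ)} {a : ℕ}, incrT a l = true →
    ∀ m ∈ l, a < CoThreeStd.MTwelve.sig m.1 24
  | [], _, _, m, hm => by simp at hm
  | m' :: l, a, h, m, hm => by
    rw [incrT, Bool.and_eq_true] at h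
    have h1 : a < CoThreeStd.MTwelve.sig m'.1 24 := by simpa [Nat.blt] using h.1
    rcases List.mem_cons.mp hm with rfl | hm
    · exact h1
    · exact h1.trans (incrT_lt h.2 m hm)

theorem incrT_pairwise : ∀ {l : List (List ℕ × ℕ × List ℕ × List ℕ)} {a : ℕ}, incrT a l = true →
    l.Pairwise (fun m m' => CoThreeStd.MTwelve.sig m.1 24 < CoThreeStd.MTwelve.sig m'.1 24)
  | [], _, _ => List.Pairwise.nil
  | m :: l, a, h => by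
    rw [incrT, Bool.and_eq_true] at h
    exact List.Pairwise.cons (fun m' hm' => incrT_lt h.2 m' hm') (incrT_pairwise h.2)

theorem incrT_inj {l : List (List ℕ × ℕ × List ℕ × List ℕ)} {a : ℕ} (h : incrT a l = true) :
    Function.Injective fun i : Fin l.length => wd (l[i.1]).1 := by
  have hp := List.pairwise_iff_getElem.mp (incrT_pairwise h)
  intro i j hij
  have h5 := sig_eq hij 24 le_rfl
  by_contra hne
  rcases lt_or_gt_of_ne (fun h6 => hne (Fin.ext h6)) with h6 | h6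
  · exact absurd h5 (hp i.1 j.1 i.2 j.2 h6).ne
  · exact absurd h5 (hp j.1 i.1 j.2 i.2 h6).ne'

theorem LV_incr : incrT 0 LV = true := by decide +kernel
theorem LY_incr : incrT 0 LY = true := by decide +kernel

/-- a list exhausts a centralizer -/
theorem cover_list {L : List (List ℕ × ℕ × List ℕ × List ℕ)} {u : List ℕ} (hi : incrT 0 L = true)
    (hc : (L.all fun x => eqW (u ++ x.1) (x.1 ++ u)) = true)
    (hlen : Nat.card (Subgroup.centralizer {wd u} : Subgroup H) ≤ L.length) {g : H}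
    (hg : g ∈ (Subgroup.centralizer {wd u} : Subgroup H)) : ∃ x ∈ L, wd x.1 = g := by
  let f : Fin L.length → (Subgroup.centralizer {wd u} : Subgroup H) := fun i => ⟨wd (L[i.1]).1, by
    rw [Subgroup.mem_centralizer_iff]
    rintro _ rfl
    have h1 := List.all_eq_true.1 hc _ (List.getElem_mem i.2)
    have h2 := wd_eq h1
    rwa [wd_append, wd_append] at h2⟩
  have hf : Function.Injective f := by
    intro i j hij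
    exact incrT_inj hi (congrArg Subtype.val hij)
  have hb := Function.Injective.bijective_of_nat_card_le hf (by
    rw [Nat.card_eq_fintype_card (α := Fin L.length), Fintype.card_fin]
    exact hlen)
  obtain ⟨i, hi'⟩ := hb.2 ⟨g, hg⟩
  exact ⟨_, List.getElem_mem i.2, congrArg Subtype.val hi'⟩

/-- the classification of the elements of the group of degree 12 -/
theorem classify (g : H) : (∃ m : H, m * g * m⁻¹ ∈ (Subgroup.centralizer {wd [0]} : Subgroup H)) ∨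
    (∃ m : H, m * g * m⁻¹ ∈ (Subgroup.centralizer {wd [1, 3]} : Subgroup H)) ∨ (∃ m : H, m * g * m⁻¹ ∈ K3) ∨
    (∃ m : H, m * g * m⁻¹ ∈ Subgroup.zpowers (ev vH [6])) ∨ (∃ m : H, m * g * m⁻¹ ∈ Subgroup.zpowers (ev vH [5])) := by
  obtain ⟨Δ, _, S⟩ := H354.TwoM12.exists_sh (T := H) ⟨MulEquiv.refl _⟩
  have hpos : 0 < orderOf g := orderOf_pos g
  have hdvd : orderOf g ∣ 95040 := by rw [← card_H]; exact orderOf_dvd_natCard g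
  by_cases h2 : 2 ∣ orderOf g
  · -- even order
    obtain ⟨m, hm⟩ := h2
    have hm0 : 0 < m := by omega
    have hz1 : g ^ m ≠ 1 := by
      intro h
      have := orderOf_dvd_of_pow_eq_one h
      have := Nat.le_of_dvd hm0 this
      omega
    have hz2 : g ^ m * g ^ m = 1 := by rw [← pow_add, ← two_mul, ← hm, pow_orderOf_eq_one]
    have hcomm : g * g ^ m = g ^ m * g := (Commute.refl g).pow_right m
    have key : ∀ (u c : H), c⁻¹ * u * c = g ^ m → (c * g * c⁻¹) * u = u * (c * g * c⁻¹) := by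
      intro u c hc
      have hu : u = c * g ^ m * c⁻¹ := by rw [← hc]; group
      rw [hu]
      calc c * g * c⁻¹ * (c * g ^ m * c⁻¹) = c * (g * g ^ m) * c⁻¹ := by group
        _ = c * (g ^ m * g) * c⁻¹ := by rw [hcomm]
        _ = _ := by group
    rcases inv_class (g ^ m) hz1 hz2 with ⟨c, hc⟩ | ⟨c, hc⟩
    · left
      refine ⟨c, ?_⟩
      rw [wd_y, Subgroup.mem_centralizer_iff]
      rintro _ rfl
      exact (key _ _ hc).symm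
    · right; left
      refine ⟨c, ?_⟩
      rw [wd_pr, Subgroup.mem_centralizer_iff]
      rintro _ rfl
      exact (key _ _ hc).symm
  · -- odd order
    right; right
    have hodd : Nat.Coprime (orderOf g) 64 := by
      have h3 : Nat.Coprime (orderOf g) 2 := ((Nat.Prime.coprime_iff_not_dvd Nat.prime_two).2 h2).symm
      exact Nat.Coprime.pow_right 6 h3
    have h1485 : orderOf g ∣ 1485 := by
      have : orderOf g ∣ 64 * 1485 := by norm_num; exact hdvd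
      exact hodd.dvd_of_dvd_mul_left this
    have hmem : ∀ q m : ℕ, orderOf g = q * m → orderOf (g ^ m) = q := by
      intro q m h
      have hm0 : m ≠ 0 := by rintro rfl; omega
      rw [orderOf_pow_of_dvd hm0 ⟨q, by rw [h, mul_comm]⟩, h, Nat.mul_div_cancel _ (Nat.pos_of_ne_zero hm0)]
    have hcent : ∀ m : ℕ, orderOf g ∣ Nat.card (Subgroup.centralizer ({g ^ m} : Set H)) := by
      intro m
      have h3 : g ∈ Subgroup.centralizer ({g ^ m} : Set H) := by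
        rw [Subgroup.mem_centralizer_iff]
        rintro _ rfl
        exact ((Commute.refl g).pow_left m)
      have h4 := orderOf_dvd_natCard (⟨g, h3⟩ : Subgroup.centralizer ({g ^ m} : Set H))
      rwa [Subgroup.orderOf_mk] at h4
    by_cases h11' : 11 ∣ orderOf g
    · right; right
      obtain ⟨m, hm⟩ := h11'
      have h3 := hcent m
      rw [S.cent_eleven (hmem 11 m hm)] at h3
      have h11 : orderOf g = 11 := Nat.dvd_antisymm h3 ⟨m, hm⟩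
      have ho : orderOf (ev vH [5]) = 11 := by
        have : Fact (Nat.Prime 11) := ⟨by norm_num⟩
        apply orderOf_eq_prime
        · rw [ev_pow, ← ev_nil vH]
          exact sat_H.base (by decide +kernel)
        · intro h
          rw [ev_vH] at h
          exact wd_ne (l' := []) 1 (by norm_num) (by decide +kernel) h
      have : Fact (Nat.Prime 11) := ⟨by norm_num⟩
      exact conj_into (p := 11) (n := 1) (K := Subgroup.zpowers (ev vH [5])) (by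
        rw [Nat.card_zpowers, ho, pow_one]) (by norm_num) (g := g) (j := 1) (by rw [h11, pow_one])
    by_cases h5 : 5 ∣ orderOf g
    · right; left
      obtain ⟨m, hm⟩ := h5
      have h3 := (hcent m).trans (S.cent_five (hmem 5 m hm))
      have h4 : orderOf g ∣ 5 := by
        have h5 : Nat.Coprime (orderOf g) 4 := by
          have h3 : Nat.Coprime (orderOf g) 2 := ((Nat.Prime.coprime_iff_not_dvd Nat.prime_two).2 h2).symm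
          exact Nat.Coprime.pow_right 2 h3
        exact h5.dvd_of_dvd_mul_left (n := 5) h3
      have h6 : orderOf g = 5 := Nat.dvd_antisymm h4 ⟨m, hm⟩
      have hd5 : orderOf (ev vH [6]) = 5 := by
        have : Fact (Nat.Prime 5) := ⟨Nat.prime_five⟩
        apply orderOf_eq_prime
        · rw [ev_pow, ← ev_nil vH]
          exact sat_H.base (by decide +kernel)
        · intro h
          rw [ev_vH] at h
          exact wd_ne (l' := []) 1 (by norm_num) (by decide +kernel) h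
      have : Fact (Nat.Prime 5) := ⟨Nat.prime_five⟩
      exact conj_into (p := 5) (n := 1) (K := Subgroup.zpowers (ev vH [6])) (by
        rw [Nat.card_zpowers, hd5, pow_one]) (by norm_num) (g := g) (j := 1) (by rw [h6, pow_one])
    · left
      have h27 : orderOf g ∣ 3 ^ 3 := by
        have c55 : Nat.Coprime (orderOf g) 55 := by
          have a1 : Nat.Coprime (orderOf g) 5 := ((Nat.Prime.coprime_iff_not_dvd Nat.prime_five).2 h5).symm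
          have a2 : Nat.Coprime (orderOf g) 11 := ((Nat.Prime.coprime_iff_not_dvd (by norm_num)).2 h11').symm
          exact a1.mul_right a2
        have : orderOf g ∣ 55 * 3 ^ 3 := by norm_num; exact h1485
        exact c55.dvd_of_dvd_mul_left this
      obtain ⟨j, -, hj⟩ := (Nat.dvd_prime_pow Nat.prime_three).1 h27
      have : Fact (Nat.Prime 3) := ⟨Nat.prime_three⟩
      exact conj_into (p := 3) (n := 3) card_K3 (by norm_num) hj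

theorem sig_evG (w : List ℕ) : H932.Mt.sig (ev vG w) = ev vH w := by
  have h : ∀ i, wd (WG i) = wd (W i) := by
    intro i
    rcases Nat.lt_or_ge i 9 with hi | hi
    · have h1 : ∀ i : Fin 9, eqW (WG i.1) (W i.1) = true := by decide +kernel
      exact wd_eq (h1 ⟨i, hi⟩)
    · obtain ⟨k, rfl⟩ := Nat.exists_eq_add_of_le hi
      rw [Nat.add_comm]
      rfl
  rw [map_ev]
  congr 1
  funext i
  rw [vG, sig_GW, h]
  rfl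

/-- induction over the classes of the double cover -/
theorem gam_induct (S : Γ → Prop) (hconj : ∀ a b, IsConj a b → S a → S b) (hneg : ∀ a, S a → S (neg * a))
    (hty : ∀ a, Ty a → S a) (h5 : ∀ k : ℤ, S (ev vG [6] ^ k)) (h11 : ∀ k : ℤ, S (ev vG [5] ^ k)) (g : Γ) : S g := by
  have key : ∀ (m : H) (b : Γ), m * H932.Mt.sig g * m⁻¹ = H932.Mt.sig b → S b → S g := by
    intro m b hm hb
    obtain ⟨M, rfl⟩ := sig_surjective m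
    rw [← map_inv, ← map_mul, ← map_mul] at hm
    have h1 : IsConj (M * g * M⁻¹) g := by
      rw [isConj_comm, isConj_iff]
      exact ⟨M, rfl⟩
    rcases eq_or_of_sig hm with h2 | h2
    · exact hconj _ _ h1 (h2 ▸ hb)
    · exact hconj _ _ h1 (by rw [h2]; exact hneg _ hb)
  rcases classify (H932.Mt.sig g) with ⟨m, hm⟩ | ⟨m, hm⟩ | ⟨m, hm⟩ | ⟨m, hm⟩ | ⟨m, hm⟩
  · obtain ⟨x, hx, hx'⟩ := cover_list LY_incr LY_comm (by rw [LY_len, wd_y, card_cent_y]) hm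
    exact key m (GW x.1) (by rw [sig_GW, hx']) (hty _ (ty_of (List.all_eq_true.1 LY_ty x hx)))
  · obtain ⟨x, hx, hx'⟩ := cover_list LV_incr LV_comm (by rw [LV_len, wd_pr, card_cent_v]) hm
    exact key m (GW x.1) (by rw [sig_GW, hx']) (hty _ (ty_of (List.all_eq_true.1 LV_ty x hx)))
  · obtain ⟨n, hn⟩ := mem_K3 hm
    have hn' : n.1 < CT.length := by rw [CT_len]; exact n.2
    rw [List.getD_eq_getElem _ _ hn'] at hn
    have h1 : (CT[n.1]).1 ∈ LT.map fun x => x.1 := by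
      rw [LT_eq]
      exact List.mem_map_of_mem (List.getElem_mem hn')
    obtain ⟨x, hx, hx'⟩ := List.mem_map.1 h1
    exact key m (GW (ex3 x.1)) (by rw [sig_GW, hx', hn]) (hty _ (ty_of (List.all_eq_true.1 LT_ty x hx)))
  · obtain ⟨k, hk⟩ := Subgroup.mem_zpowers_iff.1 hm
    exact key m (ev vG [6] ^ k) (by rw [map_zpow, sig_evG, hk]) (h5 k)
  · obtain ⟨k, hk⟩ := Subgroup.mem_zpowers_iff.1 hm
    exact key m (ev vG [5] ^ k) (by rw [map_zpow, sig_evG, hk]) (h11 k)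

end Cfsg.Agent.H6.M11
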