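import Cfsg.Agent.H6.M11.Orb12

/-!
# Irreducible representations of the Mathieu group of degree 11 in characteristic 3 (helper6)
-/

set_option autoImplicit false
set_option linter.unusedSectionVars false
set_option linter.unusedVariables false
set_option maxRecDepth 100000

namespace Cfsg.Agent.H6.M11

open Module LinearMap

variable {G : Type*} [Group G] {v : ℕ → G} {k : Type*} [Field k] {V : Type*} [AddCommGroup V] [Module k V]
  [FiniteDimensional k V] {R : G →* End k V} {ζ ξ : k}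

/-- invariant subspaces are trivial -/
def Irr (v : ℕ → G) (R : G →* End k V) : Prop :=
  ∀ S : Submodule k V, (∀ u ∈ S, op v R [5] u ∈ S) → (∀ u ∈ S, op v R [8] u ∈ S) → S = ⊥ ∨ S = ⊤

/-- the permutations -/
def pt (i : ℕ) : ℕ := [0, 2, 1, 5, 10, 3, 6, 7, 8, 9, 4].getD i 0
def pw (i : ℕ) : ℕ := [0, 10, 5, 7, 8, 2, 9, 3, 4, 6, 1].getD i 0
def aw (i : ℕ) : ℕ := [0, 10, 9, 8, 7, 6, 5, 4, 3, 2, 1].getD i 0
def bw (i : ℕ) : ℕ := [0, 0, 1, 3, 2, 4, 4, 2, 3, 1, 0].getD i 0
def lt (i : ℕ) : List ℕ := [[],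
  [5, 5, 5, 5, 6, 6, 7, 5, 5, 5, 5, 5, 5, 5, 5, 5, 5],
  [5, 6, 6, 7, 5, 5, 5, 5, 5, 5, 5],
  [5, 6, 6, 6, 6, 7, 5, 5, 5, 5, 5, 5, 5],
  [5, 5, 6, 6, 6, 6, 7, 5, 5, 5, 5, 5, 5],
  [5, 5, 5, 5, 6, 6, 6, 6, 7, 5, 5, 5, 5, 5, 5, 5, 5, 5, 5],
  [5, 5, 5, 5, 5, 7, 5, 5, 5, 5, 5, 5],
  [5, 5, 5, 5, 5, 5, 5, 6, 6, 6, 7, 5, 5, 5, 5],
  [5, 6, 6, 6, 6, 7, 5, 5, 5, 5, 5, 5, 5, 5, 5, 5],
  [6, 6, 7],
  [5, 5, 5, 5, 5, 6, 6, 6, 6, 7, 5, 5, 5, 5, 5, 5, 5, 5, 5]].getD i []

theorem op_replicate' (i n : ℕ) : op v R (List.replicate n i) = (op v R [i]) ^ n := op_replicate n i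

theorem SatL.bruhat (h : SatL v) (i : ℕ) (hi : 1 ≤ i) (hi' : i ≤ 10) :
    op v R [7] * ((op v R [5]) ^ i * op v R [7]) =
      (op v R [5]) ^ (pw i) * (op v R [7] * ((op v R [5]) ^ (aw i) * (op v R [6]) ^ (bw i))) := by
  have key : (([7] : List ℕ) ++ (List.replicate i 5 ++ [7]), (List.replicate (pw i) 5 ++ ([7] ++ (List.replicate (aw i) 5 ++
      List.replicate (bw i) 6)))) ∈ baseLL := by
    interval_cases i <;> decide +kernel
  have h1 := h.op_eq (R := R) key
  simpa only [op_append, op_replicate'] using h1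

theorem Sat.tt (h : Sat v) (i : ℕ) (hi : 1 ≤ i) (hi' : i ≤ 10) :
    op v R [8] * ((op v R [5]) ^ i * op v R [8]) = (op v R [5]) ^ (pt i) * (op v R [8] * op v R (lt i)) := by
  have key : (([8] : List ℕ) ++ (List.replicate i 5 ++ [8]), (List.replicate (pt i) 5 ++ ([8] ++ lt i))) ∈ baseL := by
    interval_cases i <;> decide +kernel
  have h1 := h.op_eq (R := R) key
  simpa only [op_append, op_replicate'] using h1

theorem Sat.t_sq (h : Sat v) (u : V) : op v R [8] (op v R [8] u) = u := by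
  rw [← Module.End.mul_apply, ← op_append, show op v R ([8] ++ [8]) = op v R [] from h.op_eq (by decide +kernel), op_nil]
  rfl

theorem SatL.w_sq (h : SatL v) (u : V) : op v R [7] (op v R [7] u) = u := by
  rw [← Module.End.mul_apply, ← op_append, show op v R ([7] ++ [7]) = op v R [] from h.op_eq (by decide +kernel), op_nil]
  rfl

/-- words in letters fixing a vector -/
theorem op_fix {x0 : V} : ∀ (w : List ℕ), (∀ i ∈ w, op v R [i] x0 = x0) → op v R w x0 = x0 := by
  intro w
  induction w with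
  | nil => intro _; rw [op_nil]; rfl
  | cons i w ih =>
    intro hw
    rw [op_cons, Module.End.mul_apply, ih fun j hj => hw j (List.mem_cons_of_mem _ hj), hw i List.mem_cons_self]

theorem lt_mem (i : ℕ) (hi : 1 ≤ i) (hi' : i ≤ 10) : ∀ j ∈ lt i, j = 5 ∨ j = 6 ∨ j = 7 := by
  interval_cases i <;> decide

theorem pt_perm : (Finset.Icc 1 10).image pt = Finset.Icc 1 10 := by decide
theorem pw_perm : (Finset.Icc 1 10).image pw = Finset.Icc 1 10 := by decide

theorem pow_fix {X : End k V} {x0 : V} (h : X x0 = x0) (i : ℕ) : (X ^ i) x0 = x0 := by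
  induction i with
  | zero => rfl
  | succ i ih => rw [pow_succ, Module.End.mul_apply, h, ih]

/-- the orbit under the group of degree 11 of a vector fixed by `L₂(11)` -/
theorem Sat.twelve_t (h : Sat v) {x0 : V} (f5 : op v R [5] x0 = x0) (f6 : op v R [6] x0 = x0)
    (f7 : op v R [7] x0 = x0) : Twelve (op v R [5]) (op v R [8]) x0 (op v R [8] x0) pt where
  pow := h.toL.pow_eleven
  fix := f5
  Tx := rfl
  Tu := h.t_sq x0
  Ti := by
    intro i hi hi'
    have h1 := congrArg (fun f : End k V => f x0) (h.tt (R := R) i hi hi')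
    simp only [Module.End.mul_apply] at h1
    rw [op_fix (lt i) (by
      intro j hj
      rcases lt_mem i hi hi' j hj with rfl | rfl | rfl
      · exact f5
      · exact f6
      · exact f7)] at h1
    exact h1
  perm := pt_perm

/-- the orbit under `L₂(11)` of a vector fixed by `x, d` -/
theorem SatL.twelve_w (h : SatL v) {x0 : V} (f5 : op v R [5] x0 = x0) (f6 : op v R [6] x0 = x0) :
    Twelve (op v R [5]) (op v R [7]) x0 (op v R [7] x0) pw where
  pow := h.pow_eleven
  fix := f5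
  Tx := rfl
  Tu := h.w_sq x0
  Ti := by
    intro i hi hi'
    have h1 := congrArg (fun f : End k V => f x0) (h.bruhat (R := R) i hi hi')
    simp only [Module.End.mul_apply] at h1
    rw [pow_fix f6, pow_fix f5] at h1
    exact h1
  perm := pw_perm

/-- a vector fixed by `x` and `t` -/
theorem zero_of_fix (irr : Irr v R) (hn : 2 ≤ finrank k V) {y : V} (f5 : op v R [5] y = y) (f8 : op v R [8] y = y) :
    y = 0 := by
  by_contra hy
  have h1 : ∀ (A : End k V), A y = y → ∀ u ∈ Submodule.span k {y}, A u ∈ Submodule.span k {y} := by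
    intro A hA u hu
    rw [Submodule.mem_span_singleton] at hu ⊢
    obtain ⟨c, rfl⟩ := hu
    exact ⟨c, by rw [map_smul, hA]⟩
  have h2 : finrank k (Submodule.span k {y}) = 1 := finrank_span_singleton hy
  rcases irr (Submodule.span k {y}) (h1 _ f5) (h1 _ f8) with h3 | h3
  · rw [h3, finrank_bot] at h2
    omega
  · rw [h3, finrank_top] at h2
    omega

/-- `L₂(11)` has no fixed vectors -/
theorem Sat.no_fix (h : Sat v) (h3 : (3 : k) = 0) (irr : Irr v R) (hn : 2 ≤ finrank k V) {x0 : V}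
    (f5 : op v R [5] x0 = x0) (f6 : op v R [6] x0 = x0) (f7 : op v R [7] x0 = x0) : x0 = 0 := by
  by_contra hx0
  have hT := h.twelve_t f5 f6 f7
  have hs := zero_of_fix irr hn (hT.X_sum (eleven_ne_of3 h3)) hT.T_sum
  obtain ⟨φ, e0, eX, eT⟩ := hT.exists_dual h3 hx0 hs
  have hU : spanO (op v R [5]) x0 (op v R [8] x0) = ⊤ := by
    refine (irr _ (fun u hu => X_mem f5 hu) (fun u hu => hT.T_mem hu)).resolve_left ?_
    intro h1
    have h2 : x0 ∈ spanO (op v R [5]) x0 (op v R [8] x0) := x0_mem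
    rw [h1, Submodule.mem_bot] at h2
    exact hx0 h2
  have hker : LinearMap.ker φ = ⊥ := by
    refine (irr (LinearMap.ker φ) (fun u hu => ?_) (fun u hu => ?_)).resolve_right ?_
    · rw [LinearMap.mem_ker] at hu ⊢
      rw [eX, hu]
    · rw [LinearMap.mem_ker] at hu ⊢
      rw [eT u (by rw [hU]; trivial), hu]
    · intro h1
      have h2 : x0 ∈ LinearMap.ker φ := by rw [h1]; trivial
      rw [LinearMap.mem_ker, e0] at h2
      exact one_ne_zero h2
  have h4 := LinearMap.finrank_range_add_finrank_ker φ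
  rw [hker, finrank_bot, add_zero] at h4
  have h5 : finrank k (LinearMap.range φ) ≤ 1 := (Submodule.finrank_le _).trans (by rw [Module.finrank_self])
  omega

end Cfsg.Agent.H6.M11
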