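import Cfsg.Agent.H6.M11.Cases

/-!
# Characteristic at least 5, dimension 11 or 12, trace of `y` not real: an invariant line (helper6)
-/

set_option autoImplicit false
set_option linter.unusedSectionVars false
set_option linter.unusedVariables false
set_option maxRecDepth 100000

namespace Cfsg.Agent.H6.M11

open Module LinearMap

variable {G : Type*} [Group G] {v : ℕ → G} {k : Type*} [Field k] {V : Type*} [AddCommGroup V] [Module k V]
  [FiniteDimensional k V] {R : G →* End k V} {ω : k}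

/-! ### the action on `Cp` -/

theorem op_apply (u w : List ℕ) (x : V) : op v R (u ++ w) x = op v R u (op v R w x) := by
  rw [op_append, Module.End.mul_apply]

theorem Sat.op_apply_eq (h : Sat v) {a b : List ℕ} (hr : (a, b) ∈ baseL) (x : V) : op v R a x = op v R b x := by
  rw [h.op_eq hr]

/-- `y` is the negative of the sign on `Cp` and the trace of elements of order 4 is `dim Cp` -/
theorem Sat.on_Cp (h : Sat v) (hω : IsPrimitiveRoot ω 3) (h2 : (2 : k) ≠ 0) {f : ℕ} {ε : k} (hf2 : f ≤ 2)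
    (hε : ε = 1 ∨ ε = -1) (hf : finrank k (Cp v R) = f) (hs : ∀ u ∈ Cp v R, op v R [3] u = -(ε • u)) :
    (∀ u ∈ Cp v R, op v R [2] u = -(ε • u)) ∧ (∀ u ∈ Cp v R, op v R [2, 2] u = u) ∧
      (∀ u ∈ Cp v R, op v R [3, 2] u = u) ∧ tw v R [2, 2] = f ∧
      tw v R [2] + tw v R [2, 2, 2, 2, 2, 2, 2] = - (2 * ε * f) := by
  have h3 : (3 : k) ≠ 0 := three_ne hω
  have hεε : ε * ε = 1 := by rcases hε with rfl | rfl <;> norm_num
  have hP := h.isProj_pP (R := R) hω h2
  have hmem : ∀ w : List ℕ, (∀ i ∈ w, i = 2 ∨ i = 3) → ∀ u ∈ Cp v R, op v R w u ∈ Cp v R := by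
    intro w hw u hu
    exact mem_of_comm hP (h.comm_pP h3 w hw) hu
  have hyy : ∀ u ∈ Cp v R, op v R [2, 2] u = u := by
    intro u hu
    have e1 : op v R [3, 2] u = op v R [2, 2, 2, 3] u := h.op_apply_eq (by decide +kernel) u
    rw [show ([3, 2] : List ℕ) = [3] ++ [2] from rfl, show ([2, 2, 2, 3] : List ℕ) = [2, 2, 2] ++ [3] from rfl,
      op_apply, op_apply, hs _ (hmem [2] (by decide) u hu), hs u hu, map_neg, map_smul, neg_inj] at e1
    have e2 : op v R [2] u = op v R [2, 2, 2] u := by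
      have e3 := congrArg (fun x => ε • x) e1
      simp only [smul_smul, hεε, one_smul] at e3
      exact e3
    rw [show ([2, 2, 2] : List ℕ) = [2] ++ [2, 2] from rfl, op_apply] at e2
    exact (op_injective v R [2] e2).symm
  have hyyP : op v R [2, 2] * pP v R = pP v R := by
    ext u
    exact hyy _ (hP.map_mem u)
  have hT4 : tw v R [2, 2] = f := by
    have e1 := trace_pP (v := v) (R := R) [2, 2]
    rw [hyyP, trace_isProj hP, hf, show ([2, 2] : List ℕ) ++ [2, 2, 2, 2] = [2, 2, 2, 2, 2, 2] from rfl, h.tE_yy h3,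
      h.tE_y6 h3, ← two_mul, ← mul_assoc, inv_mul_cancel₀ h2, one_mul] at e1
    exact e1.symm
  have hz : ∀ u ∈ Cp v R, op v R [2, 2, 2, 2] u = u := by
    intro u hu
    have e1 := (Submodule.mem_inf.1 hu).2
    rwa [End.mem_eigenspace_iff, one_smul] at e1
  have hqq : op v R [3, 2] * (op v R [3, 2] * pP v R) = pP v R := by
    ext u
    rw [Module.End.mul_apply, Module.End.mul_apply, ← op_apply,
      show ([3, 2] : List ℕ) ++ [3, 2] = [3, 2, 3, 2] from rfl, h.op_apply_eq (b := [2, 2, 2, 2]) (by decide +kernel)]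
    exact hz _ (hP.map_mem u)
  obtain ⟨d1, d2⟩ := two_dims h2 hP (h.comm_pP h3 [3, 2] (by decide)) hqq
  rw [trace_pP, show ([3, 2] : List ℕ) ++ [2, 2, 2, 2] = [3, 2, 2, 2, 2, 2] from rfl, h.tE_q h3, h.tE_q5 h3, ← two_mul,
    ← mul_assoc, inv_mul_cancel₀ h2, one_mul, hT4] at d2
  rw [hf] at d1
  have d3 : (f : k) = (finrank k (Cp v R ⊓ End.eigenspace (op v R [3, 2]) 1 : Submodule k V) : k) +
      (finrank k (Cp v R ⊓ End.eigenspace (op v R [3, 2]) (-1) : Submodule k V) : k) := by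
    have := congrArg (Nat.cast : ℕ → k) d1
    rwa [Nat.cast_add] at this
  have d4 : finrank k (Cp v R ⊓ End.eigenspace (op v R [3, 2]) (-1) : Submodule k V) = 0 := by
    apply cast_eq h2 h3
    · apply mul_left_cancel₀ h2
      rw [Nat.cast_zero, mul_zero]
      linear_combination d2 - d3
    · omega
    · omega
  have hq : ∀ u ∈ Cp v R, op v R [3, 2] u = u := by
    intro u hu
    have e1 : Cp v R ≤ End.eigenspace (op v R [3, 2]) 1 := le_of_finrank (by omega)
    have e2 := e1 hu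
    rwa [End.mem_eigenspace_iff, one_smul] at e2
  have hy : ∀ u ∈ Cp v R, op v R [2] u = -(ε • u) := by
    intro u hu
    have e1 := hq u hu
    rw [show ([3, 2] : List ℕ) = [3] ++ [2] from rfl, op_apply, hs _ (hmem [2] (by decide) u hu)] at e1
    have e2 := congrArg (fun x => -(ε • x)) e1
    simp only [smul_neg, neg_neg, smul_smul, hεε, one_smul] at e2
    exact e2
  refine ⟨hy, hyy, hq, hT4, ?_⟩
  have e1 := trace_pP (v := v) (R := R) [2]
  have e2 : op v R [2] * pP v R = -(ε • pP v R) := by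
    ext u
    exact hy _ (hP.map_mem u)
  rw [e2, map_neg, map_smul, trace_isProj hP, hf, show ([2] : List ℕ) ++ [2, 2, 2, 2] = [2, 2, 2, 2, 2] from rfl,
    h.tE_y h3, h.tE_y5 h3, smul_eq_mul] at e1
  have e3 := congrArg (fun x => 2 * x) e1
  simp only [← mul_assoc, mul_inv_cancel₀ h2, one_mul] at e3
  linear_combination -e3

/-! ### the quaternion group `⟨y², s y⟩` -/

variable (v R) in
/-- average over `⟨y²⟩` -/
noncomputable def p4 : End k V := av 4 (op v R [2, 2])

variable (v R) in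
/-- average over the quaternion group -/
noncomputable def pQ : End k V := (2 : k)⁻¹ • (p4 v R + op v R [3, 2] * p4 v R)

variable (v R) in
/-- fixed space of the quaternion group -/
noncomputable def UQ : Submodule k V := fix (op v R [2, 2]) ⊓ End.eigenspace (op v R [3, 2]) 1

theorem Sat.pow_four (h : Sat v) : (op v R [2, 2]) ^ 4 = 1 := by
  have h1 : op v R [2, 2, 2, 2, 2, 2, 2, 2] = 1 := by
    rw [← op_nil v R]
    exact h.op_eq (by decide +kernel)
  rw [← h1, pow_succ, pow_succ, pow_succ, pow_one, ← op_append, ← op_append, ← op_append]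
  rfl

theorem four_ne (h2 : (2 : k) ≠ 0) : ((4 : ℕ) : k) ≠ 0 := by
  rw [show ((4 : ℕ) : k) = 2 * 2 by norm_num]
  exact mul_ne_zero h2 h2

theorem Sat.yy_p4 (h : Sat v) : op v R [2, 2] * p4 v R = p4 v R := mul_av h.pow_four

theorem Sat.p4_yy (h : Sat v) : p4 v R * op v R [2, 2] = p4 v R := av_mul_self_right h.pow_four

theorem Sat.y6_p4 (h : Sat v) : op v R [2, 2, 2, 2, 2, 2] * p4 v R = p4 v R := by
  rw [show ([2, 2, 2, 2, 2, 2] : List ℕ) = [2, 2] ++ ([2, 2] ++ [2, 2]) from rfl, op_append, op_append, mul_assoc,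
    mul_assoc, h.yy_p4, h.yy_p4, h.yy_p4]

theorem Sat.p4_y6 (h : Sat v) : p4 v R * op v R [2, 2, 2, 2, 2, 2] = p4 v R := by
  rw [show ([2, 2, 2, 2, 2, 2] : List ℕ) = [2, 2] ++ ([2, 2] ++ [2, 2]) from rfl, op_append, op_append, ← mul_assoc,
    ← mul_assoc, h.p4_yy, h.p4_yy, h.p4_yy]

/-- an element inverting `y²` commutes with the average -/
theorem Sat.comm_p4 (h : Sat v) (h2 : (2 : k) ≠ 0) (g : List ℕ)
    (r1 : op v R ([2, 2] ++ g) = op v R (g ++ [2, 2, 2, 2, 2, 2]))
    (r2 : op v R (g ++ [2, 2]) = op v R ([2, 2, 2, 2, 2, 2] ++ g)) : op v R g * p4 v R = p4 v R * op v R g := by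
  rw [op_append, op_append] at r1 r2
  have a1 : p4 v R * (op v R g * p4 v R) = op v R g * p4 v R := by
    apply av_mul_of (four_ne h2)
    rw [← mul_assoc, r1, mul_assoc, h.y6_p4]
  have a2 : (p4 v R * op v R g) * p4 v R = p4 v R * op v R g := by
    apply mul_av_of (four_ne h2)
    rw [mul_assoc, r2, ← mul_assoc, h.p4_y6]
  rw [← a1, ← mul_assoc, a2]

theorem Sat.q_p4 (h : Sat v) (h2 : (2 : k) ≠ 0) : op v R [3, 2] * p4 v R = p4 v R * op v R [3, 2] :=
  h.comm_p4 h2 _ (h.op_eq (by decide +kernel)) (h.op_eq (by decide +kernel))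

theorem Sat.s_p4 (h : Sat v) (h2 : (2 : k) ≠ 0) : op v R [3] * p4 v R = p4 v R * op v R [3] :=
  h.comm_p4 h2 _ (h.op_eq (by decide +kernel)) (h.op_eq (by decide +kernel))

theorem Sat.isProj_p4 (h : Sat v) (h2 : (2 : k) ≠ 0) : IsProj (fix (op v R [2, 2])) (p4 v R) :=
  isProj_av (four_ne h2) h.pow_four

theorem Sat.qq_p4 (h : Sat v) : op v R [3, 2] * (op v R [3, 2] * p4 v R) = p4 v R := by
  rw [← mul_assoc, ← op_append, show ([3, 2] : List ℕ) ++ [3, 2] = [3, 2, 3, 2] from rfl,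
    h.op_eq (b := [2, 2, 2, 2]) (by decide +kernel), show ([2, 2, 2, 2] : List ℕ) = [2, 2] ++ [2, 2] from rfl, op_append,
    mul_assoc, h.yy_p4, h.yy_p4]

theorem Sat.isProj_pQ (h : Sat v) (h2 : (2 : k) ≠ 0) : IsProj (UQ v R) (pQ v R) :=
  isProj_plus h2 (h.isProj_p4 h2) (h.q_p4 h2) h.qq_p4

theorem mem_UQ {u : V} : u ∈ UQ v R ↔ op v R [2, 2] u = u ∧ op v R [3, 2] u = u := by
  rw [UQ, Submodule.mem_inf, mem_fix, End.mem_eigenspace_iff, one_smul]

theorem Sat.yy_pQ (h : Sat v) (h2 : (2 : k) ≠ 0) : op v R [2, 2] * pQ v R = pQ v R := by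
  ext u
  exact (mem_UQ.1 ((h.isProj_pQ h2).map_mem u)).1

theorem Sat.q_pQ (h : Sat v) (h2 : (2 : k) ≠ 0) : op v R [3, 2] * pQ v R = pQ v R := by
  ext u
  exact (mem_UQ.1 ((h.isProj_pQ h2).map_mem u)).2

theorem Sat.pQ_yy (h : Sat v) : pQ v R * op v R [2, 2] = pQ v R := by
  rw [pQ, smul_mul_assoc, add_mul, mul_assoc, h.p4_yy]

theorem Sat.pQ_q (h : Sat v) (h2 : (2 : k) ≠ 0) : pQ v R * op v R [3, 2] = pQ v R := by
  rw [pQ, smul_mul_assoc, add_mul, mul_assoc, ← h.q_p4 h2, h.qq_p4, add_comm]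

/-- absorption for the quaternion group -/
theorem pQ_mul (h2 : (2 : k) ≠ 0) {Q : End k V} (a : op v R [2, 2] * Q = Q) (b : op v R [3, 2] * Q = Q) :
    pQ v R * Q = Q := by
  have e1 : p4 v R * Q = Q := av_mul_of (four_ne h2) a
  rw [pQ, smul_mul_assoc, add_mul, mul_assoc, e1, b]
  ext u
  rw [LinearMap.smul_apply, LinearMap.add_apply, half_add h2]

theorem mul_pQ (h2 : (2 : k) ≠ 0) {Q : End k V} (a : Q * op v R [2, 2] = Q) (b : Q * op v R [3, 2] = Q) :
    Q * pQ v R = Q := by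
  have e1 : Q * p4 v R = Q := mul_av_of (four_ne h2) a
  rw [pQ, mul_smul_comm, mul_add, ← mul_assoc, b, e1]
  ext u
  rw [LinearMap.smul_apply, LinearMap.add_apply, half_add h2]

theorem Sat.y6_pQ (h : Sat v) (h2 : (2 : k) ≠ 0) : op v R [2, 2, 2, 2, 2, 2] * pQ v R = pQ v R := by
  rw [show ([2, 2, 2, 2, 2, 2] : List ℕ) = [2, 2] ++ ([2, 2] ++ [2, 2]) from rfl, op_append, op_append, mul_assoc,
    mul_assoc, h.yy_pQ h2, h.yy_pQ h2, h.yy_pQ h2]

theorem Sat.pQ_y6 (h : Sat v) : pQ v R * op v R [2, 2, 2, 2, 2, 2] = pQ v R := by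
  rw [show ([2, 2, 2, 2, 2, 2] : List ℕ) = [2, 2] ++ ([2, 2] ++ [2, 2]) from rfl, op_append, op_append, ← mul_assoc,
    ← mul_assoc, h.pQ_yy, h.pQ_yy, h.pQ_yy]

theorem Sat.K_pQ (h : Sat v) (h2 : (2 : k) ≠ 0) : op v R [3, 2, 2, 2, 2, 2, 2, 2] * pQ v R = pQ v R := by
  rw [show ([3, 2, 2, 2, 2, 2, 2, 2] : List ℕ) = [3, 2] ++ [2, 2, 2, 2, 2, 2] from rfl, op_append, mul_assoc,
    h.y6_pQ h2, h.q_pQ h2]

theorem Sat.pQ_K (h : Sat v) (h2 : (2 : k) ≠ 0) : pQ v R * op v R [3, 2, 2, 2, 2, 2, 2, 2] = pQ v R := by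
  rw [show ([3, 2, 2, 2, 2, 2, 2, 2] : List ℕ) = [3, 2] ++ [2, 2, 2, 2, 2, 2] from rfl, op_append, ← mul_assoc,
    h.pQ_q h2, h.pQ_y6]

theorem Sat.e3_pQ (h : Sat v) (h2 : (2 : k) ≠ 0) : op v R [4] * pQ v R = pQ v R * op v R [4] := by
  have r1 : op v R [2, 2] * op v R [4] = op v R [4] * op v R [3, 2, 2, 2, 2, 2, 2, 2] := by
    rw [← op_append, ← op_append]
    exact h.op_eq (by decide +kernel)
  have r2 : op v R [3, 2] * op v R [4] = op v R [4] * op v R [2, 2] := by
    rw [← op_append, ← op_append]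
    exact h.op_eq (by decide +kernel)
  have r3 : op v R [4] * op v R [3, 2] = op v R [3, 2, 2, 2, 2, 2, 2, 2] * op v R [4] := by
    rw [← op_append, ← op_append]
    exact h.op_eq (by decide +kernel)
  have a1 : pQ v R * (op v R [4] * pQ v R) = op v R [4] * pQ v R := by
    apply pQ_mul h2
    · rw [← mul_assoc, r1, mul_assoc, h.K_pQ h2]
    · rw [← mul_assoc, r2, mul_assoc, h.yy_pQ h2]
  have a2 : (pQ v R * op v R [4]) * pQ v R = pQ v R * op v R [4] := by
    apply mul_pQ h2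
    · rw [mul_assoc, ← r2, ← mul_assoc, h.pQ_q h2]
    · rw [mul_assoc, r3, ← mul_assoc, h.pQ_K h2]
  rw [← a1, ← mul_assoc, a2]

theorem Sat.s_pQ (h : Sat v) (h2 : (2 : k) ≠ 0) : op v R [3] * pQ v R = pQ v R * op v R [3] := by
  have r1 : op v R [2, 2] * op v R [3] = op v R [3] * op v R [2, 2, 2, 2, 2, 2] := by
    rw [← op_append, ← op_append]
    exact h.op_eq (by decide +kernel)
  have r2 : op v R [3, 2] * op v R [3] = op v R [3] * (op v R [3, 2] * op v R [2, 2]) := by
    rw [← op_append, ← op_append, ← op_append]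
    exact h.op_eq (by decide +kernel)
  have r3 : op v R [3] * op v R [2, 2] = op v R [2, 2, 2, 2, 2, 2] * op v R [3] := by
    rw [← op_append, ← op_append]
    exact h.op_eq (by decide +kernel)
  have r4 : op v R [3] * op v R [3, 2] = op v R [3, 2] * (op v R [2, 2] * op v R [3]) := by
    rw [← op_append, ← op_append, ← op_append]
    exact h.op_eq (by decide +kernel)
  have a1 : pQ v R * (op v R [3] * pQ v R) = op v R [3] * pQ v R := by
    apply pQ_mul h2
    · rw [← mul_assoc, r1, mul_assoc, h.y6_pQ h2]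
    · rw [← mul_assoc, r2, mul_assoc, mul_assoc, h.yy_pQ h2, h.q_pQ h2]
  have a2 : (pQ v R * op v R [3]) * pQ v R = pQ v R * op v R [3] := by
    apply mul_pQ h2
    · rw [mul_assoc, r3, ← mul_assoc, h.pQ_y6]
    · rw [mul_assoc, r4, ← mul_assoc, ← mul_assoc, h.pQ_q h2, h.pQ_yy]
  rw [← a1, ← mul_assoc, a2]

theorem sum_four {M : Type*} [AddCommMonoid M] (f : ℕ → M) : ∑ i ∈ Finset.range 4, f i = f 0 + f 1 + f 2 + f 3 := by
  rw [Finset.sum_range_succ, Finset.sum_range_succ, Finset.sum_range_succ, Finset.sum_range_one]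

theorem trace_p4 (h2 : (2 : k) ≠ 0) (w : List ℕ) :
    4 * LinearMap.trace k V (op v R w * p4 v R) =
      tw v R w + tw v R (w ++ [2, 2]) + tw v R (w ++ [2, 2, 2, 2]) + tw v R (w ++ [2, 2, 2, 2, 2, 2]) := by
  have h4 : (4 : k) * ((4 : ℕ) : k)⁻¹ = 1 := by
    rw [show (4 : k) = ((4 : ℕ) : k) by norm_num]
    exact mul_inv_cancel₀ (four_ne h2)
  have e2 : (op v R [2, 2]) ^ 2 = op v R [2, 2, 2, 2] := by rw [pow_two, ← op_append]; rfl
  have e3 : (op v R [2, 2]) ^ 3 = op v R [2, 2, 2, 2, 2, 2] := by rw [pow_succ, e2, ← op_append]; rfl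
  rw [p4, av, sum_four, pow_zero, pow_one, e2, e3, mul_smul_comm, map_smul, smul_eq_mul, ← mul_assoc, h4, one_mul,
    mul_add, mul_add, mul_add, mul_one, map_add, map_add, map_add, ← op_append, ← op_append, ← op_append]
  rfl

theorem eight_ne (h2 : (2 : k) ≠ 0) : (8 : k) ≠ 0 := by
  rw [show (8 : k) = 2 * 2 * 2 by norm_num]
  exact mul_ne_zero (mul_ne_zero h2 h2) h2

theorem trace_pQ (h2 : (2 : k) ≠ 0) (w : List ℕ) :
    8 * LinearMap.trace k V (op v R w * pQ v R) =
      (tw v R w + tw v R (w ++ [2, 2]) + tw v R (w ++ [2, 2, 2, 2]) + tw v R (w ++ [2, 2, 2, 2, 2, 2])) +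
      (tw v R (w ++ [3, 2]) + tw v R (w ++ [3, 2, 2, 2]) + tw v R (w ++ [3, 2, 2, 2, 2, 2]) +
        tw v R (w ++ [3, 2, 2, 2, 2, 2, 2, 2])) := by
  have e1 := trace_p4 (v := v) (R := R) h2 w
  have e2 := trace_p4 (v := v) (R := R) h2 (w ++ [3, 2])
  simp only [List.append_assoc, List.cons_append, List.nil_append] at e2
  rw [← e1, ← e2, pQ, mul_smul_comm, map_smul, smul_eq_mul, mul_add, map_add, ← mul_assoc (op v R w), ← op_append]
  have h5 : (8 : k) * (2 : k)⁻¹ = 4 := by
    rw [show (8 : k) = 4 * 2 by norm_num, mul_assoc, mul_inv_cancel₀ h2, mul_one]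
  rw [← mul_assoc, h5, mul_add]

variable (v R) in
/-- average over `SL(2,3)` -/
noncomputable def pS : End k V := av 3 (op v R [4]) * pQ v R

theorem Sat.e3_cube (h : Sat v) : (op v R [4]) ^ 3 = 1 := h.pow_three 4 (Or.inr (Or.inr rfl))

theorem Sat.isProj_pS (h : Sat v) (h2 : (2 : k) ≠ 0) (h3 : (3 : k) ≠ 0) :
    IsProj (fix (op v R [4]) ⊓ UQ v R) (pS v R) := by
  have h3' : ((3 : ℕ) : k) ≠ 0 := by exact_mod_cast h3
  refine IsProj.mul (isProj_av h3' h.e3_cube) (h.isProj_pQ h2) ?_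
  have h1 : Commute (pQ v R) (op v R [4]) := (h.e3_pQ h2).symm
  exact (comm_av h1).symm

theorem trace_pS (h3 : (3 : k) ≠ 0) (w : List ℕ) :
    3 * LinearMap.trace k V (op v R w * pS v R) =
      LinearMap.trace k V (op v R w * pQ v R) + LinearMap.trace k V (op v R (w ++ [4]) * pQ v R) +
        LinearMap.trace k V (op v R (w ++ [4, 4]) * pQ v R) := by
  have h4 : (3 : k) * ((3 : ℕ) : k)⁻¹ = 1 := by
    rw [show (3 : k) = ((3 : ℕ) : k) by norm_num]
    exact mul_inv_cancel₀ (by exact_mod_cast h3)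
  have e2 : (op v R [4]) ^ 2 = op v R [4, 4] := by rw [pow_two, ← op_append]; rfl
  rw [pS, av, sum_three, pow_zero, pow_one, e2, smul_mul_assoc, mul_smul_comm, map_smul, smul_eq_mul, ← mul_assoc, h4,
    one_mul, add_mul, add_mul, one_mul, mul_add, mul_add, map_add, map_add, ← mul_assoc, ← mul_assoc, ← op_append,
    ← op_append]

theorem Sat.s_pS (h : Sat v) (h2 : (2 : k) ≠ 0) (h3 : (3 : k) ≠ 0) : op v R [3] * pS v R = pS v R * op v R [3] := by
  have h3' : ((3 : ℕ) : k) ≠ 0 := by exact_mod_cast h3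
  have r1 : op v R [3] * op v R [4] = op v R [4] * (op v R [4] * op v R [3]) := by
    rw [← op_append, ← op_append, ← op_append]
    exact h.op_eq (by decide +kernel)
  have r2 : op v R [4] * op v R [3] = op v R [3] * (op v R [4] * op v R [4]) := by
    rw [← op_append, ← op_append, ← op_append]
    exact h.op_eq (by decide +kernel)
  have b1 := mul_av (h.e3_cube (R := R))
  have b2 := av_mul_self_right (h.e3_cube (R := R))
  have a1 : av 3 (op v R [4]) * (op v R [3] * av 3 (op v R [4])) = op v R [3] * av 3 (op v R [4]) := by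
    apply av_mul_of h3'
    rw [← mul_assoc, r2, mul_assoc, mul_assoc, b1, b1]
  have a2 : (av 3 (op v R [4]) * op v R [3]) * av 3 (op v R [4]) = av 3 (op v R [4]) * op v R [3] := by
    apply mul_av_of h3'
    rw [mul_assoc, r1, ← mul_assoc, ← mul_assoc, b2, b2]
  have a3 : op v R [3] * av 3 (op v R [4]) = av 3 (op v R [4]) * op v R [3] := by
    rw [← a1, ← mul_assoc, a2]
  rw [pS, ← mul_assoc, a3, mul_assoc, h.s_pQ h2, mul_assoc]

/-! ### dimension of the fixed space of the quaternion group -/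

theorem Sat.finrank_yy (h : Sat v) : 2 * finrank k (fix (op v R [2, 2])) ≤ finrank k V + finrank k (Cp v R) := by
  set S := fix (op v R [2, 2]) with hS
  let S' : Submodule k V := S.comap (op v R [0])
  have h1 : finrank k S ≤ finrank k S' := by
    refine finrank_le_of_mapsTo (op_injective v R [0, 0]) ?_
    intro u hu
    rw [Submodule.mem_comap, ← op_apply, show ([0] : List ℕ) ++ [0, 0] = [0, 0, 0] from rfl,
      h.op_apply_eq (b := []) (by decide +kernel), op_nil]
    exact hu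
  have h2 : S ⊓ S' ≤ Cp v R := by
    intro u hu
    obtain ⟨hu1, hu2⟩ := Submodule.mem_inf.1 hu
    rw [hS, mem_fix] at hu1
    rw [Submodule.mem_comap, hS, mem_fix] at hu2
    have q1 : ∀ x, op v R [2, 2] (op v R [0] x) = op v R [1] (op v R [1] (op v R [2, 2] x)) := fun x => by
      rw [← op_apply, ← op_apply, ← op_apply]
      exact h.op_apply_eq (by decide +kernel) x
    have q2 : ∀ x, op v R [2, 2] (op v R [1] x) = op v R [0] (op v R [2, 2] x) := fun x => by
      rw [← op_apply, ← op_apply]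
      exact h.op_apply_eq (by decide +kernel) x
    have q3 : ∀ x, op v R [0] (op v R [0] (op v R [0] x)) = x := fun x => by
      rw [← op_apply, ← op_apply]
      exact (h.op_apply_eq (b := []) (by decide +kernel) x).trans (by rw [op_nil]; rfl)
    have q4 : ∀ x, op v R [1] (op v R [1] (op v R [1] x)) = x := fun x => by
      rw [← op_apply, ← op_apply]
      exact (h.op_apply_eq (b := []) (by decide +kernel) x).trans (by rw [op_nil]; rfl)
    have c01 : ∀ x : V, op v R [0] (op v R [1] x) = op v R [1] (op v R [0] x) := fun x =>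
      congrArg (fun F : End k V => F x) h.comm01
    have e1 : op v R [1] (op v R [1] u) = op v R [0] u := by
      have e0 := q1 u
      rw [hu1] at e0
      rw [← e0, hu2]
    have e2 : op v R [0] (op v R [1] u) = u := by
      rw [c01, ← e1, q4]
    have e3 : op v R [1] (op v R [1] (op v R [0] u)) = u := by
      have e4 := congrArg (op v R [2, 2]) e2
      rw [hu1, q1, q2, hu1] at e4
      exact e4
    have e5 : op v R [0] (op v R [0] u) = u := by
      rw [← e1, c01, c01]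
      exact e3
    have e6 : op v R [0] u = u := by
      have e7 := q3 u
      rwa [e5] at e7
    have e8 : op v R [1] u = u := by
      rw [c01, e6] at e2
      exact e2
    refine Submodule.mem_inf.2 ⟨mem_Wt.2 ⟨by rw [e6, one_smul], by rw [e8, one_smul]⟩, ?_⟩
    rw [End.mem_eigenspace_iff, one_smul, show ([2, 2, 2, 2] : List ℕ) = [2, 2] ++ [2, 2] from rfl, op_apply, hu1, hu1]
  have h3 := Submodule.finrank_sup_add_finrank_inf_eq S S'
  have h4 : finrank k (S ⊓ S' : Submodule k V) ≤ finrank k (Cp v R) := Submodule.finrank_mono h2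
  have h5 : finrank k (S ⊔ S' : Submodule k V) ≤ finrank k V := Submodule.finrank_le _
  omega

end Cfsg.Agent.H6.M11
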