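import Cfsg.Agent.H6.M11.Dim3

/-!
# The degrees of representations of the Mathieu group of degree 11 in characteristic 3, conclusion (helper6)
-/

set_option autoImplicit false
set_option linter.unusedSectionVars false
set_option linter.unusedVariables false
set_option maxRecDepth 100000

namespace Cfsg.Agent.H6.M11

open Module LinearMap

variable {G : Type*} [Group G] {v : ℕ → G} {k : Type*} [Field k] {V : Type*} [AddCommGroup V] [Module k V]
  [FiniteDimensional k V] {R : G →* End k V} {ζ ξ : k}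

/-- an invariant subspace of `L₂(11)` which is neither trivial -/
theorem Sat.step (h : Sat v) (h3 : (3 : k) = 0) (hζ : IsPrimitiveRoot ζ 11) (irr : Irr v R) (hn : 2 ≤ finrank k V)
    {a b : ℕ}
    (ha : ∀ c : ℕ, (c = 1 ∨ c = 3 ∨ c = 4 ∨ c = 5 ∨ c = 9) → finrank k (End.eigenspace (op v R [5]) (ζ ^ c)) = a)
    (hb : ∀ c : ℕ, (c = 2 ∨ c = 6 ∨ c = 7 ∨ c = 8 ∨ c = 10) → finrank k (End.eigenspace (op v R [5]) (ζ ^ c)) = b)
    {S : Submodule k V} (i5 : ∀ u ∈ S, op v R [5] u ∈ S) (i6 : ∀ u ∈ S, op v R [6] u ∈ S)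
    (i7 : ∀ u ∈ S, op v R [7] u ∈ S) (h0 : S ≠ ⊥) (h1 : S ≠ ⊤) :
    ∃ m1 a1 b1 : ℕ, finrank k S = m1 + 5 * a1 + 5 * b1 ∧
      finrank k (S ⊓ End.eigenspace (op v R [5]) 1 : Submodule k V) = m1 ∧ 0 < a1 + b1 ∧ a1 + b1 < a + b := by
  obtain ⟨m1, a1, b1, ha1, hb1, hm1, hdim⟩ := h.toL.eigen (R := R) hζ S i5 i6
  refine ⟨m1, a1, b1, hdim, hm1, ?_, ?_⟩
  · by_contra hcon
    have h2 : a1 = 0 ∧ b1 = 0 := by omega
    apply h0
    refine h.bot_of h3 irr hn i6 i7 ?_
    have h4 : S ≤ End.eigenspace (op v R [5]) 1 := le_of_finrank (by rw [hm1, hdim]; omega)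
    intro u hu
    have h5 := h4 hu
    rw [End.mem_eigenspace_iff, one_smul] at h5
    exact h5
  · have hla : a1 ≤ a := by
      rw [← ha1 1 (by norm_num), ← ha 1 (by norm_num)]
      exact Submodule.finrank_mono inf_le_right
    have hlb : b1 ≤ b := by
      rw [← hb1 2 (by norm_num), ← hb 2 (by norm_num)]
      exact Submodule.finrank_mono inf_le_right
    by_contra hcon
    have h2 : a1 = a ∧ b1 = b := by omega
    apply h1
    refine h.top_of h3 irr hn i7 ?_
    have h4 : ∀ c : ℕ, 1 ≤ c → c ≤ 10 → End.eigenspace (op v R [5]) (ζ ^ c) ≤ S := by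
      intro c hc hc'
      apply le_of_finrank
      rw [inf_comm]
      have hcase : (c = 1 ∨ c = 3 ∨ c = 4 ∨ c = 5 ∨ c = 9) ∨ (c = 2 ∨ c = 6 ∨ c = 7 ∨ c = 8 ∨ c = 10) := by omega
      rcases hcase with hc | hc
      · rw [ha1 c hc, ha c hc, h2.1]
      · rw [hb1 c hc, hb c hc, h2.2]
    intro u
    have hX := h.toL.pow_eleven (R := R)
    have hζ0 : ζ ≠ 0 := hζ.ne_zero (by norm_num)
    have h11k := eleven_ne_of3 h3
    have e1 : ∑ c : Fin 11, sp 11 ζ (op v R [5]) c = 1 := sum_sp hζ (by norm_num)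
    have e2 : op v R [5] u - u = ∑ c : Fin 11, (ζ ^ (c : ℕ) - 1) • sp 11 ζ (op v R [5]) c u := by
      have e3 : op v R [5] u = ∑ c : Fin 11, ζ ^ (c : ℕ) • sp 11 ζ (op v R [5]) c u := by
        calc op v R [5] u = (op v R [5] * ∑ c : Fin 11, sp 11 ζ (op v R [5]) c) u := by rw [e1, mul_one]
          _ = _ := by
            rw [Finset.mul_sum, LinearMap.sum_apply]
            refine Finset.sum_congr rfl fun c _ => ?_
            rw [mul_sp hζ0 hζ.pow_eq_one hX, LinearMap.smul_apply]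
      have e4 : u = ∑ c : Fin 11, sp 11 ζ (op v R [5]) c u := by
        rw [← LinearMap.sum_apply, e1]
        rfl
      conv_lhs => rw [e3]
      conv_lhs => rhs; rw [e4]
      rw [← Finset.sum_sub_distrib]
      exact Finset.sum_congr rfl fun c _ => by rw [sub_smul, one_smul]
    rw [e2]
    refine Submodule.sum_mem _ fun c _ => ?_
    rcases Nat.eq_zero_or_pos (c : ℕ) with hc | hc
    · rw [hc, pow_zero, sub_self, zero_smul]
      exact Submodule.zero_mem _
    · refine S.smul_mem _ (h4 c hc (by omega) ?_)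
      exact (isProj_sp h11k hζ0 hζ.pow_eq_one hX c).map_mem u

/-- the span of the orbit of an eigenvector of `x, d` is invariant -/
theorem SatL.span_inv (h : SatL v) {x0 : V} {c : k} (f5 : op v R [5] x0 = x0) (f6 : op v R [6] x0 = c • x0) :
    (∀ u ∈ spanO (op v R [5]) x0 (op v R [7] x0), op v R [5] u ∈ spanO (op v R [5]) x0 (op v R [7] x0)) ∧
    (∀ u ∈ spanO (op v R [5]) x0 (op v R [7] x0), op v R [6] u ∈ spanO (op v R [5]) x0 (op v R [7] x0)) ∧
    (∀ u ∈ spanO (op v R [5]) x0 (op v R [7] x0), op v R [7] u ∈ spanO (op v R [5]) x0 (op v R [7] x0)) := by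
  have hdp : ∀ n : ℕ, ((op v R [6]) ^ n) x0 = c ^ n • x0 := by
    intro n
    induction n with
    | zero => rw [pow_zero, pow_zero, one_smul]; rfl
    | succ n ih => rw [pow_succ', Module.End.mul_apply, ih, map_smul, f6, smul_smul, pow_succ]
  refine ⟨fun u hu => X_mem f5 hu, fun u hu => map_mem_spanO ?_ ?_ hu, fun u hu => map_mem_spanO' h.pow_eleven ?_ ?_ ?_ hu⟩
  · rw [f6]
    exact Submodule.smul_mem _ _ x0_mem
  · have r1 : op v R [6] * op v R [5] = (op v R [5]) ^ 4 * op v R [6] := by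
      rw [← op_append, ← op_replicate, ← op_append]
      exact h.op_eq (by decide +kernel)
    have r2 : ∀ i : ℕ, op v R [6] * (op v R [5]) ^ i = (op v R [5]) ^ (4 * i) * op v R [6] := by
      intro i
      induction i with
      | zero => rw [Nat.mul_zero, pow_zero, mul_one, one_mul]
      | succ i ih => rw [pow_succ, ← mul_assoc, ih, mul_assoc, r1, ← mul_assoc, ← pow_add]; rfl
    have r3 : op v R [6] * op v R [7] = op v R [7] * (op v R [6]) ^ 4 := by
      rw [← op_append, ← op_replicate, ← op_append]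
      exact h.op_eq (by decide +kernel)
    intro i
    have e1 : op v R [6] ((op v R [5] ^ i) (op v R [7] x0)) = c ^ 4 • ((op v R [5] ^ (4 * i)) (op v R [7] x0)) := by
      have e2 : op v R [6] ((op v R [5] ^ i) (op v R [7] x0)) =
          (op v R [5] ^ (4 * i)) (op v R [7] ((op v R [6] ^ 4) x0)) := by
        rw [← Module.End.mul_apply (op v R [6]), r2, Module.End.mul_apply, ← Module.End.mul_apply (op v R [6]), r3,
          Module.End.mul_apply]
      rw [e2, hdp, map_smul, map_smul]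
    rw [e1]
    exact Submodule.smul_mem _ _ (u_mem _)
  · exact u_mem 0
  · rw [h.w_sq]
    exact x0_mem
  · intro i hi hi'
    have h1 := congrArg (fun f : End k V => f x0) (h.bruhat (R := R) i hi hi')
    simp only [Module.End.mul_apply] at h1
    rw [hdp, map_smul, map_smul, map_smul, pow_fix f5] at h1
    rw [h1]
    exact Submodule.smul_mem _ _ (u_mem _)

/-- **the degrees** -/
theorem Sat.dim_three (h : Sat v) (h3 : (3 : k) = 0) (hζ : IsPrimitiveRoot ζ 11) (hξ : IsPrimitiveRoot ξ 5)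
    (irr : Irr v R) (hX1 : op v R [5] ≠ 1) (hn2 : 2 ≤ finrank k V) (hn : finrank k V ≤ 12) :
    finrank k V = 5 ∨ finrank k V = 10 := by
  have h11k := eleven_ne_of3 h3
  have hX := h.toL.pow_eleven (R := R)
  obtain ⟨m, a, b, ha, hb, hm, hdim⟩ := h.toL.eigen (R := R) hζ ⊤ (fun _ _ => trivial) (fun _ _ => trivial)
  have top' : ∀ c : k, finrank k (⊤ ⊓ End.eigenspace (op v R [5]) c : Submodule k V) =
      finrank k (End.eigenspace (op v R [5]) c) := fun c => by rw [top_inf_eq]
  simp only [top'] at ha hb hm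
  rw [finrank_top] at hdim
  have hab : 0 < a + b := by
    by_contra hcon
    have h2 : a = 0 ∧ b = 0 := by omega
    apply hX1
    have h4 : (⊤ : Submodule k V) ≤ End.eigenspace (op v R [5]) 1 := le_of_finrank (by
      rw [top_inf_eq, hm, finrank_top, hdim]; omega)
    ext u
    have h5 := h4 (Submodule.mem_top (x := u))
    rw [End.mem_eigenspace_iff, one_smul] at h5
    exact h5
  by_contra hcon
  have hm1 : 1 ≤ m := by omega
  -- an eigenvector of `d`
  obtain ⟨x0, c, hx0, f5, f6⟩ : ∃ (x0 : V) (c : k), x0 ≠ 0 ∧ op v R [5] x0 = x0 ∧ op v R [6] x0 = c • x0 := by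
    have hinv : ∀ u ∈ fix (op v R [5]), op v R [6] u ∈ fix (op v R [5]) := by
      intro u hu
      exact mem_of_comm (isProj_av h11k hX) (h.toL.d_av h11k) hu
    have hsum := finrank_eq_sum hξ (by norm_num) (h.toL.pow_five (R := R)) (fix (op v R [5])) hinv
    have h1 : finrank k (fix (op v R [5])) = m := hm
    obtain ⟨j, -, hj⟩ : ∃ j ∈ (Finset.univ : Finset (Fin 5)),
        finrank k (fix (op v R [5]) ⊓ End.eigenspace (op v R [6]) (ξ ^ (j : ℕ)) : Submodule k V) ≠ 0 := by
      by_contra hc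
      push Not at hc
      rw [Finset.sum_eq_zero hc, h1] at hsum
      omega
    have h2 : (fix (op v R [5]) ⊓ End.eigenspace (op v R [6]) (ξ ^ (j : ℕ)) : Submodule k V) ≠ ⊥ := by
      intro hc
      rw [hc, finrank_bot] at hj
      exact hj rfl
    obtain ⟨x0, hx, hx0⟩ := (Submodule.ne_bot_iff _).1 h2
    obtain ⟨g1, g2⟩ := Submodule.mem_inf.1 hx
    exact ⟨x0, ξ ^ (j : ℕ), hx0, mem_fix.1 g1, End.mem_eigenspace_iff.1 g2⟩
  obtain ⟨i5, i6, i7⟩ := h.toL.span_inv f5 f6
  have hUb : spanO (op v R [5]) x0 (op v R [7] x0) ≠ ⊥ := by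
    intro h1
    have h2 : x0 ∈ spanO (op v R [5]) x0 (op v R [7] x0) := x0_mem
    rw [h1, Submodule.mem_bot] at h2
    exact hx0 h2
  have hone : a + b = 1 → spanO (op v R [5]) x0 (op v R [7] x0) = ⊤ := by
    intro hab1
    by_contra hU
    obtain ⟨m1, a1, b1, -, -, g1, g2⟩ := h.step h3 hζ irr hn2 ha hb i5 i6 i7 hUb hU
    omega
  have hm2 : m ≤ 2 := by
    by_cases hab1 : a + b = 1
    · have h1 := finrank_fix_le (u := op v R [7] x0) h11k hX f5
      rw [hone hab1, top_inf_eq, hm] at h1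
      exact h1
    · omega
  have hd := h.d_trivial h3 hξ (by rw [hm]; exact hm2)
  have f6' := hd x0 f5
  have hT := h.toL.twelve_w f5 f6'
  have hsX := hT.X_sum h11k
  have hs := h.no_fix h3 irr hn2 hsX (hd _ hsX) hT.T_sum
  obtain ⟨φ, e0, eX, eW⟩ := hT.exists_dual h3 hx0 hs
  have hφav : ∀ y, φ (av 11 (op v R [5]) y) = φ y := by
    intro y
    have e1 : ∀ i : ℕ, φ ((op v R [5] ^ i) y) = φ y := by
      intro i
      induction i with
      | zero => rfl
      | succ i ih => rw [pow_succ', Module.End.mul_apply, eX, ih]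
    rw [av, LinearMap.smul_apply, LinearMap.sum_apply, map_smul, map_sum, Finset.sum_congr rfl fun i _ => e1 i,
      Finset.sum_const, Finset.card_range, nsmul_eq_mul, smul_eq_mul, ← mul_assoc, inv_mul_cancel₀ h11k, one_mul]
  have eD : ∀ y, φ (op v R [6] y) = φ y := by
    intro y
    rw [← hφav (op v R [6] y), ← Module.End.mul_apply, ← h.toL.d_av h11k, Module.End.mul_apply,
      hd _ (av_apply_mem hX y), hφav]
  have hUt : spanO (op v R [5]) x0 (op v R [7] x0) ≠ ⊤ := by
    intro hU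
    have h1 := h.no_dual h3 irr hn2 (ψ := φ) eX eD (fun u => eW u (by rw [hU]; trivial))
    rw [h1, LinearMap.zero_apply] at e0
    exact zero_ne_one e0
  obtain ⟨m1, a1, b1, hdim1, hm1', g1, g2⟩ := h.step h3 hζ irr hn2 ha hb i5 i6 i7 hUb hUt
  have hm1le : m1 ≤ 2 := by
    rw [← hm1']
    refine le_trans (Submodule.finrank_mono inf_le_right) (by rw [hm]; exact hm2)
  have hxU : x0 ∈ spanO (op v R [5]) x0 (op v R [7] x0) ⊓ End.eigenspace (op v R [5]) 1 :=
    Submodule.mem_inf.2 ⟨x0_mem, by rw [End.mem_eigenspace_iff, one_smul]; exact f5⟩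
  have hm1pos : 0 < m1 := by
    rw [← hm1']
    have : Nontrivial (spanO (op v R [5]) x0 (op v R [7] x0) ⊓ End.eigenspace (op v R [5]) 1 : Submodule k V) := by
      rw [Submodule.nontrivial_iff_ne_bot]
      intro h1
      rw [h1, Submodule.mem_bot] at hxU
      exact hx0 hxU
    exact finrank_pos
  have final : ∀ S : Submodule k V, (∀ u ∈ S, op v R [5] u ∈ S) → (∀ u ∈ S, op v R [6] u ∈ S) →
      (∀ u ∈ S, op v R [7] u ∈ S) → finrank k S = 6 →
      finrank k (S ⊓ End.eigenspace (op v R [5]) 1 : Submodule k V) = 1 → False := by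
    intro S j5 j6 j7 hS6 hS1
    have h1 := h.toL.lemF_sub h3 hζ hξ j5 j6 j7 hS6 hS1 (fun u _ hu => hd u hu)
    have h2 : (S ⊓ End.eigenspace (op v R [5]) 1 : Submodule k V) ≠ ⊥ := by
      intro hc
      rw [hc, finrank_bot] at hS1
      exact zero_ne_one hS1
    obtain ⟨y, hy, hy0⟩ := (Submodule.ne_bot_iff _).1 h2
    obtain ⟨y1, y2⟩ := Submodule.mem_inf.1 hy
    rw [End.mem_eigenspace_iff, one_smul] at y2
    exact hy0 (h.no_fix h3 irr hn2 y2 (hd y y2) (h1 y y1 y2))
  rcases (show m1 = 1 ∨ m1 = 2 by omega) with hm1'' | hm1''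
  · exact final _ i5 i6 i7 (by omega) (by rw [hm1', hm1''])
  · refine final (spanO (op v R [5]) x0 (op v R [7] x0) ⊓ LinearMap.ker φ) ?_ ?_ ?_ ?_ ?_
    · intro u hu
      obtain ⟨u1, u2⟩ := Submodule.mem_inf.1 hu
      refine Submodule.mem_inf.2 ⟨i5 u u1, ?_⟩
      rw [LinearMap.mem_ker] at u2 ⊢
      rw [eX, u2]
    · intro u hu
      obtain ⟨u1, u2⟩ := Submodule.mem_inf.1 hu
      refine Submodule.mem_inf.2 ⟨i6 u u1, ?_⟩
      rw [LinearMap.mem_ker] at u2 ⊢
      rw [eD, u2]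
    · intro u hu
      obtain ⟨u1, u2⟩ := Submodule.mem_inf.1 hu
      refine Submodule.mem_inf.2 ⟨i7 u u1, ?_⟩
      rw [LinearMap.mem_ker] at u2 ⊢
      rw [eW u u1, u2]
    · have h1 := finrank_inf_ker φ _ (x0_mem (X := op v R [5]) (x0 := x0) (u := op v R [7] x0)) e0
      omega
    · have h1 := finrank_inf_ker φ _ hxU e0
      rw [hm1'] at h1
      rw [inf_right_comm]
      omega

end Cfsg.Agent.H6.M11
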