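import Cfsg.Agent.H6.M11.LemF

/-!
# Orbits of 12 vectors, characteristic 3 (helper6)
-/

set_option autoImplicit false
set_option linter.unusedSectionVars false
set_option linter.unusedVariables false
set_option maxRecDepth 100000

namespace Cfsg.Agent.H6.M11

open Module LinearMap

section orb

variable {k : Type*} [Field k] {V : Type*} [AddCommGroup V] [Module k V]

/-- the span of an orbit -/
def spanO (X : End k V) (x0 u : V) : Submodule k V := Submodule.span k (insert x0 (Set.range fun i : ℕ => (X ^ i) u))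

/-- an orbit of 12 vectors -/
structure Twelve (X T : End k V) (x0 u : V) (π : ℕ → ℕ) : Prop where
  pow : X ^ 11 = 1
  fix : X x0 = x0
  Tx : T x0 = u
  Tu : T u = x0
  Ti : ∀ i, 1 ≤ i → i ≤ 10 → T ((X ^ i) u) = (X ^ (π i)) u
  perm : (Finset.Icc 1 10).image π = Finset.Icc 1 10

variable {X T : End k V} {x0 u : V} {π : ℕ → ℕ}

theorem x0_mem : x0 ∈ spanO X x0 u := Submodule.subset_span (Set.mem_insert _ _)

theorem u_mem (i : ℕ) : (X ^ i) u ∈ spanO X x0 u := Submodule.subset_span (Set.mem_insert_of_mem _ ⟨i, rfl⟩)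

/-- invariance of the span -/
theorem map_mem_spanO {A : End k V} (h0 : A x0 ∈ spanO X x0 u) (h1 : ∀ i : ℕ, A ((X ^ i) u) ∈ spanO X x0 u) {y : V}
    (hy : y ∈ spanO X x0 u) : A y ∈ spanO X x0 u := by
  unfold spanO at hy
  induction hy using Submodule.span_induction with
  | mem y hy =>
    rcases hy with rfl | ⟨i, rfl⟩
    · exact h0
    · exact h1 i
  | zero => rw [map_zero]; exact Submodule.zero_mem _
  | add a b _ _ ha hb => rw [map_add]; exact Submodule.add_mem _ ha hb
  | smul c a _ ha => rw [map_smul]; exact Submodule.smul_mem _ _ ha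

theorem X_mem (hf : X x0 = x0) {y : V} (hy : y ∈ spanO X x0 u) : X y ∈ spanO X x0 u := by
  refine map_mem_spanO ?_ ?_ hy
  · rw [hf]; exact x0_mem
  · intro i
    rw [← Module.End.mul_apply, ← pow_succ']
    exact u_mem _

theorem pow_mod (hX : X ^ 11 = 1) (i : ℕ) : X ^ i = X ^ (i % 11) := by
  conv_lhs => rw [← Nat.div_add_mod i 11, pow_add, pow_mul, hX, one_pow, one_mul]

theorem map_mem_spanO' (hX : X ^ 11 = 1) {A : End k V} (h0 : A x0 ∈ spanO X x0 u) (hu : A u ∈ spanO X x0 u)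
    (h1 : ∀ i : ℕ, 1 ≤ i → i ≤ 10 → A ((X ^ i) u) ∈ spanO X x0 u) {y : V}
    (hy : y ∈ spanO X x0 u) : A y ∈ spanO X x0 u := by
  refine map_mem_spanO h0 (fun i => ?_) hy
  rw [pow_mod hX]
  have h2 : i % 11 < 11 := Nat.mod_lt _ (by norm_num)
  rcases Nat.eq_zero_or_pos (i % 11) with h3 | h3
  · rw [h3, pow_zero]; exact hu
  · exact h1 _ h3 (by omega)

namespace Twelve

theorem T_mem (h : Twelve X T x0 u π) {y : V} (hy : y ∈ spanO X x0 u) : T y ∈ spanO X x0 u := by
  refine map_mem_spanO' h.pow ?_ ?_ ?_ hy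
  · rw [h.Tx]; exact u_mem 0
  · rw [h.Tu]; exact x0_mem
  · intro i hi hi'
    rw [h.Ti i hi hi']
    exact u_mem _

theorem range_eq : Finset.range 11 = insert 0 (Finset.Icc 1 10) := by decide

theorem sum_range (f : ℕ → V) : ∑ i ∈ Finset.range 11, f i = f 0 + ∑ i ∈ Finset.Icc 1 10, f i := by
  rw [range_eq, Finset.sum_insert (by simp)]

/-- the sum of the orbit -/
def sumv (X : End k V) (x0 u : V) : V := x0 + (u + ∑ i ∈ Finset.Icc 1 10, (X ^ i) u)

theorem av_u (h11 : ((11 : ℕ) : k) ≠ 0) : u + ∑ i ∈ Finset.Icc 1 10, (X ^ i) u = ((11 : ℕ) : k) • av 11 X u := by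
  rw [av, LinearMap.smul_apply, LinearMap.sum_apply, smul_smul, mul_inv_cancel₀ h11, one_smul, sum_range, pow_zero]
  rfl

theorem X_sum (h : Twelve X T x0 u π) (h11 : ((11 : ℕ) : k) ≠ 0) : X (sumv X x0 u) = sumv X x0 u := by
  rw [sumv, av_u h11, map_add, h.fix, map_smul, av_apply_mem h.pow]

theorem T_sum (h : Twelve X T x0 u π) : T (sumv X x0 u) = sumv X x0 u := by
  have h1 : ∑ i ∈ Finset.Icc 1 10, T ((X ^ i) u) = ∑ i ∈ Finset.Icc 1 10, (X ^ i) u := by
    rw [Finset.sum_congr rfl fun i hi => h.Ti i (Finset.mem_Icc.1 hi).1 (Finset.mem_Icc.1 hi).2]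
    have hinj : Set.InjOn π (Finset.Icc 1 10 : Finset ℕ) := by
      apply Finset.card_image_iff.1
      rw [h.perm]
    conv_rhs => rw [← h.perm]
    rw [Finset.sum_image hinj]
  rw [sumv, map_add, map_add, map_sum, h.Tx, h.Tu, h1]
  abel

/-- the twelve lemma -/
theorem exists_dual (h : Twelve X T x0 u π) (h3 : (3 : k) = 0) (hx0 : x0 ≠ 0) (hs : sumv X x0 u = 0) :
    ∃ φ : V →ₗ[k] k, φ x0 = 1 ∧ (∀ y, φ (X y) = φ y) ∧ ∀ y ∈ spanO X x0 u, φ (T y) = φ y := by
  have h11 := eleven_ne_of3 h3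
  obtain ⟨φ1, hφ1⟩ : ∃ φ1 : Module.Dual k V, φ1 x0 ≠ 0 := by
    by_contra hc
    push Not at hc
    exact hx0 ((Module.forall_dual_apply_eq_zero_iff k x0).1 hc)
  have hav : av 11 X u = x0 := by
    rw [sumv, av_u h11] at hs
    have e : ((11 : ℕ) : k) = -1 := by push_cast; linear_combination 4 * h3
    rw [e, neg_one_smul, add_neg_eq_zero] at hs
    exact hs.symm
  let φ : V →ₗ[k] k := ((φ1 x0)⁻¹ • φ1) ∘ₗ av 11 X
  have e0 : φ x0 = 1 := by
    show (φ1 x0)⁻¹ * φ1 (av 11 X x0) = 1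
    rw [av_apply_of_fix h11 h.fix, inv_mul_cancel₀ hφ1]
  have eX : ∀ y, φ (X y) = φ y := by
    intro y
    show (φ1 x0)⁻¹ * φ1 (av 11 X (X y)) = (φ1 x0)⁻¹ * φ1 (av 11 X y)
    rw [← Module.End.mul_apply, av_mul_self_right h.pow]
  have eu : φ u = 1 := by
    show (φ1 x0)⁻¹ * φ1 (av 11 X u) = 1
    rw [hav, inv_mul_cancel₀ hφ1]
  have ei : ∀ i : ℕ, φ ((X ^ i) u) = 1 := by
    intro i
    induction i with
    | zero => exact eu
    | succ i ih => rw [pow_succ', Module.End.mul_apply, eX, ih]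
  refine ⟨φ, e0, eX, ?_⟩
  intro y hy
  unfold spanO at hy
  induction hy using Submodule.span_induction with
  | mem y hy =>
    rcases hy with rfl | ⟨i, rfl⟩
    · rw [h.Tx, eu, e0]
    · show φ (T ((X ^ i) u)) = φ ((X ^ i) u)
      rw [ei, pow_mod h.pow]
      have h2 : i % 11 < 11 := Nat.mod_lt _ (by norm_num)
      rcases Nat.eq_zero_or_pos (i % 11) with h3 | h3
      · rw [h3, pow_zero]
        show φ (T u) = 1
        rw [h.Tu, e0]
      · rw [h.Ti _ h3 (by omega), ei]
  | zero => rw [map_zero]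
  | add a b _ _ ha hb => rw [map_add, map_add, map_add, ha, hb]
  | smul c a _ ha => rw [map_smul, map_smul, map_smul, ha]

end Twelve

/-- the fixed vectors of `X` in the span -/
theorem finrank_fix_le [FiniteDimensional k V] (h11 : ((11 : ℕ) : k) ≠ 0) (hX : X ^ 11 = 1) (hf : X x0 = x0) :
    finrank k (spanO X x0 u ⊓ End.eigenspace X 1 : Submodule k V) ≤ 2 := by
  have h1 : (spanO X x0 u ⊓ End.eigenspace X 1 : Submodule k V) ≤ Submodule.span k {x0, av 11 X u} := by
    intro y hy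
    obtain ⟨hy1, hy2⟩ := Submodule.mem_inf.1 hy
    rw [End.mem_eigenspace_iff, one_smul] at hy2
    have h2 : ∀ z ∈ spanO X x0 u, av 11 X z ∈ Submodule.span k {x0, av 11 X u} := by
      intro z hz
      unfold spanO at hz
      induction hz using Submodule.span_induction with
      | mem z hz =>
        rcases hz with rfl | ⟨i, rfl⟩
        · rw [av_apply_of_fix h11 hf]; exact Submodule.subset_span (by simp)
        · show av 11 X ((X ^ i) u) ∈ _
          have h3 : av 11 X ((X ^ i) u) = av 11 X u := by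
            rw [← Module.End.mul_apply, ← ((comm_av (Commute.refl X)).pow_left i).eq, pow_mul_av hX]
          rw [h3]; exact Submodule.subset_span (by simp)
      | zero => rw [map_zero]; exact Submodule.zero_mem _
      | add a b _ _ ha hb => rw [map_add]; exact Submodule.add_mem _ ha hb
      | smul c a _ ha => rw [map_smul]; exact Submodule.smul_mem _ _ ha
    have h4 := h2 y hy1
    rwa [av_apply_of_fix h11 hy2] at h4
  refine (Submodule.finrank_mono h1).trans ?_
  classical
  have h2 := finrank_span_finset_le_card (R := k) ({x0, av 11 X u} : Finset V)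
  rw [Finset.coe_pair] at h2
  exact h2.trans Finset.card_le_two

end orb

end Cfsg.Agent.H6.M11
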