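import Mathlib

/-!
# Relations of the Mathieu group of degree 11 (helper6)

Letters: `0 = e₁, 1 = e₂` (elementary abelian of order 9), `2 = y, 3 = s` (semidihedral of order 16), `4 = e₃` (order 3,
centralizes `y⁴`), `5 = x` (order 11), `6 = d` (order 5, normalizes `x`), `7 = w` (`x, d, w` generate `L₂(11)`),
`8 = t`. `Sat v` : the elements `v 0, …, v 8` satisfy the relations `relL`.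
-/

set_option autoImplicit false
set_option maxRecDepth 100000

namespace Cfsg.Agent.H6.M11

/-- value of a word -/
def ev {G : Type*} [Group G] (v : ℕ → G) (w : List ℕ) : G := (w.map v).prod

/-- relations -/
def baseL : List (List ℕ × List ℕ) := [
  ([0,0,0], []), ([1,1,1], []), ([0,1], [1,0]),
  ([2,2,2,2,2,2,2,2], []), ([3,3], []), ([3,2], [2,2,2,3]),
  ([2,0], [0,1,2]), ([2,1], [0,0,1,2]), ([3,0], [0,3]),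
  ([3,1], [1,1,3]), ([4,4,4], []), ([4,2,2], [3,2,4]),
  ([4,3,2], [3,2,2,2,2,2,2,2,4]), ([4,3,2,2,2,2,2,2,2], [2,2,4]), ([4,2,2,2,2], [2,2,2,2,4]),
  ([3,4], [4,4,3]), ([5,5,5,5,5,5,5,5,5,5,5], []), ([6,6,6,6,6], []),
  ([7,7], []), ([6,5], [5,5,5,5,6]), ([7,6], [6,6,6,6,7]),
  ([5,7,5,7,5,7], []), ([8,8], []), ([7,5,7], [5,5,5,5,5,5,5,5,5,5,7,5,5,5,5,5,5,5,5,5,5]),
  ([7,5,5,7], [5,5,5,5,5,7,5,5,5,5,5,5,5,5,5,6]), ([7,5,5,5,7], [5,5,5,5,5,5,5,7,5,5,5,5,5,5,5,5,6,6,6]), ([7,5,5,5,5,7], [5,5,5,5,5,5,5,5,7,5,5,5,5,5,5,5,6,6]),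
  ([7,5,5,5,5,5,7], [5,5,7,5,5,5,5,5,5,6,6,6,6]), ([7,5,5,5,5,5,5,7], [5,5,5,5,5,5,5,5,5,7,5,5,5,5,5,6,6,6,6]), ([7,5,5,5,5,5,5,5,7], [5,5,5,7,5,5,5,5,6,6]),
  ([7,5,5,5,5,5,5,5,5,7], [5,5,5,5,7,5,5,5,6,6,6]), ([7,5,5,5,5,5,5,5,5,5,7], [5,5,5,5,5,5,7,5,5,6]), ([7,5,5,5,5,5,5,5,5,5,5,7], [5,7,5]),
  ([8,5,8], [5,5,8,5,5,5,5,6,6,7,5,5,5,5,5,5,5,5,5,5]), ([8,5,5,8], [5,8,5,6,6,7,5,5,5,5,5,5,5]), ([8,5,5,5,8], [5,5,5,5,5,8,5,6,6,6,6,7,5,5,5,5,5,5,5]),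
  ([8,5,5,5,5,8], [5,5,5,5,5,5,5,5,5,5,8,5,5,6,6,6,6,7,5,5,5,5,5,5]), ([8,5,5,5,5,5,8], [5,5,5,8,5,5,5,5,6,6,6,6,7,5,5,5,5,5,5,5,5,5,5]), ([8,5,5,5,5,5,5,8], [5,5,5,5,5,5,8,5,5,5,5,5,7,5,5,5,5,5,5]),
  ([8,5,5,5,5,5,5,5,8], [5,5,5,5,5,5,5,8,5,5,5,5,5,5,5,6,6,6,7,5,5,5,5]), ([8,5,5,5,5,5,5,5,5,8], [5,5,5,5,5,5,5,5,8,5,6,6,6,6,7,5,5,5,5,5,5,5,5,5,5]), ([8,5,5,5,5,5,5,5,5,5,8], [5,5,5,5,5,5,5,5,5,8,6,6,7]),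
  ([8,5,5,5,5,5,5,5,5,5,5,8], [5,5,5,5,8,5,5,5,5,5,6,6,6,6,7,5,5,5,5,5,5,5,5,5]), ([5], [2,0,2,3,4,0,4]), ([8], [2,3,2,0]),
  ([6], [3,1,4,0,4,0,1]), ([7], [2,1,2,2,2]), ([0,2], [2,0,0,1]),
  ([1,2], [2,0,0,1,1]), ([3,2,2], [2,2,2,2,2,2,3]), ([2,2,4], [4,3,2,2,2,2,2,2,2]),
  ([3,2,4], [4,2,2]), ([3,2,2,2,2,2,2,2,4], [4,3,2]), ([2,2,3,2], [3,2,2,2,2,2,2,2]),
  ([3,2,3,2], [2,2,2,2]), ([3,2,2,2], [2,2,2,2,2,2,3,2]), ([5,6], [6,5,5,5]),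
  ([2,2,0], [1,1,2,2]), ([2,2,1], [0,2,2]), ([4,4,3], [3,4]),
  ([1,3], [3,1,1]), ([2,2,2,2,0], [0,0,2,2,2,2]), ([2,2,2,2,1], [1,1,2,2,2,2]),
  ([3,2,2,2,2], [2,2,2,2,3]), ([3,2,3], [3,3,2,2,2]), ([2,2,3], [3,2,2,2,2,2,2]),
  ([3,3,2], [3,2,2,2,3]), ([4,3], [3,4,4])]

/-- conjugations `(c, u, w)` : `c u = w c` -/
def certL : List (List ℕ × List ℕ × List ℕ) := [
  ([2,2], [1], [0]), ([4,3,6], [4], [0]), ([2,4,5], [7], [3]),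
  ([7], [0,0], [0]), ([2,8], [0,1], [0]), ([2,2,3], [1,1], [0]),
  ([7], [2,0], [2]), ([0,1], [2,1], [2]), ([7], [3,1], [3]),
  ([4,4], [3,2], [2,2]), ([], [3,3], []), ([4,3], [3,4], [3]),
  ([4], [4,2], [2,2,2,2,2,2,2]), ([4], [4,3], [3]), ([2,6,0,2], [4,4], [0]),
  ([6,6], [5,5], [5,5,5,5,5,5,5,5,5,5]), ([4,6,1,1], [5,7], [0]), ([0,3,7,2], [6,6], [6]),
  ([2], [0,0,1], [0]), ([2,7], [0,1,1], [0]), ([0,2], [2,0,0], [2]),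
  ([0,0], [2,0,1], [2]), ([1,2], [2,1,1], [2]), ([1,2], [2,2,0], [2,2]),
  ([7], [2,2,1], [2,2]), ([3], [2,2,2], [2]), ([8], [3,0,0], [3,0]),
  ([1,1], [3,0,1], [3,0]), ([1], [3,1,1], [3]), ([3,4,1,3], [3,2,0], [2,2]),
  ([6,5,5], [3,2,1], [2,2]), ([2,3], [3,2,2], [3]), ([], [3,3,2], [2]),
  ([4,3,5], [3,4,2], [0]), ([2,6,0,2], [3,4,3], [0]), ([4], [3,4,4], [3]),
  ([1,2,6,0], [4,2,2], [3,0]), ([6,6,1], [4,3,2], [3,0]), ([1,6], [4,4,2], [3]),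
  ([4,3], [4,4,3], [3]), ([6], [5,5,5], [5]), ([7,5,7], [5,5,7], [5,5,5,5,5,5,5,5,5,5]),
  ([3,2,1], [6,6,6], [6]), ([2,3], [0,0,1,1], [0]), ([0,7], [2,0,0,1], [2]),
  ([1], [2,0,1,1], [2]), ([0,1], [2,2,0,0], [2,2]), ([1], [2,2,0,1], [2,2]),
  ([0,2], [2,2,1,1], [2,2]), ([1,8], [2,2,2,0], [2]), ([8,2], [2,2,2,1], [2]),
  ([4,3,5], [2,2,2,2], [3]), ([7], [3,0,0,1], [3,0]), ([1], [3,0,1,1], [3,0]),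
  ([4,4,1], [3,2,0,0], [2,2]), ([3,4,8,0], [3,2,0,1], [2,2]), ([4,4,7], [3,2,1,1], [2,2]),
  ([2,3,1], [3,2,2,0], [3,0]), ([1,2,3], [3,2,2,1], [3,0]), ([3,4], [3,2,2,2], [2,2]),
  ([], [3,3,2,2], [2,2]), ([4,4], [3,4,2,2], [2,2,2,2,2,2,2]), ([1,6], [3,4,3,2], [3]),
  ([6,6,1], [3,4,4,2], [3,0]), ([4,3,6], [3,4,4,3], [0]), ([2,4], [4,2,2,2], [3]),
  ([4], [4,3,2,2], [2]), ([2,6,0,3], [4,4,2,2], [0]), ([4,3,5], [4,4,3,2], [0]),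
  ([3,6,0], [5,5,5,5], [5]), ([2,4,3,5], [5,5,5,7], [6]), ([7], [6,6,6,6], [6]),
  ([0], [2,0,0,1,1], [2]), ([0,0], [2,2,0,0,1], [2,2]), ([0], [2,2,0,1,1], [2,2]),
  ([0,2,3], [2,2,2,0,0], [2]), ([1,3], [2,2,2,0,1], [2]), ([3,7], [2,2,2,1,1], [2]),
  ([1,2,6], [2,2,2,2,0], [3]), ([6,6], [2,2,2,2,1], [3]), ([3], [2,2,2,2,2], [2,2,2,2,2,2,2]),
  ([1,7], [3,0,0,1,1], [3,0]), ([1,8,5,4], [3,2,0,0,1], [2,2]), ([0,6,1,4], [3,2,0,1,1], [2,2]),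
  ([2,8], [3,2,2,0,0], [3,0]), ([1,2,8], [3,2,2,0,1], [3,0]), ([2,3,7], [3,2,2,1,1], [3,0]),
  ([3,4,1], [3,2,2,2,0], [2,2]), ([3,4,0,1], [3,2,2,2,1], [2,2]), ([2,2], [3,2,2,2,2], [3]),
  ([3], [3,3,2,2,2], [2]), ([6,6,1,3], [3,4,2,2,2], [3,0]), ([2,6,0,3], [3,4,3,2,2], [0]),
  ([4], [3,4,4,2,2], [2]), ([4], [3,4,4,3,2], [2,2,2,2,2,2,2]), ([1,4,4,6], [4,2,2,2,2], [3,0]),
  ([2,6,0,4], [4,3,2,2,2], [0]), ([4,2], [4,4,2,2,2], [2,2,2,2,2,2,2]), ([4,4], [4,4,3,2,2], [2,2,2,2,2,2,2]),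
  ([6,6,6], [5,5,5,5,5], [5]), ([1,2,5,2,1], [5,5,5,5,7], [6]), ([0,7], [2,2,0,0,1,1], [2,2]),
  ([8], [2,2,2,0,0,1], [2]), ([8,0], [2,2,2,0,1,1], [2]), ([5,6,4], [2,2,2,2,0,0], [3]),
  ([4,7,4], [2,2,2,2,0,1], [3]), ([6,6,3], [2,2,2,2,1,1], [3]), ([1,3], [2,2,2,2,2,0], [2,2,2,2,2,2,2]),
  ([8], [2,2,2,2,2,1], [2,2,2,2,2,2,2]), ([3], [2,2,2,2,2,2], [2,2]), ([3,4,8], [3,2,0,0,1,1], [2,2]),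
  ([2,5], [3,2,2,0,0,1], [3]), ([2,8], [3,2,2,0,1,1], [3]), ([3,4,0,7], [3,2,2,2,0,0], [2,2]),
  ([3,4,7], [3,2,2,2,0,1], [2,2]), ([3,4,7,0], [3,2,2,2,1,1], [2,2]), ([1,2,2], [3,2,2,2,2,0], [3]),
  ([2,2], [3,2,2,2,2,1], [3,0]), ([4,2], [3,2,2,2,2,2], [2,2]), ([4,3,5], [3,3,2,2,2,2], [3]),
  ([4,2], [3,4,2,2,2,2], [3]), ([4,2], [3,4,3,2,2,2], [2,2,2,2,2,2,2]), ([2,6,0,4], [3,4,4,2,2,2], [0]),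
  ([1,2,6,0], [3,4,4,3,2,2], [3,0]), ([3,4], [4,2,2,2,2,2], [2]), ([1,6,2], [4,3,2,2,2,2], [3]),
  ([7,4,3,6], [4,4,2,2,2,2], [3,0]), ([6,6,1,3], [4,4,3,2,2,2], [3,0]), ([6,6,6], [5,5,5,5,5,5], [5,5,5,5,5,5,5,5,5,5]),
  ([4,0,0,2], [5,5,5,5,5,7], [3,0]), ([3,1], [2,2,2,0,0,1,1], [2]), ([2,3,5], [2,2,2,2,0,0,1], [3]),
  ([2,4,5], [2,2,2,2,0,1,1], [3]), ([3,1], [2,2,2,2,2,0,0], [2,2,2,2,2,2,2]), ([3,7], [2,2,2,2,2,0,1], [2,2,2,2,2,2,2]),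
  ([8,0], [2,2,2,2,2,1,1], [2,2,2,2,2,2,2]), ([8,2], [2,2,2,2,2,2,0], [2,2]), ([0,2,3], [2,2,2,2,2,2,1], [2,2]),
  ([2,3], [3,2,2,0,0,1,1], [3,0]), ([3,4,0], [3,2,2,2,0,0,1], [2,2]), ([1,6,6,5], [3,2,2,2,0,1,1], [2,2]),
  ([2,2,0], [3,2,2,2,2,0,0], [3]), ([1,2,2], [3,2,2,2,2,0,1], [3,0]), ([2,2,3], [3,2,2,2,2,1,1], [3,0]),
  ([4,1,8], [3,2,2,2,2,2,0], [2,2]), ([4,8], [3,2,2,2,2,2,1], [2,2]), ([2], [3,2,2,2,2,2,2], [3]),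
  ([3], [3,3,2,2,2,2,2], [2,2,2,2,2,2,2]), ([4,3,5], [3,4,2,2,2,2,2], [3,0]), ([7,4,3,6], [3,4,3,2,2,2,2], [3,0]),
  ([1,6,2], [3,4,4,2,2,2,2], [3]), ([2,4], [3,4,4,3,2,2,2], [3]), ([2,6,0], [4,2,2,2,2,2,2], [0]),
  ([6,6,1], [4,3,2,2,2,2,2], [0]), ([1,4,6], [4,4,2,2,2,2,2], [3]), ([4,2], [4,4,3,2,2,2,2], [3]),
  ([3,6,0], [5,5,5,5,5,5,5], [5,5,5,5,5,5,5,5,5,5]), ([4,2], [5,5,5,5,5,5,7], [3,0]), ([6,6,2], [2,2,2,2,0,0,1,1], [3]),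
  ([1,8], [2,2,2,2,2,0,0,1], [2,2,2,2,2,2,2]), ([0,2,3], [2,2,2,2,2,0,1,1], [2,2,2,2,2,2,2]), ([3,7], [2,2,2,2,2,2,0,0], [2,2]),
  ([8], [2,2,2,2,2,2,0,1], [2,2]), ([1,8], [2,2,2,2,2,2,1,1], [2,2]), ([1], [2,2,2,2,2,2,2,0], [2,2,2,2,2,2,2]),
  ([0,0], [2,2,2,2,2,2,2,1], [2,2,2,2,2,2,2]), ([4,8,2], [3,2,2,2,0,0,1,1], [2,2]), ([2,2,0], [3,2,2,2,2,0,0,1], [3,0]),
  ([1,2,2,3], [3,2,2,2,2,0,1,1], [3,0]), ([4,1,2], [3,2,2,2,2,2,0,0], [2,2]), ([4,0,2], [3,2,2,2,2,2,0,1], [2,2]),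
  ([4,8,0], [3,2,2,2,2,2,1,1], [2,2]), ([1,1,2], [3,2,2,2,2,2,2,0], [3,0]), ([7,2], [3,2,2,2,2,2,2,1], [3,0]),
  ([4], [3,2,2,2,2,2,2,2], [2,2]), ([3], [3,3,2,2,2,2,2,2], [2,2]), ([4,2], [3,4,2,2,2,2,2,2], [2]),
  ([1,4,6], [3,4,3,2,2,2,2,2], [3]), ([6,6,1], [3,4,4,2,2,2,2,2], [0]), ([1,4,4,6], [3,4,4,3,2,2,2,2], [3,0]),
  ([2,3,4], [4,2,2,2,2,2,2,2], [3]), ([3,4], [4,3,2,2,2,2,2,2], [2,2,2,2,2,2,2]), ([4,2,6,5], [4,4,2,2,2,2,2,2], [3,0]),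
  ([4,3,5], [4,4,3,2,2,2,2,2], [3,0]), ([6], [5,5,5,5,5,5,5,5], [5,5,5,5,5,5,5,5,5,5]), ([1,6,8], [5,5,5,5,5,5,5,7], [6]),
  ([8,2], [2,2,2,2,2,0,0,1,1], [2,2,2,2,2,2,2]), ([3,1], [2,2,2,2,2,2,0,0,1], [2,2]), ([1,3], [2,2,2,2,2,2,0,1,1], [2,2]),
  ([0,7], [2,2,2,2,2,2,2,0,0], [2,2,2,2,2,2,2]), ([0,2], [2,2,2,2,2,2,2,0,1], [2,2,2,2,2,2,2]), ([0], [2,2,2,2,2,2,2,1,1], [2,2,2,2,2,2,2]),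
  ([2,2,7], [3,2,2,2,2,0,0,1,1], [3,0]), ([4,1,3], [3,2,2,2,2,2,0,0,1], [2,2]), ([4,2,1], [3,2,2,2,2,2,0,1,1], [2,2]),
  ([1,7,2], [3,2,2,2,2,2,2,0,0], [3,0]), ([1,2], [3,2,2,2,2,2,2,0,1], [3]), ([1,2], [3,2,2,2,2,2,2,1,1], [3,0]),
  ([4,7], [3,2,2,2,2,2,2,2,0], [2,2]), ([4,0,0], [3,2,2,2,2,2,2,2,1], [2,2]), ([], [3,3,2,2,2,2,2,2,2], [2,2,2,2,2,2,2]),
  ([4,7,5,8], [3,4,2,2,2,2,2,2,2], [0]), ([4,2,6,5], [3,4,3,2,2,2,2,2,2], [3,0]), ([3,4], [3,4,4,2,2,2,2,2,2], [2,2,2,2,2,2,2]),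
  ([3,4], [3,4,4,3,2,2,2,2,2], [2]), ([4,3,5,3], [4,3,2,2,2,2,2,2,2], [3,0]), ([4,4], [4,4,2,2,2,2,2,2,2], [2]),
  ([4,2], [4,4,3,2,2,2,2,2,2], [2]), ([6,6], [5,5,5,5,5,5,5,5,5], [5]), ([0,0,1,6,6], [5,5,5,5,5,5,5,5,7], [6]),
  ([8,0], [2,2,2,2,2,2,0,0,1,1], [2,2]), ([1,2], [2,2,2,2,2,2,2,0,0,1], [2,2,2,2,2,2,2]), ([0,1], [2,2,2,2,2,2,2,0,1,1], [2,2,2,2,2,2,2]),
  ([4,2,7], [3,2,2,2,2,2,0,0,1,1], [2,2]), ([2], [3,2,2,2,2,2,2,0,0,1], [3,0]), ([2,7], [3,2,2,2,2,2,2,0,1,1], [3,0]),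
  ([3,4,8,2], [3,2,2,2,2,2,2,2,0,0], [2,2]), ([4,0,7], [3,2,2,2,2,2,2,2,0,1], [2,2]), ([4,0], [3,2,2,2,2,2,2,2,1,1], [2,2]),
  ([4,4], [3,4,3,2,2,2,2,2,2,2], [2]), ([4,3,5,3], [3,4,4,2,2,2,2,2,2,2], [3,0]), ([2,6,0], [3,4,4,3,2,2,2,2,2,2], [0]),
  ([4,7,5,8], [4,4,3,2,2,2,2,2,2,2], [0]), ([7,5], [5,5,5,5,5,5,5,5,5,7], [5]), ([7], [2,2,2,2,2,2,2,0,0,1,1], [2,2,2,2,2,2,2]),
  ([5,5], [3,2,2,2,2,2,2,0,0,1,1], [3]), ([4,0,1], [3,2,2,2,2,2,2,2,0,0,1], [2,2]), ([4,7,0], [3,2,2,2,2,2,2,2,0,1,1], [2,2]),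
  ([2,3,4], [3,4,4,3,2,2,2,2,2,2,2], [3]), ([4,0,6,6], [5,5,5,5,5,5,5,5,5,5,7], [0]), ([4,1], [3,2,2,2,2,2,2,2,0,0,1,1], [2,2])]

/-- relations of `L₂(11)`, letters `5, 6, 7` -/
def baseLL : List (List ℕ × List ℕ) := [
  ([5,5,5,5,5,5,5,5,5,5,5], []), ([6,6,6,6,6], []), ([7,7], []),
  ([5,7,5,7,5,7], []), ([6,5], [5,5,5,5,6]), ([5,6], [6,5,5,5]),
  ([7,6], [6,6,6,6,7]), ([6,7], [7,6,6,6,6]), ([5,5,5,5,5,7,5,5,5,5,5,7,5,5,5,5,5,7,5,5,5,5,5,7,5,5,5,5,5,7,5,5,5,5,5,7], []),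
  ([7,5,7], [5,5,5,5,5,5,5,5,5,5,7,5,5,5,5,5,5,5,5,5,5]), ([7,5,5,7], [5,5,5,5,5,7,5,5,5,5,5,5,5,5,5,6]), ([7,5,5,5,7], [5,5,5,5,5,5,5,7,5,5,5,5,5,5,5,5,6,6,6]),
  ([7,5,5,5,5,7], [5,5,5,5,5,5,5,5,7,5,5,5,5,5,5,5,6,6]), ([7,5,5,5,5,5,7], [5,5,7,5,5,5,5,5,5,6,6,6,6]), ([7,5,5,5,5,5,5,7], [5,5,5,5,5,5,5,5,5,7,5,5,5,5,5,6,6,6,6]),
  ([7,5,5,5,5,5,5,5,7], [5,5,5,7,5,5,5,5,6,6]), ([7,5,5,5,5,5,5,5,5,7], [5,5,5,5,7,5,5,5,6,6,6]), ([7,5,5,5,5,5,5,5,5,5,7], [5,5,5,5,5,5,7,5,5,6]),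
  ([7,5,5,5,5,5,5,5,5,5,5,7], [5,7,5])]

/-- conjugations in `L₂(11)` -/
def certLL : List (List ℕ × List ℕ × List ℕ) := [
  ([6,6], [5,5], [5,5,5,5,5,5,5,5,5,5]), ([5,5,5,5,5], [6,5], [6]), ([6,6,6], [7,6], [7]),
  ([6], [5,5,5], [5]), ([7,5,7], [5,5,7], [5,5,5,5,5,5,5,5,5,5]), ([5,5,5,5,5,5,5,5,5,5], [6,5,5], [6]),
  ([5,5,5,5], [6,6,5], [6,6]), ([7], [6,6,6], [6,6]), ([6], [7,6,6], [7]),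
  ([7,6,7], [5,5,5,5], [5]), ([5,5,7,6,5,5], [5,5,5,7], [6]), ([5,5,5,5], [6,5,5,5], [6]),
  ([5,5,5,5,5,5,5,5], [6,6,5,5], [6,6]), ([5,5,5,5,5,5,5,5], [6,6,6,5], [6,6,6]), ([7], [6,6,6,6], [6]),
  ([6,7], [7,6,6,6], [7]), ([6,6,6], [5,5,5,5,5], [5]), ([5,6,7,5,6,5], [5,5,5,5,7], [6,6]),
  ([5,5,5,5,5,5,5,5,5], [6,5,5,5,5], [6]), ([5], [6,6,5,5,5], [6,6]), ([5,5,5,5,5], [6,6,6,5,5], [6,6,6]),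
  ([5,5,5,5,5,5,5], [6,6,6,6,5], [6,6,6,6]), ([6,6], [7,6,6,6,6], [7]), ([6,6,6], [5,5,5,5,5,5], [5,5,5,5,5,5,5,5,5,5]),
  ([5,5,5], [6,5,5,5,5,5], [6]), ([5,5,5,5,5], [6,6,5,5,5,5], [6,6]), ([5,5], [6,6,6,5,5,5], [6,6,6]),
  ([5,5,5], [6,6,6,6,5,5], [6,6,6,6]), ([7,6,7], [5,5,5,5,5,5,5], [5,5,5,5,5,5,5,5,5,5]), ([5,7,5,6,5], [5,5,5,5,5,5,7], [5,5,5,5,5,7]),
  ([5,5,5,5,5,5,5,5], [6,5,5,5,5,5,5], [6]), ([5,5,5,5,5,5,5,5,5], [6,6,5,5,5,5,5], [6,6]), ([5,5,5,5,5,5,5,5,5,5], [6,6,6,5,5,5,5], [6,6,6]),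
  ([5,5,5,5,5,5,5,5,5,5], [6,6,6,6,5,5,5], [6,6,6,6]), ([6], [5,5,5,5,5,5,5,5], [5,5,5,5,5,5,5,5,5,5]), ([5,5,7,5,5,6,6], [5,5,5,5,5,5,5,7], [6,6]),
  ([5,5], [6,5,5,5,5,5,5,5], [6]), ([5,5], [6,6,5,5,5,5,5,5], [6,6]), ([5,5,5,5,5,5,5], [6,6,6,5,5,5,5,5], [6,6,6]),
  ([5,5,5,5,5,5], [6,6,6,6,5,5,5,5], [6,6,6,6]), ([6,6], [5,5,5,5,5,5,5,5,5], [5]), ([5,7,6,6,5,6,6], [5,5,5,5,5,5,5,5,7], [6]),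
  ([5,5,5,5,5,5,5], [6,5,5,5,5,5,5,5,5], [6]), ([5,5,5,5,5,5], [6,6,5,5,5,5,5,5,5], [6,6]), ([5,5,5,5], [6,6,6,5,5,5,5,5,5], [6,6,6]),
  ([5,5], [6,6,6,6,5,5,5,5,5], [6,6,6,6]), ([7,5], [5,5,5,5,5,5,5,5,5,7], [5]), ([5], [6,5,5,5,5,5,5,5,5,5], [6]),
  ([5,5,5,5,5,5,5,5,5,5], [6,6,5,5,5,5,5,5,5,5], [6,6]), ([5], [6,6,6,5,5,5,5,5,5,5], [6,6,6]), ([5,5,5,5,5,5,5,5,5], [6,6,6,6,5,5,5,5,5,5], [6,6,6,6]),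
  ([6,5,6,5,7,5,6], [5,5,5,5,5,5,5,5,5,5,7], [5,7]), ([5,5,5,5,5,5], [6,5,5,5,5,5,5,5,5,5,5], [6]), ([5,5,5], [6,6,5,5,5,5,5,5,5,5,5], [6,6]),
  ([5,5,5,5,5,5,5,5,5], [6,6,6,5,5,5,5,5,5,5,5], [6,6,6]), ([5,5,5,5,5], [6,6,6,6,5,5,5,5,5,5,5], [6,6,6,6]), ([5,5,5,5,5,5,5], [6,6,5,5,5,5,5,5,5,5,5,5], [6,6]),
  ([5,5,5,5,5,5], [6,6,6,5,5,5,5,5,5,5,5,5], [6,6,6]), ([5], [6,6,6,6,5,5,5,5,5,5,5,5], [6,6,6,6]), ([5,5,5], [6,6,6,5,5,5,5,5,5,5,5,5,5], [6,6,6]),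
  ([5,5,5,5,5,5,5,5], [6,6,6,6,5,5,5,5,5,5,5,5,5], [6,6,6,6]), ([5,5,5,5], [6,6,6,6,5,5,5,5,5,5,5,5,5,5], [6,6,6,6]), ([6,6,5,6], [5,5,5,5,5,7,5,5,5,5,5,7,5,5,5,5,5,7], [7])]

/-- all relations of `L₂(11)` -/
def relLL : List (List ℕ × List ℕ) := baseLL ++ certLL.map fun r => (r.1 ++ r.2.1, r.2.2 ++ r.1)

/-- all relations -/
def relL : List (List ℕ × List ℕ) := (baseL ++ certL.map fun r => (r.1 ++ r.2.1, r.2.2 ++ r.1)) ++ relLL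

/-- the relations of `L₂(11)` hold -/
def SatL {G : Type*} [Group G] (v : ℕ → G) : Prop := ∀ r ∈ relLL, ev v r.1 = ev v r.2

/-- the relations hold -/
def Sat {G : Type*} [Group G] (v : ℕ → G) : Prop := ∀ r ∈ relL, ev v r.1 = ev v r.2

section

variable {G : Type*} [Group G] (v : ℕ → G)

@[simp] theorem ev_nil : ev v [] = 1 := rfl

theorem ev_cons (i : ℕ) (w : List ℕ) : ev v (i :: w) = v i * ev v w := by simp [ev]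

theorem ev_append (u w : List ℕ) : ev v (u ++ w) = ev v u * ev v w := by simp [ev]

theorem map_ev {H : Type*} [Group H] (f : G →* H) (w : List ℕ) : f (ev v w) = ev (fun i => f (v i)) w := by
  induction w with
  | nil => simp
  | cons i w ih => rw [ev_cons, map_mul, ih, ev_cons]

variable {v}

theorem Sat.map {H : Type*} [Group H] (h : Sat v) (f : G →* H) : Sat (fun i => f (v i)) := by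
  intro r hr
  rw [← map_ev, ← map_ev, h r hr]

theorem Sat.of_injective {H : Type*} [Group H] {f : G →* H} (hf : Function.Injective f)
    (h : Sat (fun i => f (v i))) : Sat v := by
  intro r hr
  apply hf
  rw [map_ev, map_ev]
  exact h r hr

theorem Sat.base (h : Sat v) {a b : List ℕ} (hr : (a, b) ∈ baseL) : ev v a = ev v b :=
  h (a, b) (List.mem_append_left _ (List.mem_append_left _ hr))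

theorem Sat.cert (h : Sat v) {c a b : List ℕ} (hr : (c, a, b) ∈ certL) : ev v c * ev v a = ev v b * ev v c := by
  rw [← ev_append, ← ev_append]
  exact h (c ++ a, b ++ c) (List.mem_append_left _ (List.mem_append_right _ (List.mem_map.2 ⟨(c, a, b), hr, rfl⟩)))

theorem Sat.toL (h : Sat v) : SatL v := fun r hr => h r (List.mem_append_right _ hr)

theorem SatL.base (h : SatL v) {a b : List ℕ} (hr : (a, b) ∈ baseLL) : ev v a = ev v b :=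
  h (a, b) (List.mem_append_left _ hr)

theorem SatL.cert (h : SatL v) {c a b : List ℕ} (hr : (c, a, b) ∈ certLL) : ev v c * ev v a = ev v b * ev v c := by
  rw [← ev_append, ← ev_append]
  exact h (c ++ a, b ++ c) (List.mem_append_right _ (List.mem_map.2 ⟨(c, a, b), hr, rfl⟩))

theorem SatL.of_injective {H : Type*} [Group H] {f : G →* H} (hf : Function.Injective f)
    (h : SatL (fun i => f (v i))) : SatL v := by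
  intro r hr
  apply hf
  rw [map_ev, map_ev]
  exact h r hr

end

end Cfsg.Agent.H6.M11
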