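import Cfsg.Agent.H6.M11.Elem

/-!
# Table of traces (helper6)

Generated: `t_abc` is the trace of the word `abc` in terms of the representative of its class.
-/

set_option autoImplicit false
set_option linter.unusedSectionVars false
set_option maxRecDepth 100000

namespace Cfsg.Agent.H6.M11

open Module LinearMap

variable {G : Type*} [Group G] {v : ℕ → G} {k : Type*} [Field k] {V : Type*} [AddCommGroup V] [Module k V]
  {R : G →* End k V}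

theorem Sat.t_1 (h : Sat v) : tw v R [1] = tw v R [0] := h.tw_eq [2, 2] (by decide +kernel)
theorem Sat.t_4 (h : Sat v) : tw v R [4] = tw v R [0] := h.tw_eq [4, 3, 6] (by decide +kernel)
theorem Sat.t_7 (h : Sat v) : tw v R [7] = tw v R [3] := h.tw_eq [2, 4, 5] (by decide +kernel)
theorem Sat.t_00 (h : Sat v) : tw v R [0, 0] = tw v R [0] := h.tw_eq [7] (by decide +kernel)
theorem Sat.t_01 (h : Sat v) : tw v R [0, 1] = tw v R [0] := h.tw_eq [2, 8] (by decide +kernel)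
theorem Sat.t_11 (h : Sat v) : tw v R [1, 1] = tw v R [0] := h.tw_eq [2, 2, 3] (by decide +kernel)
theorem Sat.t_20 (h : Sat v) : tw v R [2, 0] = tw v R [2] := h.tw_eq [7] (by decide +kernel)
theorem Sat.t_21 (h : Sat v) : tw v R [2, 1] = tw v R [2] := h.tw_eq [0, 1] (by decide +kernel)
theorem Sat.t_31 (h : Sat v) : tw v R [3, 1] = tw v R [3] := h.tw_eq [7] (by decide +kernel)
theorem Sat.t_32 (h : Sat v) : tw v R [3, 2] = tw v R [2, 2] := h.tw_eq [4, 4] (by decide +kernel)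
theorem Sat.t_33 (h : Sat v) : tw v R [3, 3] = tw v R [] := h.tw_eq [] (by decide +kernel)
theorem Sat.t_34 (h : Sat v) : tw v R [3, 4] = tw v R [3] := h.tw_eq [4, 3] (by decide +kernel)
theorem Sat.t_42 (h : Sat v) : tw v R [4, 2] = tw v R [2, 2, 2, 2, 2, 2, 2] := h.tw_eq [4] (by decide +kernel)
theorem Sat.t_43 (h : Sat v) : tw v R [4, 3] = tw v R [3] := h.tw_eq [4] (by decide +kernel)
theorem Sat.t_44 (h : Sat v) : tw v R [4, 4] = tw v R [0] := h.tw_eq [2, 6, 0, 2] (by decide +kernel)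
theorem Sat.t_55 (h : Sat v) : tw v R [5, 5] = tw v R [5, 5, 5, 5, 5, 5, 5, 5, 5, 5] := h.tw_eq [6, 6] (by decide +kernel)
theorem Sat.t_57 (h : Sat v) : tw v R [5, 7] = tw v R [0] := h.tw_eq [4, 6, 1, 1] (by decide +kernel)
theorem Sat.t_66 (h : Sat v) : tw v R [6, 6] = tw v R [6] := h.tw_eq [0, 3, 7, 2] (by decide +kernel)
theorem Sat.t_001 (h : Sat v) : tw v R [0, 0, 1] = tw v R [0] := h.tw_eq [2] (by decide +kernel)
theorem Sat.t_011 (h : Sat v) : tw v R [0, 1, 1] = tw v R [0] := h.tw_eq [2, 7] (by decide +kernel)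
theorem Sat.t_200 (h : Sat v) : tw v R [2, 0, 0] = tw v R [2] := h.tw_eq [0, 2] (by decide +kernel)
theorem Sat.t_201 (h : Sat v) : tw v R [2, 0, 1] = tw v R [2] := h.tw_eq [0, 0] (by decide +kernel)
theorem Sat.t_211 (h : Sat v) : tw v R [2, 1, 1] = tw v R [2] := h.tw_eq [1, 2] (by decide +kernel)
theorem Sat.t_220 (h : Sat v) : tw v R [2, 2, 0] = tw v R [2, 2] := h.tw_eq [1, 2] (by decide +kernel)
theorem Sat.t_221 (h : Sat v) : tw v R [2, 2, 1] = tw v R [2, 2] := h.tw_eq [7] (by decide +kernel)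
theorem Sat.t_222 (h : Sat v) : tw v R [2, 2, 2] = tw v R [2] := h.tw_eq [3] (by decide +kernel)
theorem Sat.t_300 (h : Sat v) : tw v R [3, 0, 0] = tw v R [3, 0] := h.tw_eq [8] (by decide +kernel)
theorem Sat.t_301 (h : Sat v) : tw v R [3, 0, 1] = tw v R [3, 0] := h.tw_eq [1, 1] (by decide +kernel)
theorem Sat.t_311 (h : Sat v) : tw v R [3, 1, 1] = tw v R [3] := h.tw_eq [1] (by decide +kernel)
theorem Sat.t_320 (h : Sat v) : tw v R [3, 2, 0] = tw v R [2, 2] := h.tw_eq [3, 4, 1, 3] (by decide +kernel)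
theorem Sat.t_321 (h : Sat v) : tw v R [3, 2, 1] = tw v R [2, 2] := h.tw_eq [6, 5, 5] (by decide +kernel)
theorem Sat.t_322 (h : Sat v) : tw v R [3, 2, 2] = tw v R [3] := h.tw_eq [2, 3] (by decide +kernel)
theorem Sat.t_332 (h : Sat v) : tw v R [3, 3, 2] = tw v R [2] := h.tw_eq [] (by decide +kernel)
theorem Sat.t_342 (h : Sat v) : tw v R [3, 4, 2] = tw v R [0] := h.tw_eq [4, 3, 5] (by decide +kernel)
theorem Sat.t_343 (h : Sat v) : tw v R [3, 4, 3] = tw v R [0] := h.tw_eq [2, 6, 0, 2] (by decide +kernel)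
theorem Sat.t_344 (h : Sat v) : tw v R [3, 4, 4] = tw v R [3] := h.tw_eq [4] (by decide +kernel)
theorem Sat.t_422 (h : Sat v) : tw v R [4, 2, 2] = tw v R [3, 0] := h.tw_eq [1, 2, 6, 0] (by decide +kernel)
theorem Sat.t_432 (h : Sat v) : tw v R [4, 3, 2] = tw v R [3, 0] := h.tw_eq [6, 6, 1] (by decide +kernel)
theorem Sat.t_442 (h : Sat v) : tw v R [4, 4, 2] = tw v R [3] := h.tw_eq [1, 6] (by decide +kernel)
theorem Sat.t_443 (h : Sat v) : tw v R [4, 4, 3] = tw v R [3] := h.tw_eq [4, 3] (by decide +kernel)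
theorem Sat.t_555 (h : Sat v) : tw v R [5, 5, 5] = tw v R [5] := h.tw_eq [6] (by decide +kernel)
theorem Sat.t_557 (h : Sat v) : tw v R [5, 5, 7] = tw v R [5, 5, 5, 5, 5, 5, 5, 5, 5, 5] := h.tw_eq [7, 5, 7] (by decide +kernel)
theorem Sat.t_666 (h : Sat v) : tw v R [6, 6, 6] = tw v R [6] := h.tw_eq [3, 2, 1] (by decide +kernel)
theorem Sat.t_0011 (h : Sat v) : tw v R [0, 0, 1, 1] = tw v R [0] := h.tw_eq [2, 3] (by decide +kernel)
theorem Sat.t_2001 (h : Sat v) : tw v R [2, 0, 0, 1] = tw v R [2] := h.tw_eq [0, 7] (by decide +kernel)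
theorem Sat.t_2011 (h : Sat v) : tw v R [2, 0, 1, 1] = tw v R [2] := h.tw_eq [1] (by decide +kernel)
theorem Sat.t_2200 (h : Sat v) : tw v R [2, 2, 0, 0] = tw v R [2, 2] := h.tw_eq [0, 1] (by decide +kernel)
theorem Sat.t_2201 (h : Sat v) : tw v R [2, 2, 0, 1] = tw v R [2, 2] := h.tw_eq [1] (by decide +kernel)
theorem Sat.t_2211 (h : Sat v) : tw v R [2, 2, 1, 1] = tw v R [2, 2] := h.tw_eq [0, 2] (by decide +kernel)
theorem Sat.t_2220 (h : Sat v) : tw v R [2, 2, 2, 0] = tw v R [2] := h.tw_eq [1, 8] (by decide +kernel)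
theorem Sat.t_2221 (h : Sat v) : tw v R [2, 2, 2, 1] = tw v R [2] := h.tw_eq [8, 2] (by decide +kernel)
theorem Sat.t_2222 (h : Sat v) : tw v R [2, 2, 2, 2] = tw v R [3] := h.tw_eq [4, 3, 5] (by decide +kernel)
theorem Sat.t_3001 (h : Sat v) : tw v R [3, 0, 0, 1] = tw v R [3, 0] := h.tw_eq [7] (by decide +kernel)
theorem Sat.t_3011 (h : Sat v) : tw v R [3, 0, 1, 1] = tw v R [3, 0] := h.tw_eq [1] (by decide +kernel)
theorem Sat.t_3200 (h : Sat v) : tw v R [3, 2, 0, 0] = tw v R [2, 2] := h.tw_eq [4, 4, 1] (by decide +kernel)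
theorem Sat.t_3201 (h : Sat v) : tw v R [3, 2, 0, 1] = tw v R [2, 2] := h.tw_eq [3, 4, 8, 0] (by decide +kernel)
theorem Sat.t_3211 (h : Sat v) : tw v R [3, 2, 1, 1] = tw v R [2, 2] := h.tw_eq [4, 4, 7] (by decide +kernel)
theorem Sat.t_3220 (h : Sat v) : tw v R [3, 2, 2, 0] = tw v R [3, 0] := h.tw_eq [2, 3, 1] (by decide +kernel)
theorem Sat.t_3221 (h : Sat v) : tw v R [3, 2, 2, 1] = tw v R [3, 0] := h.tw_eq [1, 2, 3] (by decide +kernel)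
theorem Sat.t_3222 (h : Sat v) : tw v R [3, 2, 2, 2] = tw v R [2, 2] := h.tw_eq [3, 4] (by decide +kernel)
theorem Sat.t_3322 (h : Sat v) : tw v R [3, 3, 2, 2] = tw v R [2, 2] := h.tw_eq [] (by decide +kernel)
theorem Sat.t_3422 (h : Sat v) : tw v R [3, 4, 2, 2] = tw v R [2, 2, 2, 2, 2, 2, 2] := h.tw_eq [4, 4] (by decide +kernel)
theorem Sat.t_3432 (h : Sat v) : tw v R [3, 4, 3, 2] = tw v R [3] := h.tw_eq [1, 6] (by decide +kernel)
theorem Sat.t_3442 (h : Sat v) : tw v R [3, 4, 4, 2] = tw v R [3, 0] := h.tw_eq [6, 6, 1] (by decide +kernel)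
theorem Sat.t_3443 (h : Sat v) : tw v R [3, 4, 4, 3] = tw v R [0] := h.tw_eq [4, 3, 6] (by decide +kernel)
theorem Sat.t_4222 (h : Sat v) : tw v R [4, 2, 2, 2] = tw v R [3] := h.tw_eq [2, 4] (by decide +kernel)
theorem Sat.t_4322 (h : Sat v) : tw v R [4, 3, 2, 2] = tw v R [2] := h.tw_eq [4] (by decide +kernel)
theorem Sat.t_4422 (h : Sat v) : tw v R [4, 4, 2, 2] = tw v R [0] := h.tw_eq [2, 6, 0, 3] (by decide +kernel)
theorem Sat.t_4432 (h : Sat v) : tw v R [4, 4, 3, 2] = tw v R [0] := h.tw_eq [4, 3, 5] (by decide +kernel)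
theorem Sat.t_5555 (h : Sat v) : tw v R [5, 5, 5, 5] = tw v R [5] := h.tw_eq [3, 6, 0] (by decide +kernel)
theorem Sat.t_5557 (h : Sat v) : tw v R [5, 5, 5, 7] = tw v R [6] := h.tw_eq [2, 4, 3, 5] (by decide +kernel)
theorem Sat.t_6666 (h : Sat v) : tw v R [6, 6, 6, 6] = tw v R [6] := h.tw_eq [7] (by decide +kernel)
theorem Sat.t_20011 (h : Sat v) : tw v R [2, 0, 0, 1, 1] = tw v R [2] := h.tw_eq [0] (by decide +kernel)
theorem Sat.t_22001 (h : Sat v) : tw v R [2, 2, 0, 0, 1] = tw v R [2, 2] := h.tw_eq [0, 0] (by decide +kernel)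
theorem Sat.t_22011 (h : Sat v) : tw v R [2, 2, 0, 1, 1] = tw v R [2, 2] := h.tw_eq [0] (by decide +kernel)
theorem Sat.t_22200 (h : Sat v) : tw v R [2, 2, 2, 0, 0] = tw v R [2] := h.tw_eq [0, 2, 3] (by decide +kernel)
theorem Sat.t_22201 (h : Sat v) : tw v R [2, 2, 2, 0, 1] = tw v R [2] := h.tw_eq [1, 3] (by decide +kernel)
theorem Sat.t_22211 (h : Sat v) : tw v R [2, 2, 2, 1, 1] = tw v R [2] := h.tw_eq [3, 7] (by decide +kernel)
theorem Sat.t_22220 (h : Sat v) : tw v R [2, 2, 2, 2, 0] = tw v R [3] := h.tw_eq [1, 2, 6] (by decide +kernel)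
theorem Sat.t_22221 (h : Sat v) : tw v R [2, 2, 2, 2, 1] = tw v R [3] := h.tw_eq [6, 6] (by decide +kernel)
theorem Sat.t_22222 (h : Sat v) : tw v R [2, 2, 2, 2, 2] = tw v R [2, 2, 2, 2, 2, 2, 2] := h.tw_eq [3] (by decide +kernel)
theorem Sat.t_30011 (h : Sat v) : tw v R [3, 0, 0, 1, 1] = tw v R [3, 0] := h.tw_eq [1, 7] (by decide +kernel)
theorem Sat.t_32001 (h : Sat v) : tw v R [3, 2, 0, 0, 1] = tw v R [2, 2] := h.tw_eq [1, 8, 5, 4] (by decide +kernel)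
theorem Sat.t_32011 (h : Sat v) : tw v R [3, 2, 0, 1, 1] = tw v R [2, 2] := h.tw_eq [0, 6, 1, 4] (by decide +kernel)
theorem Sat.t_32200 (h : Sat v) : tw v R [3, 2, 2, 0, 0] = tw v R [3, 0] := h.tw_eq [2, 8] (by decide +kernel)
theorem Sat.t_32201 (h : Sat v) : tw v R [3, 2, 2, 0, 1] = tw v R [3, 0] := h.tw_eq [1, 2, 8] (by decide +kernel)
theorem Sat.t_32211 (h : Sat v) : tw v R [3, 2, 2, 1, 1] = tw v R [3, 0] := h.tw_eq [2, 3, 7] (by decide +kernel)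
theorem Sat.t_32220 (h : Sat v) : tw v R [3, 2, 2, 2, 0] = tw v R [2, 2] := h.tw_eq [3, 4, 1] (by decide +kernel)
theorem Sat.t_32221 (h : Sat v) : tw v R [3, 2, 2, 2, 1] = tw v R [2, 2] := h.tw_eq [3, 4, 0, 1] (by decide +kernel)
theorem Sat.t_32222 (h : Sat v) : tw v R [3, 2, 2, 2, 2] = tw v R [3] := h.tw_eq [2, 2] (by decide +kernel)
theorem Sat.t_33222 (h : Sat v) : tw v R [3, 3, 2, 2, 2] = tw v R [2] := h.tw_eq [3] (by decide +kernel)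
theorem Sat.t_34222 (h : Sat v) : tw v R [3, 4, 2, 2, 2] = tw v R [3, 0] := h.tw_eq [6, 6, 1, 3] (by decide +kernel)
theorem Sat.t_34322 (h : Sat v) : tw v R [3, 4, 3, 2, 2] = tw v R [0] := h.tw_eq [2, 6, 0, 3] (by decide +kernel)
theorem Sat.t_34422 (h : Sat v) : tw v R [3, 4, 4, 2, 2] = tw v R [2] := h.tw_eq [4] (by decide +kernel)
theorem Sat.t_34432 (h : Sat v) : tw v R [3, 4, 4, 3, 2] = tw v R [2, 2, 2, 2, 2, 2, 2] := h.tw_eq [4] (by decide +kernel)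
theorem Sat.t_42222 (h : Sat v) : tw v R [4, 2, 2, 2, 2] = tw v R [3, 0] := h.tw_eq [1, 4, 4, 6] (by decide +kernel)
theorem Sat.t_43222 (h : Sat v) : tw v R [4, 3, 2, 2, 2] = tw v R [0] := h.tw_eq [2, 6, 0, 4] (by decide +kernel)
theorem Sat.t_44222 (h : Sat v) : tw v R [4, 4, 2, 2, 2] = tw v R [2, 2, 2, 2, 2, 2, 2] := h.tw_eq [4, 2] (by decide +kernel)
theorem Sat.t_44322 (h : Sat v) : tw v R [4, 4, 3, 2, 2] = tw v R [2, 2, 2, 2, 2, 2, 2] := h.tw_eq [4, 4] (by decide +kernel)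
theorem Sat.t_55555 (h : Sat v) : tw v R [5, 5, 5, 5, 5] = tw v R [5] := h.tw_eq [6, 6, 6] (by decide +kernel)
theorem Sat.t_55557 (h : Sat v) : tw v R [5, 5, 5, 5, 7] = tw v R [6] := h.tw_eq [1, 2, 5, 2, 1] (by decide +kernel)
theorem Sat.t_220011 (h : Sat v) : tw v R [2, 2, 0, 0, 1, 1] = tw v R [2, 2] := h.tw_eq [0, 7] (by decide +kernel)
theorem Sat.t_222001 (h : Sat v) : tw v R [2, 2, 2, 0, 0, 1] = tw v R [2] := h.tw_eq [8] (by decide +kernel)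
theorem Sat.t_222011 (h : Sat v) : tw v R [2, 2, 2, 0, 1, 1] = tw v R [2] := h.tw_eq [8, 0] (by decide +kernel)
theorem Sat.t_222200 (h : Sat v) : tw v R [2, 2, 2, 2, 0, 0] = tw v R [3] := h.tw_eq [5, 6, 4] (by decide +kernel)
theorem Sat.t_222201 (h : Sat v) : tw v R [2, 2, 2, 2, 0, 1] = tw v R [3] := h.tw_eq [4, 7, 4] (by decide +kernel)
theorem Sat.t_222211 (h : Sat v) : tw v R [2, 2, 2, 2, 1, 1] = tw v R [3] := h.tw_eq [6, 6, 3] (by decide +kernel)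
theorem Sat.t_222220 (h : Sat v) : tw v R [2, 2, 2, 2, 2, 0] = tw v R [2, 2, 2, 2, 2, 2, 2] := h.tw_eq [1, 3] (by decide +kernel)
theorem Sat.t_222221 (h : Sat v) : tw v R [2, 2, 2, 2, 2, 1] = tw v R [2, 2, 2, 2, 2, 2, 2] := h.tw_eq [8] (by decide +kernel)
theorem Sat.t_222222 (h : Sat v) : tw v R [2, 2, 2, 2, 2, 2] = tw v R [2, 2] := h.tw_eq [3] (by decide +kernel)
theorem Sat.t_320011 (h : Sat v) : tw v R [3, 2, 0, 0, 1, 1] = tw v R [2, 2] := h.tw_eq [3, 4, 8] (by decide +kernel)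
theorem Sat.t_322001 (h : Sat v) : tw v R [3, 2, 2, 0, 0, 1] = tw v R [3] := h.tw_eq [2, 5] (by decide +kernel)
theorem Sat.t_322011 (h : Sat v) : tw v R [3, 2, 2, 0, 1, 1] = tw v R [3] := h.tw_eq [2, 8] (by decide +kernel)
theorem Sat.t_322200 (h : Sat v) : tw v R [3, 2, 2, 2, 0, 0] = tw v R [2, 2] := h.tw_eq [3, 4, 0, 7] (by decide +kernel)
theorem Sat.t_322201 (h : Sat v) : tw v R [3, 2, 2, 2, 0, 1] = tw v R [2, 2] := h.tw_eq [3, 4, 7] (by decide +kernel)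
theorem Sat.t_322211 (h : Sat v) : tw v R [3, 2, 2, 2, 1, 1] = tw v R [2, 2] := h.tw_eq [3, 4, 7, 0] (by decide +kernel)
theorem Sat.t_322220 (h : Sat v) : tw v R [3, 2, 2, 2, 2, 0] = tw v R [3] := h.tw_eq [1, 2, 2] (by decide +kernel)
theorem Sat.t_322221 (h : Sat v) : tw v R [3, 2, 2, 2, 2, 1] = tw v R [3, 0] := h.tw_eq [2, 2] (by decide +kernel)
theorem Sat.t_322222 (h : Sat v) : tw v R [3, 2, 2, 2, 2, 2] = tw v R [2, 2] := h.tw_eq [4, 2] (by decide +kernel)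
theorem Sat.t_332222 (h : Sat v) : tw v R [3, 3, 2, 2, 2, 2] = tw v R [3] := h.tw_eq [4, 3, 5] (by decide +kernel)
theorem Sat.t_342222 (h : Sat v) : tw v R [3, 4, 2, 2, 2, 2] = tw v R [3] := h.tw_eq [4, 2] (by decide +kernel)
theorem Sat.t_343222 (h : Sat v) : tw v R [3, 4, 3, 2, 2, 2] = tw v R [2, 2, 2, 2, 2, 2, 2] := h.tw_eq [4, 2] (by decide +kernel)
theorem Sat.t_344222 (h : Sat v) : tw v R [3, 4, 4, 2, 2, 2] = tw v R [0] := h.tw_eq [2, 6, 0, 4] (by decide +kernel)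
theorem Sat.t_344322 (h : Sat v) : tw v R [3, 4, 4, 3, 2, 2] = tw v R [3, 0] := h.tw_eq [1, 2, 6, 0] (by decide +kernel)
theorem Sat.t_422222 (h : Sat v) : tw v R [4, 2, 2, 2, 2, 2] = tw v R [2] := h.tw_eq [3, 4] (by decide +kernel)
theorem Sat.t_432222 (h : Sat v) : tw v R [4, 3, 2, 2, 2, 2] = tw v R [3] := h.tw_eq [1, 6, 2] (by decide +kernel)
theorem Sat.t_442222 (h : Sat v) : tw v R [4, 4, 2, 2, 2, 2] = tw v R [3, 0] := h.tw_eq [7, 4, 3, 6] (by decide +kernel)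
theorem Sat.t_443222 (h : Sat v) : tw v R [4, 4, 3, 2, 2, 2] = tw v R [3, 0] := h.tw_eq [6, 6, 1, 3] (by decide +kernel)
theorem Sat.t_555555 (h : Sat v) : tw v R [5, 5, 5, 5, 5, 5] = tw v R [5, 5, 5, 5, 5, 5, 5, 5, 5, 5] := h.tw_eq [6, 6, 6] (by decide +kernel)
theorem Sat.t_555557 (h : Sat v) : tw v R [5, 5, 5, 5, 5, 7] = tw v R [3, 0] := h.tw_eq [4, 0, 0, 2] (by decide +kernel)
theorem Sat.t_2220011 (h : Sat v) : tw v R [2, 2, 2, 0, 0, 1, 1] = tw v R [2] := h.tw_eq [3, 1] (by decide +kernel)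
theorem Sat.t_2222001 (h : Sat v) : tw v R [2, 2, 2, 2, 0, 0, 1] = tw v R [3] := h.tw_eq [2, 3, 5] (by decide +kernel)
theorem Sat.t_2222011 (h : Sat v) : tw v R [2, 2, 2, 2, 0, 1, 1] = tw v R [3] := h.tw_eq [2, 4, 5] (by decide +kernel)
theorem Sat.t_2222200 (h : Sat v) : tw v R [2, 2, 2, 2, 2, 0, 0] = tw v R [2, 2, 2, 2, 2, 2, 2] := h.tw_eq [3, 1] (by decide +kernel)
theorem Sat.t_2222201 (h : Sat v) : tw v R [2, 2, 2, 2, 2, 0, 1] = tw v R [2, 2, 2, 2, 2, 2, 2] := h.tw_eq [3, 7] (by decide +kernel)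
theorem Sat.t_2222211 (h : Sat v) : tw v R [2, 2, 2, 2, 2, 1, 1] = tw v R [2, 2, 2, 2, 2, 2, 2] := h.tw_eq [8, 0] (by decide +kernel)
theorem Sat.t_2222220 (h : Sat v) : tw v R [2, 2, 2, 2, 2, 2, 0] = tw v R [2, 2] := h.tw_eq [8, 2] (by decide +kernel)
theorem Sat.t_2222221 (h : Sat v) : tw v R [2, 2, 2, 2, 2, 2, 1] = tw v R [2, 2] := h.tw_eq [0, 2, 3] (by decide +kernel)
theorem Sat.t_3220011 (h : Sat v) : tw v R [3, 2, 2, 0, 0, 1, 1] = tw v R [3, 0] := h.tw_eq [2, 3] (by decide +kernel)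
theorem Sat.t_3222001 (h : Sat v) : tw v R [3, 2, 2, 2, 0, 0, 1] = tw v R [2, 2] := h.tw_eq [3, 4, 0] (by decide +kernel)
theorem Sat.t_3222011 (h : Sat v) : tw v R [3, 2, 2, 2, 0, 1, 1] = tw v R [2, 2] := h.tw_eq [1, 6, 6, 5] (by decide +kernel)
theorem Sat.t_3222200 (h : Sat v) : tw v R [3, 2, 2, 2, 2, 0, 0] = tw v R [3] := h.tw_eq [2, 2, 0] (by decide +kernel)
theorem Sat.t_3222201 (h : Sat v) : tw v R [3, 2, 2, 2, 2, 0, 1] = tw v R [3, 0] := h.tw_eq [1, 2, 2] (by decide +kernel)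
theorem Sat.t_3222211 (h : Sat v) : tw v R [3, 2, 2, 2, 2, 1, 1] = tw v R [3, 0] := h.tw_eq [2, 2, 3] (by decide +kernel)
theorem Sat.t_3222220 (h : Sat v) : tw v R [3, 2, 2, 2, 2, 2, 0] = tw v R [2, 2] := h.tw_eq [4, 1, 8] (by decide +kernel)
theorem Sat.t_3222221 (h : Sat v) : tw v R [3, 2, 2, 2, 2, 2, 1] = tw v R [2, 2] := h.tw_eq [4, 8] (by decide +kernel)
theorem Sat.t_3222222 (h : Sat v) : tw v R [3, 2, 2, 2, 2, 2, 2] = tw v R [3] := h.tw_eq [2] (by decide +kernel)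
theorem Sat.t_3322222 (h : Sat v) : tw v R [3, 3, 2, 2, 2, 2, 2] = tw v R [2, 2, 2, 2, 2, 2, 2] := h.tw_eq [3] (by decide +kernel)
theorem Sat.t_3422222 (h : Sat v) : tw v R [3, 4, 2, 2, 2, 2, 2] = tw v R [3, 0] := h.tw_eq [4, 3, 5] (by decide +kernel)
theorem Sat.t_3432222 (h : Sat v) : tw v R [3, 4, 3, 2, 2, 2, 2] = tw v R [3, 0] := h.tw_eq [7, 4, 3, 6] (by decide +kernel)
theorem Sat.t_3442222 (h : Sat v) : tw v R [3, 4, 4, 2, 2, 2, 2] = tw v R [3] := h.tw_eq [1, 6, 2] (by decide +kernel)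
theorem Sat.t_3443222 (h : Sat v) : tw v R [3, 4, 4, 3, 2, 2, 2] = tw v R [3] := h.tw_eq [2, 4] (by decide +kernel)
theorem Sat.t_4222222 (h : Sat v) : tw v R [4, 2, 2, 2, 2, 2, 2] = tw v R [0] := h.tw_eq [2, 6, 0] (by decide +kernel)
theorem Sat.t_4322222 (h : Sat v) : tw v R [4, 3, 2, 2, 2, 2, 2] = tw v R [0] := h.tw_eq [6, 6, 1] (by decide +kernel)
theorem Sat.t_4422222 (h : Sat v) : tw v R [4, 4, 2, 2, 2, 2, 2] = tw v R [3] := h.tw_eq [1, 4, 6] (by decide +kernel)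
theorem Sat.t_4432222 (h : Sat v) : tw v R [4, 4, 3, 2, 2, 2, 2] = tw v R [3] := h.tw_eq [4, 2] (by decide +kernel)
theorem Sat.t_5555555 (h : Sat v) : tw v R [5, 5, 5, 5, 5, 5, 5] = tw v R [5, 5, 5, 5, 5, 5, 5, 5, 5, 5] := h.tw_eq [3, 6, 0] (by decide +kernel)
theorem Sat.t_5555557 (h : Sat v) : tw v R [5, 5, 5, 5, 5, 5, 7] = tw v R [3, 0] := h.tw_eq [4, 2] (by decide +kernel)
theorem Sat.t_22220011 (h : Sat v) : tw v R [2, 2, 2, 2, 0, 0, 1, 1] = tw v R [3] := h.tw_eq [6, 6, 2] (by decide +kernel)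
theorem Sat.t_22222001 (h : Sat v) : tw v R [2, 2, 2, 2, 2, 0, 0, 1] = tw v R [2, 2, 2, 2, 2, 2, 2] := h.tw_eq [1, 8] (by decide +kernel)
theorem Sat.t_22222011 (h : Sat v) : tw v R [2, 2, 2, 2, 2, 0, 1, 1] = tw v R [2, 2, 2, 2, 2, 2, 2] := h.tw_eq [0, 2, 3] (by decide +kernel)
theorem Sat.t_22222200 (h : Sat v) : tw v R [2, 2, 2, 2, 2, 2, 0, 0] = tw v R [2, 2] := h.tw_eq [3, 7] (by decide +kernel)
theorem Sat.t_22222201 (h : Sat v) : tw v R [2, 2, 2, 2, 2, 2, 0, 1] = tw v R [2, 2] := h.tw_eq [8] (by decide +kernel)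
theorem Sat.t_22222211 (h : Sat v) : tw v R [2, 2, 2, 2, 2, 2, 1, 1] = tw v R [2, 2] := h.tw_eq [1, 8] (by decide +kernel)
theorem Sat.t_22222220 (h : Sat v) : tw v R [2, 2, 2, 2, 2, 2, 2, 0] = tw v R [2, 2, 2, 2, 2, 2, 2] := h.tw_eq [1] (by decide +kernel)
theorem Sat.t_22222221 (h : Sat v) : tw v R [2, 2, 2, 2, 2, 2, 2, 1] = tw v R [2, 2, 2, 2, 2, 2, 2] := h.tw_eq [0, 0] (by decide +kernel)
theorem Sat.t_32220011 (h : Sat v) : tw v R [3, 2, 2, 2, 0, 0, 1, 1] = tw v R [2, 2] := h.tw_eq [4, 8, 2] (by decide +kernel)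
theorem Sat.t_32222001 (h : Sat v) : tw v R [3, 2, 2, 2, 2, 0, 0, 1] = tw v R [3, 0] := h.tw_eq [2, 2, 0] (by decide +kernel)
theorem Sat.t_32222011 (h : Sat v) : tw v R [3, 2, 2, 2, 2, 0, 1, 1] = tw v R [3, 0] := h.tw_eq [1, 2, 2, 3] (by decide +kernel)
theorem Sat.t_32222200 (h : Sat v) : tw v R [3, 2, 2, 2, 2, 2, 0, 0] = tw v R [2, 2] := h.tw_eq [4, 1, 2] (by decide +kernel)
theorem Sat.t_32222201 (h : Sat v) : tw v R [3, 2, 2, 2, 2, 2, 0, 1] = tw v R [2, 2] := h.tw_eq [4, 0, 2] (by decide +kernel)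
theorem Sat.t_32222211 (h : Sat v) : tw v R [3, 2, 2, 2, 2, 2, 1, 1] = tw v R [2, 2] := h.tw_eq [4, 8, 0] (by decide +kernel)
theorem Sat.t_32222220 (h : Sat v) : tw v R [3, 2, 2, 2, 2, 2, 2, 0] = tw v R [3, 0] := h.tw_eq [1, 1, 2] (by decide +kernel)
theorem Sat.t_32222221 (h : Sat v) : tw v R [3, 2, 2, 2, 2, 2, 2, 1] = tw v R [3, 0] := h.tw_eq [7, 2] (by decide +kernel)
theorem Sat.t_32222222 (h : Sat v) : tw v R [3, 2, 2, 2, 2, 2, 2, 2] = tw v R [2, 2] := h.tw_eq [4] (by decide +kernel)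
theorem Sat.t_33222222 (h : Sat v) : tw v R [3, 3, 2, 2, 2, 2, 2, 2] = tw v R [2, 2] := h.tw_eq [3] (by decide +kernel)
theorem Sat.t_34222222 (h : Sat v) : tw v R [3, 4, 2, 2, 2, 2, 2, 2] = tw v R [2] := h.tw_eq [4, 2] (by decide +kernel)
theorem Sat.t_34322222 (h : Sat v) : tw v R [3, 4, 3, 2, 2, 2, 2, 2] = tw v R [3] := h.tw_eq [1, 4, 6] (by decide +kernel)
theorem Sat.t_34422222 (h : Sat v) : tw v R [3, 4, 4, 2, 2, 2, 2, 2] = tw v R [0] := h.tw_eq [6, 6, 1] (by decide +kernel)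
theorem Sat.t_34432222 (h : Sat v) : tw v R [3, 4, 4, 3, 2, 2, 2, 2] = tw v R [3, 0] := h.tw_eq [1, 4, 4, 6] (by decide +kernel)
theorem Sat.t_42222222 (h : Sat v) : tw v R [4, 2, 2, 2, 2, 2, 2, 2] = tw v R [3] := h.tw_eq [2, 3, 4] (by decide +kernel)
theorem Sat.t_43222222 (h : Sat v) : tw v R [4, 3, 2, 2, 2, 2, 2, 2] = tw v R [2, 2, 2, 2, 2, 2, 2] := h.tw_eq [3, 4] (by decide +kernel)
theorem Sat.t_44222222 (h : Sat v) : tw v R [4, 4, 2, 2, 2, 2, 2, 2] = tw v R [3, 0] := h.tw_eq [4, 2, 6, 5] (by decide +kernel)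
theorem Sat.t_44322222 (h : Sat v) : tw v R [4, 4, 3, 2, 2, 2, 2, 2] = tw v R [3, 0] := h.tw_eq [4, 3, 5] (by decide +kernel)
theorem Sat.t_55555555 (h : Sat v) : tw v R [5, 5, 5, 5, 5, 5, 5, 5] = tw v R [5, 5, 5, 5, 5, 5, 5, 5, 5, 5] := h.tw_eq [6] (by decide +kernel)
theorem Sat.t_55555557 (h : Sat v) : tw v R [5, 5, 5, 5, 5, 5, 5, 7] = tw v R [6] := h.tw_eq [1, 6, 8] (by decide +kernel)
theorem Sat.t_222220011 (h : Sat v) : tw v R [2, 2, 2, 2, 2, 0, 0, 1, 1] = tw v R [2, 2, 2, 2, 2, 2, 2] := h.tw_eq [8, 2] (by decide +kernel)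
theorem Sat.t_222222001 (h : Sat v) : tw v R [2, 2, 2, 2, 2, 2, 0, 0, 1] = tw v R [2, 2] := h.tw_eq [3, 1] (by decide +kernel)
theorem Sat.t_222222011 (h : Sat v) : tw v R [2, 2, 2, 2, 2, 2, 0, 1, 1] = tw v R [2, 2] := h.tw_eq [1, 3] (by decide +kernel)
theorem Sat.t_222222200 (h : Sat v) : tw v R [2, 2, 2, 2, 2, 2, 2, 0, 0] = tw v R [2, 2, 2, 2, 2, 2, 2] := h.tw_eq [0, 7] (by decide +kernel)
theorem Sat.t_222222201 (h : Sat v) : tw v R [2, 2, 2, 2, 2, 2, 2, 0, 1] = tw v R [2, 2, 2, 2, 2, 2, 2] := h.tw_eq [0, 2] (by decide +kernel)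
theorem Sat.t_222222211 (h : Sat v) : tw v R [2, 2, 2, 2, 2, 2, 2, 1, 1] = tw v R [2, 2, 2, 2, 2, 2, 2] := h.tw_eq [0] (by decide +kernel)
theorem Sat.t_322220011 (h : Sat v) : tw v R [3, 2, 2, 2, 2, 0, 0, 1, 1] = tw v R [3, 0] := h.tw_eq [2, 2, 7] (by decide +kernel)
theorem Sat.t_322222001 (h : Sat v) : tw v R [3, 2, 2, 2, 2, 2, 0, 0, 1] = tw v R [2, 2] := h.tw_eq [4, 1, 3] (by decide +kernel)
theorem Sat.t_322222011 (h : Sat v) : tw v R [3, 2, 2, 2, 2, 2, 0, 1, 1] = tw v R [2, 2] := h.tw_eq [4, 2, 1] (by decide +kernel)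
theorem Sat.t_322222200 (h : Sat v) : tw v R [3, 2, 2, 2, 2, 2, 2, 0, 0] = tw v R [3, 0] := h.tw_eq [1, 7, 2] (by decide +kernel)
theorem Sat.t_322222201 (h : Sat v) : tw v R [3, 2, 2, 2, 2, 2, 2, 0, 1] = tw v R [3] := h.tw_eq [1, 2] (by decide +kernel)
theorem Sat.t_322222211 (h : Sat v) : tw v R [3, 2, 2, 2, 2, 2, 2, 1, 1] = tw v R [3, 0] := h.tw_eq [1, 2] (by decide +kernel)
theorem Sat.t_322222220 (h : Sat v) : tw v R [3, 2, 2, 2, 2, 2, 2, 2, 0] = tw v R [2, 2] := h.tw_eq [4, 7] (by decide +kernel)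
theorem Sat.t_322222221 (h : Sat v) : tw v R [3, 2, 2, 2, 2, 2, 2, 2, 1] = tw v R [2, 2] := h.tw_eq [4, 0, 0] (by decide +kernel)
theorem Sat.t_332222222 (h : Sat v) : tw v R [3, 3, 2, 2, 2, 2, 2, 2, 2] = tw v R [2, 2, 2, 2, 2, 2, 2] := h.tw_eq [] (by decide +kernel)
theorem Sat.t_342222222 (h : Sat v) : tw v R [3, 4, 2, 2, 2, 2, 2, 2, 2] = tw v R [0] := h.tw_eq [4, 7, 5, 8] (by decide +kernel)
theorem Sat.t_343222222 (h : Sat v) : tw v R [3, 4, 3, 2, 2, 2, 2, 2, 2] = tw v R [3, 0] := h.tw_eq [4, 2, 6, 5] (by decide +kernel)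
theorem Sat.t_344222222 (h : Sat v) : tw v R [3, 4, 4, 2, 2, 2, 2, 2, 2] = tw v R [2, 2, 2, 2, 2, 2, 2] := h.tw_eq [3, 4] (by decide +kernel)
theorem Sat.t_344322222 (h : Sat v) : tw v R [3, 4, 4, 3, 2, 2, 2, 2, 2] = tw v R [2] := h.tw_eq [3, 4] (by decide +kernel)
theorem Sat.t_432222222 (h : Sat v) : tw v R [4, 3, 2, 2, 2, 2, 2, 2, 2] = tw v R [3, 0] := h.tw_eq [4, 3, 5, 3] (by decide +kernel)
theorem Sat.t_442222222 (h : Sat v) : tw v R [4, 4, 2, 2, 2, 2, 2, 2, 2] = tw v R [2] := h.tw_eq [4, 4] (by decide +kernel)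
theorem Sat.t_443222222 (h : Sat v) : tw v R [4, 4, 3, 2, 2, 2, 2, 2, 2] = tw v R [2] := h.tw_eq [4, 2] (by decide +kernel)
theorem Sat.t_555555555 (h : Sat v) : tw v R [5, 5, 5, 5, 5, 5, 5, 5, 5] = tw v R [5] := h.tw_eq [6, 6] (by decide +kernel)
theorem Sat.t_555555557 (h : Sat v) : tw v R [5, 5, 5, 5, 5, 5, 5, 5, 7] = tw v R [6] := h.tw_eq [0, 0, 1, 6, 6] (by decide +kernel)
theorem Sat.t_2222220011 (h : Sat v) : tw v R [2, 2, 2, 2, 2, 2, 0, 0, 1, 1] = tw v R [2, 2] := h.tw_eq [8, 0] (by decide +kernel)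
theorem Sat.t_2222222001 (h : Sat v) : tw v R [2, 2, 2, 2, 2, 2, 2, 0, 0, 1] = tw v R [2, 2, 2, 2, 2, 2, 2] := h.tw_eq [1, 2] (by decide +kernel)
theorem Sat.t_2222222011 (h : Sat v) : tw v R [2, 2, 2, 2, 2, 2, 2, 0, 1, 1] = tw v R [2, 2, 2, 2, 2, 2, 2] := h.tw_eq [0, 1] (by decide +kernel)
theorem Sat.t_3222220011 (h : Sat v) : tw v R [3, 2, 2, 2, 2, 2, 0, 0, 1, 1] = tw v R [2, 2] := h.tw_eq [4, 2, 7] (by decide +kernel)
theorem Sat.t_3222222001 (h : Sat v) : tw v R [3, 2, 2, 2, 2, 2, 2, 0, 0, 1] = tw v R [3, 0] := h.tw_eq [2] (by decide +kernel)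
theorem Sat.t_3222222011 (h : Sat v) : tw v R [3, 2, 2, 2, 2, 2, 2, 0, 1, 1] = tw v R [3, 0] := h.tw_eq [2, 7] (by decide +kernel)
theorem Sat.t_3222222200 (h : Sat v) : tw v R [3, 2, 2, 2, 2, 2, 2, 2, 0, 0] = tw v R [2, 2] := h.tw_eq [3, 4, 8, 2] (by decide +kernel)
theorem Sat.t_3222222201 (h : Sat v) : tw v R [3, 2, 2, 2, 2, 2, 2, 2, 0, 1] = tw v R [2, 2] := h.tw_eq [4, 0, 7] (by decide +kernel)
theorem Sat.t_3222222211 (h : Sat v) : tw v R [3, 2, 2, 2, 2, 2, 2, 2, 1, 1] = tw v R [2, 2] := h.tw_eq [4, 0] (by decide +kernel)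
theorem Sat.t_3432222222 (h : Sat v) : tw v R [3, 4, 3, 2, 2, 2, 2, 2, 2, 2] = tw v R [2] := h.tw_eq [4, 4] (by decide +kernel)
theorem Sat.t_3442222222 (h : Sat v) : tw v R [3, 4, 4, 2, 2, 2, 2, 2, 2, 2] = tw v R [3, 0] := h.tw_eq [4, 3, 5, 3] (by decide +kernel)
theorem Sat.t_3443222222 (h : Sat v) : tw v R [3, 4, 4, 3, 2, 2, 2, 2, 2, 2] = tw v R [0] := h.tw_eq [2, 6, 0] (by decide +kernel)
theorem Sat.t_4432222222 (h : Sat v) : tw v R [4, 4, 3, 2, 2, 2, 2, 2, 2, 2] = tw v R [0] := h.tw_eq [4, 7, 5, 8] (by decide +kernel)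
theorem Sat.t_5555555557 (h : Sat v) : tw v R [5, 5, 5, 5, 5, 5, 5, 5, 5, 7] = tw v R [5] := h.tw_eq [7, 5] (by decide +kernel)
theorem Sat.t_22222220011 (h : Sat v) : tw v R [2, 2, 2, 2, 2, 2, 2, 0, 0, 1, 1] = tw v R [2, 2, 2, 2, 2, 2, 2] := h.tw_eq [7] (by decide +kernel)
theorem Sat.t_32222220011 (h : Sat v) : tw v R [3, 2, 2, 2, 2, 2, 2, 0, 0, 1, 1] = tw v R [3] := h.tw_eq [5, 5] (by decide +kernel)
theorem Sat.t_32222222001 (h : Sat v) : tw v R [3, 2, 2, 2, 2, 2, 2, 2, 0, 0, 1] = tw v R [2, 2] := h.tw_eq [4, 0, 1] (by decide +kernel)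
theorem Sat.t_32222222011 (h : Sat v) : tw v R [3, 2, 2, 2, 2, 2, 2, 2, 0, 1, 1] = tw v R [2, 2] := h.tw_eq [4, 7, 0] (by decide +kernel)
theorem Sat.t_34432222222 (h : Sat v) : tw v R [3, 4, 4, 3, 2, 2, 2, 2, 2, 2, 2] = tw v R [3] := h.tw_eq [2, 3, 4] (by decide +kernel)
theorem Sat.t_55555555557 (h : Sat v) : tw v R [5, 5, 5, 5, 5, 5, 5, 5, 5, 5, 7] = tw v R [0] := h.tw_eq [4, 0, 6, 6] (by decide +kernel)
theorem Sat.t_322222220011 (h : Sat v) : tw v R [3, 2, 2, 2, 2, 2, 2, 2, 0, 0, 1, 1] = tw v R [2, 2] := h.tw_eq [4, 1] (by decide +kernel)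

end Cfsg.Agent.H6.M11
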