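import Cfsg.Agent.H6.M11.Elem

/-!
# Table of traces for `L₂(11)` (helper6)

Generated: `t_abc` is the trace of the word `abc` in terms of the representative of its class in `L₂(11)`.
-/

set_option autoImplicit false
set_option linter.unusedSectionVars false
set_option maxRecDepth 100000

namespace Cfsg.Agent.H6.M11

open Module LinearMap

variable {G : Type*} [Group G] {v : ℕ → G} {k : Type*} [Field k] {V : Type*} [AddCommGroup V] [Module k V]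
  {R : G →* End k V}

theorem SatL.op_eq (h : SatL v) {a b : List ℕ} (hr : (a, b) ∈ baseLL) : op v R a = op v R b := by
  unfold op
  rw [h.base hr]

theorem SatL.tw_eq (h : SatL v) {a b : List ℕ} (c : List ℕ) (hr : (c, a, b) ∈ certLL) : tw v R a = tw v R b :=
  tw_of_conj (h.cert hr)

theorem SatL.t_55 (h : SatL v) : tw v R [5, 5] = tw v R [5, 5, 5, 5, 5, 5, 5, 5, 5, 5] := h.tw_eq [6, 6] (by decide +kernel)
theorem SatL.t_65 (h : SatL v) : tw v R [6, 5] = tw v R [6] := h.tw_eq [5, 5, 5, 5, 5] (by decide +kernel)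
theorem SatL.t_76 (h : SatL v) : tw v R [7, 6] = tw v R [7] := h.tw_eq [6, 6, 6] (by decide +kernel)
theorem SatL.t_555 (h : SatL v) : tw v R [5, 5, 5] = tw v R [5] := h.tw_eq [6] (by decide +kernel)
theorem SatL.t_557 (h : SatL v) : tw v R [5, 5, 7] = tw v R [5, 5, 5, 5, 5, 5, 5, 5, 5, 5] := h.tw_eq [7, 5, 7] (by decide +kernel)
theorem SatL.t_655 (h : SatL v) : tw v R [6, 5, 5] = tw v R [6] := h.tw_eq [5, 5, 5, 5, 5, 5, 5, 5, 5, 5] (by decide +kernel)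
theorem SatL.t_665 (h : SatL v) : tw v R [6, 6, 5] = tw v R [6, 6] := h.tw_eq [5, 5, 5, 5] (by decide +kernel)
theorem SatL.t_666 (h : SatL v) : tw v R [6, 6, 6] = tw v R [6, 6] := h.tw_eq [7] (by decide +kernel)
theorem SatL.t_766 (h : SatL v) : tw v R [7, 6, 6] = tw v R [7] := h.tw_eq [6] (by decide +kernel)
theorem SatL.t_5555 (h : SatL v) : tw v R [5, 5, 5, 5] = tw v R [5] := h.tw_eq [7, 6, 7] (by decide +kernel)
theorem SatL.t_5557 (h : SatL v) : tw v R [5, 5, 5, 7] = tw v R [6] := h.tw_eq [5, 5, 7, 6, 5, 5] (by decide +kernel)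
theorem SatL.t_6555 (h : SatL v) : tw v R [6, 5, 5, 5] = tw v R [6] := h.tw_eq [5, 5, 5, 5] (by decide +kernel)
theorem SatL.t_6655 (h : SatL v) : tw v R [6, 6, 5, 5] = tw v R [6, 6] := h.tw_eq [5, 5, 5, 5, 5, 5, 5, 5] (by decide +kernel)
theorem SatL.t_6665 (h : SatL v) : tw v R [6, 6, 6, 5] = tw v R [6, 6, 6] := h.tw_eq [5, 5, 5, 5, 5, 5, 5, 5] (by decide +kernel)
theorem SatL.t_6666 (h : SatL v) : tw v R [6, 6, 6, 6] = tw v R [6] := h.tw_eq [7] (by decide +kernel)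
theorem SatL.t_7666 (h : SatL v) : tw v R [7, 6, 6, 6] = tw v R [7] := h.tw_eq [6, 7] (by decide +kernel)
theorem SatL.t_55555 (h : SatL v) : tw v R [5, 5, 5, 5, 5] = tw v R [5] := h.tw_eq [6, 6, 6] (by decide +kernel)
theorem SatL.t_55557 (h : SatL v) : tw v R [5, 5, 5, 5, 7] = tw v R [6, 6] := h.tw_eq [5, 6, 7, 5, 6, 5] (by decide +kernel)
theorem SatL.t_65555 (h : SatL v) : tw v R [6, 5, 5, 5, 5] = tw v R [6] := h.tw_eq [5, 5, 5, 5, 5, 5, 5, 5, 5] (by decide +kernel)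
theorem SatL.t_66555 (h : SatL v) : tw v R [6, 6, 5, 5, 5] = tw v R [6, 6] := h.tw_eq [5] (by decide +kernel)
theorem SatL.t_66655 (h : SatL v) : tw v R [6, 6, 6, 5, 5] = tw v R [6, 6, 6] := h.tw_eq [5, 5, 5, 5, 5] (by decide +kernel)
theorem SatL.t_66665 (h : SatL v) : tw v R [6, 6, 6, 6, 5] = tw v R [6, 6, 6, 6] := h.tw_eq [5, 5, 5, 5, 5, 5, 5] (by decide +kernel)
theorem SatL.t_76666 (h : SatL v) : tw v R [7, 6, 6, 6, 6] = tw v R [7] := h.tw_eq [6, 6] (by decide +kernel)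
theorem SatL.t_555555 (h : SatL v) : tw v R [5, 5, 5, 5, 5, 5] = tw v R [5, 5, 5, 5, 5, 5, 5, 5, 5, 5] := h.tw_eq [6, 6, 6] (by decide +kernel)
theorem SatL.t_655555 (h : SatL v) : tw v R [6, 5, 5, 5, 5, 5] = tw v R [6] := h.tw_eq [5, 5, 5] (by decide +kernel)
theorem SatL.t_665555 (h : SatL v) : tw v R [6, 6, 5, 5, 5, 5] = tw v R [6, 6] := h.tw_eq [5, 5, 5, 5, 5] (by decide +kernel)
theorem SatL.t_666555 (h : SatL v) : tw v R [6, 6, 6, 5, 5, 5] = tw v R [6, 6, 6] := h.tw_eq [5, 5] (by decide +kernel)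
theorem SatL.t_666655 (h : SatL v) : tw v R [6, 6, 6, 6, 5, 5] = tw v R [6, 6, 6, 6] := h.tw_eq [5, 5, 5] (by decide +kernel)
theorem SatL.t_5555555 (h : SatL v) : tw v R [5, 5, 5, 5, 5, 5, 5] = tw v R [5, 5, 5, 5, 5, 5, 5, 5, 5, 5] := h.tw_eq [7, 6, 7] (by decide +kernel)
theorem SatL.t_5555557 (h : SatL v) : tw v R [5, 5, 5, 5, 5, 5, 7] = tw v R [5, 5, 5, 5, 5, 7] := h.tw_eq [5, 7, 5, 6, 5] (by decide +kernel)
theorem SatL.t_6555555 (h : SatL v) : tw v R [6, 5, 5, 5, 5, 5, 5] = tw v R [6] := h.tw_eq [5, 5, 5, 5, 5, 5, 5, 5] (by decide +kernel)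
theorem SatL.t_6655555 (h : SatL v) : tw v R [6, 6, 5, 5, 5, 5, 5] = tw v R [6, 6] := h.tw_eq [5, 5, 5, 5, 5, 5, 5, 5, 5] (by decide +kernel)
theorem SatL.t_6665555 (h : SatL v) : tw v R [6, 6, 6, 5, 5, 5, 5] = tw v R [6, 6, 6] := h.tw_eq [5, 5, 5, 5, 5, 5, 5, 5, 5, 5] (by decide +kernel)
theorem SatL.t_6666555 (h : SatL v) : tw v R [6, 6, 6, 6, 5, 5, 5] = tw v R [6, 6, 6, 6] := h.tw_eq [5, 5, 5, 5, 5, 5, 5, 5, 5, 5] (by decide +kernel)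
theorem SatL.t_55555555 (h : SatL v) : tw v R [5, 5, 5, 5, 5, 5, 5, 5] = tw v R [5, 5, 5, 5, 5, 5, 5, 5, 5, 5] := h.tw_eq [6] (by decide +kernel)
theorem SatL.t_55555557 (h : SatL v) : tw v R [5, 5, 5, 5, 5, 5, 5, 7] = tw v R [6, 6] := h.tw_eq [5, 5, 7, 5, 5, 6, 6] (by decide +kernel)
theorem SatL.t_65555555 (h : SatL v) : tw v R [6, 5, 5, 5, 5, 5, 5, 5] = tw v R [6] := h.tw_eq [5, 5] (by decide +kernel)
theorem SatL.t_66555555 (h : SatL v) : tw v R [6, 6, 5, 5, 5, 5, 5, 5] = tw v R [6, 6] := h.tw_eq [5, 5] (by decide +kernel)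
theorem SatL.t_66655555 (h : SatL v) : tw v R [6, 6, 6, 5, 5, 5, 5, 5] = tw v R [6, 6, 6] := h.tw_eq [5, 5, 5, 5, 5, 5, 5] (by decide +kernel)
theorem SatL.t_66665555 (h : SatL v) : tw v R [6, 6, 6, 6, 5, 5, 5, 5] = tw v R [6, 6, 6, 6] := h.tw_eq [5, 5, 5, 5, 5, 5] (by decide +kernel)
theorem SatL.t_555555555 (h : SatL v) : tw v R [5, 5, 5, 5, 5, 5, 5, 5, 5] = tw v R [5] := h.tw_eq [6, 6] (by decide +kernel)
theorem SatL.t_555555557 (h : SatL v) : tw v R [5, 5, 5, 5, 5, 5, 5, 5, 7] = tw v R [6] := h.tw_eq [5, 7, 6, 6, 5, 6, 6] (by decide +kernel)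
theorem SatL.t_655555555 (h : SatL v) : tw v R [6, 5, 5, 5, 5, 5, 5, 5, 5] = tw v R [6] := h.tw_eq [5, 5, 5, 5, 5, 5, 5] (by decide +kernel)
theorem SatL.t_665555555 (h : SatL v) : tw v R [6, 6, 5, 5, 5, 5, 5, 5, 5] = tw v R [6, 6] := h.tw_eq [5, 5, 5, 5, 5, 5] (by decide +kernel)
theorem SatL.t_666555555 (h : SatL v) : tw v R [6, 6, 6, 5, 5, 5, 5, 5, 5] = tw v R [6, 6, 6] := h.tw_eq [5, 5, 5, 5] (by decide +kernel)
theorem SatL.t_666655555 (h : SatL v) : tw v R [6, 6, 6, 6, 5, 5, 5, 5, 5] = tw v R [6, 6, 6, 6] := h.tw_eq [5, 5] (by decide +kernel)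
theorem SatL.t_5555555557 (h : SatL v) : tw v R [5, 5, 5, 5, 5, 5, 5, 5, 5, 7] = tw v R [5] := h.tw_eq [7, 5] (by decide +kernel)
theorem SatL.t_6555555555 (h : SatL v) : tw v R [6, 5, 5, 5, 5, 5, 5, 5, 5, 5] = tw v R [6] := h.tw_eq [5] (by decide +kernel)
theorem SatL.t_6655555555 (h : SatL v) : tw v R [6, 6, 5, 5, 5, 5, 5, 5, 5, 5] = tw v R [6, 6] := h.tw_eq [5, 5, 5, 5, 5, 5, 5, 5, 5, 5] (by decide +kernel)
theorem SatL.t_6665555555 (h : SatL v) : tw v R [6, 6, 6, 5, 5, 5, 5, 5, 5, 5] = tw v R [6, 6, 6] := h.tw_eq [5] (by decide +kernel)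
theorem SatL.t_6666555555 (h : SatL v) : tw v R [6, 6, 6, 6, 5, 5, 5, 5, 5, 5] = tw v R [6, 6, 6, 6] := h.tw_eq [5, 5, 5, 5, 5, 5, 5, 5, 5] (by decide +kernel)
theorem SatL.t_55555555557 (h : SatL v) : tw v R [5, 5, 5, 5, 5, 5, 5, 5, 5, 5, 7] = tw v R [5, 7] := h.tw_eq [6, 5, 6, 5, 7, 5, 6] (by decide +kernel)
theorem SatL.t_65555555555 (h : SatL v) : tw v R [6, 5, 5, 5, 5, 5, 5, 5, 5, 5, 5] = tw v R [6] := h.tw_eq [5, 5, 5, 5, 5, 5] (by decide +kernel)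
theorem SatL.t_66555555555 (h : SatL v) : tw v R [6, 6, 5, 5, 5, 5, 5, 5, 5, 5, 5] = tw v R [6, 6] := h.tw_eq [5, 5, 5] (by decide +kernel)
theorem SatL.t_66655555555 (h : SatL v) : tw v R [6, 6, 6, 5, 5, 5, 5, 5, 5, 5, 5] = tw v R [6, 6, 6] := h.tw_eq [5, 5, 5, 5, 5, 5, 5, 5, 5] (by decide +kernel)
theorem SatL.t_66665555555 (h : SatL v) : tw v R [6, 6, 6, 6, 5, 5, 5, 5, 5, 5, 5] = tw v R [6, 6, 6, 6] := h.tw_eq [5, 5, 5, 5, 5] (by decide +kernel)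
theorem SatL.t_665555555555 (h : SatL v) : tw v R [6, 6, 5, 5, 5, 5, 5, 5, 5, 5, 5, 5] = tw v R [6, 6] := h.tw_eq [5, 5, 5, 5, 5, 5, 5] (by decide +kernel)
theorem SatL.t_666555555555 (h : SatL v) : tw v R [6, 6, 6, 5, 5, 5, 5, 5, 5, 5, 5, 5] = tw v R [6, 6, 6] := h.tw_eq [5, 5, 5, 5, 5, 5] (by decide +kernel)
theorem SatL.t_666655555555 (h : SatL v) : tw v R [6, 6, 6, 6, 5, 5, 5, 5, 5, 5, 5, 5] = tw v R [6, 6, 6, 6] := h.tw_eq [5] (by decide +kernel)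
theorem SatL.t_6665555555555 (h : SatL v) : tw v R [6, 6, 6, 5, 5, 5, 5, 5, 5, 5, 5, 5, 5] = tw v R [6, 6, 6] := h.tw_eq [5, 5, 5] (by decide +kernel)
theorem SatL.t_6666555555555 (h : SatL v) : tw v R [6, 6, 6, 6, 5, 5, 5, 5, 5, 5, 5, 5, 5] = tw v R [6, 6, 6, 6] := h.tw_eq [5, 5, 5, 5, 5, 5, 5, 5] (by decide +kernel)
theorem SatL.t_66665555555555 (h : SatL v) : tw v R [6, 6, 6, 6, 5, 5, 5, 5, 5, 5, 5, 5, 5, 5] = tw v R [6, 6, 6, 6] := h.tw_eq [5, 5, 5, 5] (by decide +kernel)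
theorem SatL.t_555557555557555557 (h : SatL v) : tw v R [5, 5, 5, 5, 5, 7, 5, 5, 5, 5, 5, 7, 5, 5, 5, 5, 5, 7] = tw v R [7] := h.tw_eq [6, 6, 5, 6] (by decide +kernel)

end Cfsg.Agent.H6.M11
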